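import Cfsg.Agent.Lib.BrauerPairs.DefectPairs
import Cfsg.Agent.Lib.BrauerPairs.Principal
import Cfsg.Agent.Lib.BrauerPairs.AbelianPIndex
import Cfsg.Agent.Lib.BlockHeights.Heights
import Cfsg.Agent.Lib.Characters.Ito

/-!
# Groups with a single block

If the centraliser of every element of order `p` has a normal `p`-subgroup containing its own
centraliser there, and no irreducible character has degree divisible by the full `p`-part of the
order, then there is only one `p`-block: a block has a non-trivial defect group, so a pair at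
some element of order `p`, whose centraliser has only the principal block.
-/

set_option autoImplicit false
set_option linter.unusedSectionVars false
set_option linter.style.haveILetI false

namespace Cfsg.Agent.Lib.Compute

open Cfsg Cfsg.Agent.Lib.Characters Cfsg.Agent.Lib.Blocks Cfsg.Agent.Lib.BrauerPairs

universe u

variable {G : Type u} [Group G] [Fintype G] {p : ℕ} {M : Ideal AlgInt} [hMp : M.IsPrime]

theorem eq_blockOf_of_mem {B : Set (IrrCharacter G)} (hB : IsPBlock M B) {χ : IrrCharacter G}
    (hχ : χ ∈ B) : B = blockOf M (χ : G → ℂ) := by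
  obtain ⟨η, rfl⟩ := hB
  ext ψ
  constructor
  · intro hψ g
    have := memLocalIdeal_sub (hψ g) (hχ g)
    simpa using this
  · intro hψ g
    have := memLocalIdeal_add (hψ g) (hχ g)
    simpa using this

/-- In an abelian `p`-group every block is principal. -/
theorem block_eq_principal_of_abelian (hM : IsPModular p M) (hpG : IsPGroup p G)
    (hab : ∀ a b : G, a * b = b * a) {B : Set (IrrCharacter G)} (hB : IsPBlock M B) :
    B = principalBlock M G := by
  classical
  haveI := Fact.mk hM.1
  obtain ⟨χ, hχ⟩ := IsPBlock.nonempty hB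
  have key : ∀ ψ : IrrCharacter G, SameBlock M (fun _ => (1 : ℂ)) (ψ : G → ℂ) := by
    intro ψ g
    obtain ⟨k, hk⟩ := IsPGroup.iff_orderOf.mp hpG g
    have h1 : (ψ : G → ℂ) 1 = 1 := by
      have hd := IsIrrCharacter.degree_dvd_index_of_abelian ψ.2 (⊤ : Subgroup G)
        (fun a _ b _ => hab a b) (Cfsg.Agent.Lib.Blocks.charDegree_eq ψ).symm
      rw [Subgroup.index_top, Nat.dvd_one] at hd
      rw [← Cfsg.Agent.Lib.Blocks.charDegree_eq ψ, hd, Nat.cast_one]
    have h2 := char_mul_congr (M := M) hM (IsIrrCharacter.isCharacter ψ.2)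
      (Commute.one_right g) hk
    rw [mul_one, h1] at h2
    simp only [centralChar, h1, div_one, mul_one]
    have h3 := memLocalIdeal_mul_left
      (memLocalRing_natCast (M := M) ((Subgroup.centralizer ({g} : Set G)).index))
      (memLocalIdeal_neg h2)
    convert h3 using 1
    ring
  rw [eq_blockOf_of_mem hB hχ]
  ext ψ
  refine ⟨fun _ => key ψ, fun _ g => ?_⟩
  have := memLocalIdeal_sub (key ψ g) (key χ g)
  simpa using this

/-- A block with a pair at `Q` is principal when `C(Q)` has only the principal block. -/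
theorem eq_principal_of_pair (hM : IsPModular p M) {Q : Subgroup G} (hQ : IsPGroup p Q)
    (hone : ∀ e : Set (IrrCharacter (Subgroup.centralizer (Q : Set G))), IsPBlock M e →
      e = principalBlock M (Subgroup.centralizer (Q : Set G)))
    {B : Set (IrrCharacter G)} (hB : IsPBlock M B) {g : G}
    (hg : g ∈ Subgroup.centralizer (Q : Set G)) (hne : ¬ MemLocalIdeal M (blockCoeff B g)) :
    B = principalBlock M G := by
  obtain ⟨f, hf⟩ := exists_pair_of_unit hM hQ hB hg hne
  have hf' := hone f hf.1.2
  subst hf'
  exact (existsUnique_isBrauerPairOf hM (isBrauerPair_principal hQ)).unique hf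
    (isBrauerPairOf_principal hM hQ)

/-- A group with a normal `p`-subgroup containing its centraliser has one block. -/
theorem block_eq_principal_of_constrained (hM : IsPModular p M) {Q : Subgroup G} [Q.Normal]
    (hQ : IsPGroup p Q) (hC : Subgroup.centralizer (Q : Set G) ≤ Q)
    {B : Set (IrrCharacter G)} (hB : IsPBlock M B) : B = principalBlock M G := by
  classical
  haveI := Fact.mk hM.1
  obtain ⟨D, hD⟩ := exists_isDefectGroup hM hB
  obtain ⟨g, hg, P, rfl⟩ := id hD
  obtain ⟨χ, hχ⟩ := IsPBlock.nonempty hB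
  have hgQ : g ∈ Subgroup.centralizer (Q : Set G) :=
    mem_centralizer_of_centralChar_ne hM hQ (hg.2.2 χ hχ)
  refine eq_principal_of_pair hM hQ (fun e he => block_eq_principal_of_abelian hM ?_ ?_ he) hB
    hgQ hg.2.1
  · exact hQ.to_le hC
  · intro a b
    exact Subtype.ext (Subgroup.mem_centralizer_iff.mp b.2 a (hC a.2))

/-- **A single block.** -/
theorem sameBlock_of_constrained (hM : IsPModular p M)
    (hcon : ∀ x : G, orderOf x = p → ∃ Q : Subgroup G, IsPGroup p Q ∧
      Q ≤ Subgroup.centralizer ({x} : Set G) ∧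
      (∀ g ∈ Subgroup.centralizer ({x} : Set G), ∀ q ∈ Q, g * q * g⁻¹ ∈ Q) ∧
      ∀ g ∈ Subgroup.centralizer ({x} : Set G), (∀ q ∈ Q, g * q = q * g) → g ∈ Q)
    (hdeg : ∀ χ : IrrCharacter G,
      (charDegree (χ : G → ℂ)).factorization p < (Nat.card G).factorization p)
    (χ ψ : IrrCharacter G) : SameBlock M (χ : G → ℂ) (ψ : G → ℂ) := by
  classical
  haveI := Fact.mk hM.1
  have key : ∀ B : Set (IrrCharacter G), IsPBlock M B → B = principalBlock M G := by
    intro B hB
    obtain ⟨D, hD⟩ := exists_isDefectGroup hM hB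
    have hD1 : D ≠ ⊥ := by
      intro h0
      obtain ⟨η, hη⟩ := IsPBlock.nonempty hB
      have hcard := Cfsg.Agent.Lib.BlockHeights.card_isDefectGroup hM hB hD
      rw [h0, Subgroup.card_bot] at hcard
      have hd : blockDefect p B = 0 := by
        by_contra hne
        exact (Nat.one_lt_pow hne hM.1.one_lt).ne hcard
      have hle : sInf ((fun χ : IrrCharacter G =>
          (charDegree (χ : G → ℂ)).factorization p) '' B) ≤
          (charDegree (η : G → ℂ)).factorization p := Nat.sInf_le ⟨η, hη, rfl⟩
      have := hdeg η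
      rw [blockDefect] at hd
      omega
    obtain ⟨g, hg, P, rfl⟩ := id hD
    set D := (P : Subgroup _).map (Subgroup.centralizer ({g} : Set G)).subtype with hDdef
    haveI : Nontrivial D := (Subgroup.nontrivial_iff_ne_bot D).mpr hD1
    obtain ⟨x, hx⟩ : ∃ x : D, orderOf x = p := by
      refine exists_prime_orderOf_dvd_card' p ?_
      have hc := Cfsg.Agent.Lib.BlockHeights.card_isDefectGroup hM hB hD
      have h1 : 1 < Nat.card D := Finite.one_lt_card
      rw [hc] at h1 ⊢
      exact dvd_pow_self p fun h0 => by simp [h0] at h1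
    have hxg : g ∈ Subgroup.centralizer ((Subgroup.zpowers (x : G) : Subgroup G) : Set G) := by
      rw [Subgroup.mem_centralizer_iff]
      intro y hy
      have hyD : y ∈ D := (Subgroup.zpowers_le.mpr x.2) hy
      obtain ⟨z, -, rfl⟩ := hyD
      exact (Subgroup.mem_centralizer_iff.mp z.2 g rfl).symm
    have hpx : orderOf (x : G) = p := by rw [Subgroup.orderOf_coe]; exact hx
    obtain ⟨Q, hQp, hQC, hQn, hQc⟩ := hcon (x : G) hpx
    have hCeq : Subgroup.centralizer ((Subgroup.zpowers (x : G) : Subgroup G) : Set G) =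
        Subgroup.centralizer ({(x : G)} : Set G) := centralizer_zpowers_eq _
    have hZ : IsPGroup p (Subgroup.zpowers (x : G)) :=
      IsPGroup.of_card (n := 1) (by rw [Nat.card_zpowers, hpx, pow_one])
    refine eq_principal_of_pair hM hZ (fun e he => ?_) hB hxg hg.2.1
    rw [← hCeq] at hQC hQn hQc
    set C := Subgroup.centralizer ((Subgroup.zpowers (x : G) : Subgroup G) : Set G)
    haveI : (Q.subgroupOf C).Normal := ⟨fun q hq c =>
      Subgroup.mem_subgroupOf.mpr (hQn c c.2 q (Subgroup.mem_subgroupOf.mp hq))⟩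
    refine block_eq_principal_of_constrained hM (Q := Q.subgroupOf C)
      (hQp.of_equiv (Subgroup.subgroupOfEquivOfLe hQC).symm) ?_ he
    intro c hc
    refine Subgroup.mem_subgroupOf.mpr (hQc c c.2 fun q hq => ?_)
    exact congrArg Subtype.val
      (Subgroup.mem_centralizer_iff.mp hc ⟨q, hQC hq⟩ (Subgroup.mem_subgroupOf.mpr hq)).symm
  have h := (key _ (isPBlock_blockOf χ)).trans (key _ (isPBlock_blockOf ψ)).symm
  have hψ : ψ ∈ blockOf M (χ : G → ℂ) := h ▸ self_mem_blockOf ψ
  exact hψ

end Cfsg.Agent.Lib.Compute
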