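import Cfsg.Agent.Lib.Compute.MultBound

/-!
# Generalised quaternion subgroups kill the even part of the multiplier
-/

set_option autoImplicit false

namespace Cfsg.Agent.Lib.Compute

open Cfsg
open scoped commutatorElement

/-- A generalised quaternion group of any order, of index prime to `2`. -/
theorem eq_one_of_quaternion_gen {Γ Q : Type*} [Group Γ] [Group Q] (σ : Γ →* Q) [Finite Γ] (hσ : Function.Surjective σ)
    (hc : σ.ker ≤ Subgroup.center Γ) {z : Γ} (hz : z ∈ σ.ker) (hz' : z ∈ commutator Γ)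
    (hzp : z ^ 2 = 1) {x y : Q} {n : ℕ} (hx : orderOf x = 2 * n) (hy : y ^ 2 = x ^ n)
    (hyx : y * x * y⁻¹ = x⁻¹)
    (hcop : Nat.Coprime 2 (Subgroup.closure {x, y}).index) : z = 1 := by
  obtain ⟨X, rfl⟩ := hσ x
  obtain ⟨Y, rfl⟩ := hσ y
  set w := X * (Y * X * Y⁻¹) with hwdef
  have hwk : w ∈ σ.ker := by
    rw [hwdef, MonoidHom.mem_ker, map_mul, map_mul, map_mul, map_inv, hyx, mul_inv_cancel]
  have hw : ∀ g : Γ, Commute g w := fun g => Subgroup.mem_center_iff.mp (hc hwk) g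
  have hYX : Y * X * Y⁻¹ = X⁻¹ * w := by rw [hwdef]; group
  set c := X⁻¹ * X⁻¹ * w with hcdef
  have hk : (X ^ n)⁻¹ * Y ^ 2 ∈ σ.ker := by
    rw [MonoidHom.mem_ker, map_mul, map_inv, map_pow, map_pow, hy, inv_mul_cancel]
  have hY4 : Y * X ^ n * Y⁻¹ = X ^ n := by
    set k := (X ^ n)⁻¹ * Y ^ 2 with hkdef
    have h2 : X ^ n = Y ^ 2 * k⁻¹ := by rw [hkdef]; group
    have h3 : Commute Y (X ^ n) := by
      rw [h2]
      exact ((Commute.refl Y).pow_right 2).mul_right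
        (Subgroup.mem_center_iff.mp (hc (inv_mem hk)) Y)
    rw [h3.eq, mul_inv_cancel_right]
  have hXn : (X⁻¹) ^ n * w ^ n = X ^ n := by
    rw [← (hw X⁻¹).mul_pow n, ← hYX, conj_pow, hY4]
  have hcn : c ^ n = 1 := by
    rw [hcdef, (((hw X⁻¹).mul_left (hw X⁻¹))).mul_pow, (Commute.refl X⁻¹).mul_pow, mul_assoc, hXn,
      inv_pow, inv_mul_cancel]
  have hXc : X * c * X⁻¹ = c := by
    have h : Commute X c := by
      rw [hcdef]
      exact (((Commute.refl X).inv_right).mul_right ((Commute.refl X).inv_right)).mul_right (hw X)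
    rw [h.eq, mul_inv_cancel_right]
  have hYc : Y * c * Y⁻¹ = c⁻¹ := by
    calc Y * c * Y⁻¹ = (Y * X * Y⁻¹)⁻¹ * (Y * X * Y⁻¹)⁻¹ * (Y * w * Y⁻¹) := by
          rw [hcdef]; group
      _ = (w⁻¹ * X) * (w⁻¹ * X) * w := by
          rw [hYX, (hw Y).eq, mul_inv_cancel_right, mul_inv_rev, inv_inv]
      _ = (w⁻¹ * X) * (X * w⁻¹) * w := by rw [((hw X).inv_right).eq]
      _ = c⁻¹ := by rw [hcdef]; simp [mul_assoc]
  have hnorm : ∀ u : Γ, u * c * u⁻¹ ∈ Subgroup.zpowers c →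
      u ∈ Subgroup.normalizer (Subgroup.zpowers c : Set Γ) := by
    intro u hu
    have hle : (Subgroup.zpowers c).map (MulAut.conj u).toMonoidHom ≤ Subgroup.zpowers c := by
      rw [MonoidHom.map_zpowers, Subgroup.zpowers_le]; exact hu
    have heq := Subgroup.eq_of_le_of_card_ge hle
      (by rw [Subgroup.card_map_of_injective (MulAut.conj u).injective])
    refine Subgroup.mem_normalizer_iff.mpr fun v => ⟨fun hv => ?_, fun hv => ?_⟩
    · rw [← heq]; exact ⟨v, hv, rfl⟩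
    · rw [← heq] at hv
      obtain ⟨v', hv', he⟩ := hv
      exact (MulAut.conj u).injective he ▸ hv'
  have hYXc : ⁅Y, X⁆ = c := by
    rw [commutatorElement_def, hYX, hcdef, mul_assoc X⁻¹ w, ← ((hw X⁻¹)).eq, ← mul_assoc]
  obtain ⟨i, rfl⟩ := Subgroup.mem_zpowers_iff.mp (commutator_comap_le σ hc rfl (Subgroup.zpowers c)
    (hnorm X (by rw [hXc]; exact Subgroup.mem_zpowers c))
    (hnorm Y (by rw [hYc]; exact inv_mem (Subgroup.mem_zpowers c)))
    (by rw [← commutatorElement_inv, hYXc]; exact inv_mem (Subgroup.mem_zpowers c))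
    (by rw [hYXc]; exact Subgroup.mem_zpowers c)
    (mem_commutator_comap σ hσ hc hz hz' hzp hcop))
  have h1 : ((σ X)⁻¹ ^ 2) ^ i = 1 := by
    have h := MonoidHom.mem_ker.mp hz
    rwa [map_zpow, hcdef, map_mul, map_mul, map_inv, MonoidHom.mem_ker.mp hwk, mul_one, ← sq] at h
  have h4 : orderOf ((σ X)⁻¹ ^ 2) = n := by
    rw [orderOf_pow' _ (by norm_num), orderOf_inv, hx, Nat.gcd_eq_right (Dvd.intro n rfl),
      Nat.mul_div_cancel_left _ two_pos]
  rw [← orderOf_dvd_iff_zpow_eq_one, h4] at h1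
  obtain ⟨j, rfl⟩ := h1
  rw [zpow_mul, zpow_natCast, hcn, one_zpow]

end Cfsg.Agent.Lib.Compute
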