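import Cfsg.Agent.Lib.Compute.SL2Tori
import Cfsg.Agent.Lib.Compute.MultQuat

/-!
# The Schur multiplier of SL(2, q) is trivial for q ≠ 4, 9
-/

set_option autoImplicit false

namespace Cfsg.Agent.Lib.Compute.SL2

open Cfsg Cfsg.Agent.Lib.Compute
open scoped commutatorElement

universe u

variable {F : Type u} [Field F] [Fintype F]

/-- The upper unitriangular matrix with entry `u`. -/
def upp (u : F) : Matrix.SpecialLinearGroup (Fin 2) F :=
  ⟨!![1, u; 0, 1], by simp [Matrix.det_fin_two]⟩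

omit [Fintype F] in
theorem toMat_upp (u : F) : toMat (upp u) = !![1, u; 0, 1] := rfl

omit [Fintype F] in
theorem upp_add (u v : F) : upp (u + v) = upp u * upp v := toMat_injective <| by
  rw [map_mul, toMat_upp, toMat_upp, toMat_upp]
  simp [add_comm]

/-- The root group. -/
def uppHom : Multiplicative F →* Matrix.SpecialLinearGroup (Fin 2) F where
  toFun u := upp (Multiplicative.toAdd u)
  map_one' := toMat_injective (by
    show toMat (upp (0 : F)) = _
    rw [toMat_upp, map_one, Matrix.one_fin_two])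
  map_mul' u v := upp_add _ _

omit [Fintype F] in
theorem dia_conj_upp (r : Fˣ) (u : F) : dia r * upp u * (dia r)⁻¹ = upp ((r : F) ^ 2 * u) := by
  rw [mul_inv_eq_iff_eq_mul]
  apply toMat_injective
  rw [map_mul, map_mul, toMat_upp, toMat_upp, toMat_apply, dia_coe]
  simp [mul_comm, mul_assoc, sq]

omit [Fintype F] in
theorem uppHom_injective : Function.Injective (uppHom (F := F)) := fun a b h => by
  have := congrArg (fun g => toMat g 0 1) h
  simpa [uppHom, toMat_upp] using this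

theorem exists_sq_add_sq (x : F) : ∃ a b : F, a ^ 2 + b ^ 2 = x := by
  classical
  by_cases h2 : ringChar F = 2
  · obtain ⟨a, ha⟩ := FiniteField.isSquare_of_char_two h2 x
    exact ⟨a, 0, by rw [ha]; ring⟩
  · open Polynomial in
    obtain ⟨a, b, hab⟩ := FiniteField.exists_root_sum_quadratic (R := F) (f := X ^ 2)
      (g := X ^ 2 - C x) (by simp) (by rw [degree_X_pow_sub_C (by norm_num)]; rfl)
      (FiniteField.odd_card_of_char_ne_two h2)
    refine ⟨a, b, ?_⟩
    simp only [eval_pow, eval_X, eval_sub, eval_C] at hab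
    linear_combination hab

open Polynomial in
theorem exists_eval_ne (P : F[X]) (hP : P ≠ 0) (h : P.natDegree < Fintype.card F) :
    ∃ a : F, P.eval a ≠ 0 := by
  classical
  by_contra hne
  push Not at hne
  have hle : (Finset.univ : Finset F).card ≤ P.natDegree := by
    refine le_trans (Finset.card_le_card (fun a _ => ?_)) (le_trans (Multiset.toFinset_card_le _)
      (Polynomial.card_roots' P))
    rw [Multiset.mem_toFinset, mem_roots hP]
    exact hne a
  rw [Finset.card_univ] at hle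
  omega

open Polynomial in
theorem exists_good {ℓ : ℕ} [CharP F ℓ]
    (hq : (ℓ = 2 ∧ 8 ≤ Fintype.card F) ∨ (ℓ ≠ 2 ∧ 17 ≤ Fintype.card F)) :
    ∃ t w : Fˣ, (w : F) ^ 2 = (t : F) ^ 2 + 1 ∧ (t : F) ^ 4 + (t : F) ^ 2 + 1 ≠ 0 := by
  haveI : Fact (Nat.Prime ℓ) := ⟨CharP.char_is_prime F ℓ⟩
  rcases hq with ⟨rfl, hq⟩ | ⟨hℓ, hq⟩
  · have hP : (X * (X + C 1) * (X ^ 2 + X + C 1) : F[X]).natDegree = 4 := by compute_degree!
    obtain ⟨t, ht⟩ := exists_eval_ne (X * (X + C 1) * (X ^ 2 + X + C 1) : F[X])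
      (fun e => by rw [e, natDegree_zero] at hP; norm_num at hP) (by omega)
    simp only [eval_mul, eval_add, eval_X, eval_C, eval_pow, mul_ne_zero_iff] at ht
    obtain ⟨⟨h0, h1⟩, h2⟩ := ht
    refine ⟨Units.mk0 t h0, Units.mk0 (t + 1) h1, CharTwo.add_sq t 1 |>.trans (by simp), ?_⟩
    have : t ^ 4 + t ^ 2 + 1 = (t ^ 2 + t + 1) ^ 2 := by
      rw [CharTwo.add_sq, CharTwo.add_sq]; ring
    simp only [Units.val_mk0, this]
    exact pow_ne_zero 2 h2
  · have h2 : (2 : F) ≠ 0 := Ring.two_ne_zero (by rwa [ringChar.eq F ℓ])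
    set P : F[X] := X * ((X ^ 2 - C 1) * (X ^ 2 + C 1))
      * ((X ^ 2 - C 1) ^ 4 + C 4 * X ^ 2 * (X ^ 2 - C 1) ^ 2 + C 16 * X ^ 4) with hPdef
    have hP : P.natDegree = 13 := by rw [hPdef]; compute_degree!
    obtain ⟨m, hm⟩ := exists_eval_ne P (fun e => by rw [e, natDegree_zero] at hP; norm_num at hP)
      (by omega)
    simp only [hPdef, eval_mul, eval_add, eval_sub, eval_X, eval_C, eval_pow, mul_ne_zero_iff] at hm
    obtain ⟨⟨h0, hm1, hm2⟩, h3⟩ := hm
    have hd : (2 * m : F) ≠ 0 := mul_ne_zero h2 h0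
    refine ⟨Units.mk0 ((m ^ 2 - 1) / (2 * m)) (div_ne_zero hm1 hd),
      Units.mk0 ((m ^ 2 + 1) / (2 * m)) (div_ne_zero hm2 hd), ?_, ?_⟩
    · simp only [Units.val_mk0]
      field_simp
      ring
    · simp only [Units.val_mk0]
      intro e
      apply h3
      have e' : ((m ^ 2 - 1) ^ 4 + 4 * m ^ 2 * (m ^ 2 - 1) ^ 2 + 16 * m ^ 4) =
          (((m ^ 2 - 1) / (2 * m)) ^ 4 + ((m ^ 2 - 1) / (2 * m)) ^ 2 + 1) * (2 * m) ^ 4 := by
        field_simp
        ring
      rw [e', e, zero_mul]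

variable {Δ : Type u} [Group Δ] [Finite Δ] (τ : Δ →* Matrix.SpecialLinearGroup (Fin 2) F)

omit [Fintype F] [Finite Δ] in
theorem commutator_central {a b k l : Δ} (hk : k ∈ Subgroup.center Δ) (hl : l ∈ Subgroup.center Δ) :
    ⁅a * k, b * l⁆ = ⁅a, b⁆ := by
  rw [Subgroup.mem_center_iff] at hk hl
  simp only [commutatorElement_def, mul_inv_rev]
  calc a * k * (b * l) * (k⁻¹ * a⁻¹) * (l⁻¹ * b⁻¹)
      = a * (k * (b * l)) * k⁻¹ * (a⁻¹ * l⁻¹) * b⁻¹ := by simp only [mul_assoc]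
    _ = a * (b * l) * (a⁻¹ * l⁻¹) * b⁻¹ := by
        rw [← hk (b * l)]; simp only [mul_assoc, mul_inv_cancel_left]
    _ = a * b * (l * (a⁻¹ * l⁻¹)) * b⁻¹ := by simp only [mul_assoc]
    _ = a * b * a⁻¹ * b⁻¹ := by
        rw [← hl (a⁻¹ * l⁻¹)]; simp only [mul_assoc, inv_mul_cancel, mul_one]

omit [Fintype F] [Finite Δ] in
/-- Lifts of two elements of the root group commute. -/
theorem root_lifts_commute [Fintype F] (hσ : Function.Surjective τ) (hc : τ.ker ≤ Subgroup.center Δ)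
    {t w : Fˣ} (hw : (w : F) ^ 2 = (t : F) ^ 2 + 1) (ht : (t : F) ^ 4 + (t : F) ^ 2 + 1 ≠ 0)
    {a b : Δ} {u v : F} (ha : τ a = upp u) (hb : τ b = upp v) : ⁅a, b⁆ = 1 := by
  choose L hL using fun u : F => hσ (upp u)
  let c : F → F → Δ := fun u v => ⁅L u, L v⁆
  have hcc : ∀ u v, c u v ∈ Subgroup.center Δ := fun u v => hc (by
    rw [MonoidHom.mem_ker, map_commutatorElement, hL, hL, commutatorElement_eq_one_iff_mul_comm,
      ← upp_add, ← upp_add, add_comm])
  have hcong : ∀ {a b : Δ} {u v : F}, τ a = upp u → τ b = upp v → ⁅a, b⁆ = c u v := by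
    intro a b u v ha hb
    have hk : (L u)⁻¹ * a ∈ Subgroup.center Δ :=
      hc (by rw [MonoidHom.mem_ker, map_mul, map_inv, hL, ha, inv_mul_cancel])
    have hl : (L v)⁻¹ * b ∈ Subgroup.center Δ :=
      hc (by rw [MonoidHom.mem_ker, map_mul, map_inv, hL, hb, inv_mul_cancel])
    have := commutator_central (a := L u) (b := L v) hk hl
    rwa [mul_inv_cancel_left, mul_inv_cancel_left] at this
  have hleft : ∀ u u' v, c (u + u') v = c u v * c u' v := by
    intro u u' v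
    rw [← hcong (show τ (L u * L u') = upp (u + u') by rw [map_mul, hL, hL, upp_add]) (hL v)]
    have hz := Subgroup.mem_center_iff.mp (hcc u' v) (L u)
    have hz' := Subgroup.mem_center_iff.mp (hcc u' v) (c u v)
    calc ⁅L u * L u', L v⁆ = (L u * c u' v) * (L u)⁻¹ * c u v := by
          simp only [c, commutatorElement_def]; group
      _ = c u' v * c u v := by rw [hz]; group
      _ = c u v * c u' v := hz'.symm
  have hright : ∀ u v v', c u (v + v') = c u v * c u v' := by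
    intro u v v'
    rw [← hcong (hL u) (show τ (L v * L v') = upp (v + v') by rw [map_mul, hL, hL, upp_add])]
    have hz := Subgroup.mem_center_iff.mp (hcc u v') (L v)
    calc ⁅L u, L v * L v'⁆ = c u v * ((L v * c u v') * (L v)⁻¹) := by
          simp only [c, commutatorElement_def]; group
      _ = c u v * c u v' := by rw [hz]; group
  have hscale : ∀ (r : Fˣ) u v, c ((r : F) ^ 2 * u) ((r : F) ^ 2 * v) = c u v := by
    intro r u v
    obtain ⟨D, hD⟩ := hσ (dia r)
    rw [← hcong (a := D * L u * D⁻¹) (b := D * L v * D⁻¹)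
      (by rw [map_mul, map_mul, map_inv, hD, hL, dia_conj_upp])
      (by rw [map_mul, map_mul, map_inv, hD, hL, dia_conj_upp])]
    calc ⁅D * L u * D⁻¹, D * L v * D⁻¹⁆ = D * c u v * D⁻¹ := by
          simp only [c, commutatorElement_def]; group
      _ = c u v := by rw [Subgroup.mem_center_iff.mp (hcc u v) D, mul_inv_cancel_right]
  have hsq : ∀ (r : Fˣ) y, c ((r : F) ^ 2) y = c 1 (y / (r : F) ^ 2) := by
    intro r y
    have hr := pow_ne_zero 2 r.ne_zero
    conv_rhs => rw [← hscale r]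
    rw [mul_one, mul_div_cancel₀ _ hr]
  have hg : ∀ y, c 1 y = 1 := by
    intro y
    have ht0 := t.ne_zero
    have hw0 := w.ne_zero
    set k : F := 1 / (t : F) ^ 2 + 1 - 1 / (w : F) ^ 2 with hk
    have hk0 : k ≠ 0 := by
      intro e
      apply ht
      have : k * ((t : F) ^ 2 * (w : F) ^ 2) = (t : F) ^ 4 + (t : F) ^ 2 + 1 := by
        rw [hk]
        field_simp
        rw [hw]
        ring
      rw [← this, e, zero_mul]
    have key : ∀ y, c 1 (y / (t : F) ^ 2 + y - y / (w : F) ^ 2) = 1 := by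
      intro y
      have e : c 1 (y / (t : F) ^ 2 + y) = c 1 (y / (w : F) ^ 2) := by
        rw [hright, ← hsq t y, ← hsq w y, ← hleft, hw]
      have e2 := hright 1 (y / (t : F) ^ 2 + y - y / (w : F) ^ 2) (y / (w : F) ^ 2)
      rw [sub_add_cancel, e] at e2
      exact mul_eq_right.mp e2.symm
    have := key (y / k)
    rwa [show y / k / (t : F) ^ 2 + y / k - y / k / (w : F) ^ 2 = y by
      rw [show y / k / (t : F) ^ 2 + y / k - y / k / (w : F) ^ 2 = y / k * k by rw [hk]; ring,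
        div_mul_cancel₀ _ hk0]] at this
  have hs0 : ∀ (r : F) y, c (r ^ 2) y = 1 := by
    intro r y
    rcases eq_or_ne r 0 with rfl | hr
    · have h := hleft 0 0 y
      rw [add_zero] at h
      rw [zero_pow two_ne_zero]
      exact mul_eq_left.mp h.symm
    · rw [show r = ((Units.mk0 r hr : Fˣ) : F) from rfl, hsq, hg]
  rw [hcong ha hb]
  obtain ⟨r, s, rfl⟩ := exists_sq_add_sq u
  rw [hleft, hs0, hs0, one_mul]

theorem card_sl2_eq :
    Nat.card (Matrix.SpecialLinearGroup (Fin 2) F) =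
      Fintype.card F * ((Fintype.card F + 1) * (Fintype.card F - 1)) := by
  rw [Cfsg.Agent.Lib.KnownA.card_SL2]
  congr 1
  simpa using Nat.sq_sub_sq (Fintype.card F) 1

theorem eq_one_char {ℓ : ℕ} [CharP F ℓ] (h4 : Fintype.card F ≠ 4) (h9 : Fintype.card F ≠ 9)
    (hσ : Function.Surjective τ) (hc : τ.ker ≤ Subgroup.center Δ) {z : Δ} (hz : z ∈ τ.ker)
    (hz' : z ∈ commutator Δ) (hzp : z ^ ℓ = 1) : z = 1 := by
  classical
  obtain ⟨e, hℓ, hcard⟩ := FiniteField.card F ℓ
  set S := (uppHom (F := F)).range with hS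
  have hSc : Nat.card S = Fintype.card F := by
    rw [← Nat.card_congr (MonoidHom.ofInjective uppHom_injective).toEquiv,
      Nat.card_congr Multiplicative.toAdd, Nat.card_eq_fintype_card]
  have hidx : S.index = (Fintype.card F + 1) * (Fintype.card F - 1) := by
    have h := S.card_mul_index
    rw [hSc, card_sl2_eq] at h
    exact Nat.eq_of_mul_eq_mul_left Fintype.card_pos h
  have hdvd : ℓ ∣ Fintype.card F := hcard ▸ dvd_pow_self ℓ e.pos.ne'
  have h2 : 2 ≤ Fintype.card F := Fintype.one_lt_card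
  have hcop : Nat.Coprime ℓ S.index := by
    rw [hidx, hℓ.coprime_iff_not_dvd]
    intro h
    rcases hℓ.dvd_mul.mp h with h | h
    · exact hℓ.not_dvd_one ((Nat.dvd_add_right hdvd).mp h)
    · have := Nat.dvd_sub hdvd h
      rw [show Fintype.card F - (Fintype.card F - 1) = 1 by omega] at this
      exact hℓ.not_dvd_one this
  by_cases he : (e : ℕ) = 1
  · have hp : Fintype.card F = ℓ := by rw [hcard, he, pow_one]
    haveI : Fact (Nat.card S).Prime := ⟨by rw [hSc, hp]; exact hℓ⟩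
    obtain ⟨g, hg⟩ := (isCyclic_of_prime_card (α := S) rfl).exists_generator
    refine eq_one_of_cyclic τ hσ hc hz hz' hzp (x := (g : Matrix.SpecialLinearGroup (Fin 2) F)) ?_
    rwa [show Subgroup.zpowers (g : Matrix.SpecialLinearGroup (Fin 2) F) = S from
      le_antisymm (Subgroup.zpowers_le.mpr g.2) fun y hy => by
        obtain ⟨k, hk⟩ := hg ⟨y, hy⟩
        exact ⟨k, congrArg Subtype.val hk⟩]
  · have he2 : 2 ≤ (e : ℕ) := by have := e.pos; omega
    have hq : (ℓ = 2 ∧ 8 ≤ Fintype.card F) ∨ (ℓ ≠ 2 ∧ 17 ≤ Fintype.card F) := by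
      rw [hcard] at h4 h9 ⊢
      by_cases hl : ℓ = 2
      · subst hl
        refine Or.inl ⟨rfl, ?_⟩
        rcases eq_or_ne (e : ℕ) 2 with h | h
        · rw [h] at h4; norm_num at h4
        · calc 8 = 2 ^ 3 := rfl
            _ ≤ 2 ^ (e : ℕ) := Nat.pow_le_pow_right (by norm_num) (by omega)
      · refine Or.inr ⟨hl, ?_⟩
        have hl3 : 3 ≤ ℓ := by have := hℓ.two_le; omega
        rcases eq_or_ne ℓ 3 with rfl | hl4
        · rcases eq_or_ne (e : ℕ) 2 with h | h
          · rw [h] at h9; norm_num at h9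
          · calc 17 ≤ 3 ^ 3 := by norm_num
              _ ≤ 3 ^ (e : ℕ) := Nat.pow_le_pow_right (by norm_num) (by omega)
        · have hl5 : 5 ≤ ℓ := by
            rcases eq_or_ne ℓ 4 with rfl | _
            · norm_num at hℓ
            · omega
          calc 17 ≤ 5 ^ 2 := by norm_num
            _ ≤ ℓ ^ 2 := Nat.pow_le_pow_left hl5 2
            _ ≤ ℓ ^ (e : ℕ) := Nat.pow_le_pow_right (by omega) he2
    obtain ⟨t, w, hw, ht⟩ := exists_good hq
    have hmem := mem_commutator_comap τ hσ hc hz hz' hzp hcop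
    have hle : ⁅S.comap τ, S.comap τ⁆ ≤ ⊥ := by
      rw [Subgroup.commutator_le]
      rintro a ⟨u, hu⟩ b ⟨v, hv⟩
      rw [Subgroup.mem_bot]
      exact root_lifts_commute τ hσ hc hw ht (u := Multiplicative.toAdd u)
        (v := Multiplicative.toAdd v) hu.symm hv.symm
    exact Subgroup.mem_bot.mp (hle hmem)

/-- The odd primes away from the characteristic. -/
theorem eq_one_odd {p : ℕ} (hp : p.Prime) (hp2 : p ≠ 2) (hpq : ¬ p ∣ Fintype.card F)
    (hσ : Function.Surjective τ) (hc : τ.ker ≤ Subgroup.center Δ) {z : Δ} (hz : z ∈ τ.ker)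
    (hz' : z ∈ commutator Δ) (hzp : z ^ p = 1) : z = 1 := by
  have key : ∀ N M : ℕ, ∀ x : Matrix.SpecialLinearGroup (Fin 2) F, orderOf x = N → 0 < N →
      (Fintype.card F + 1) * (Fintype.card F - 1) = N * M → ¬ p ∣ M → z = 1 := by
    intro N M x hx hN hNM hM
    refine eq_one_of_cyclic τ hσ hc hz hz' hzp (x := x) ?_
    have h := (Subgroup.zpowers x).card_mul_index
    rw [Nat.card_zpowers, hx, card_sl2_eq, hNM, mul_left_comm] at h
    rw [Nat.eq_of_mul_eq_mul_left hN h, hp.coprime_iff_not_dvd, hp.dvd_mul]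
    exact not_or.mpr ⟨hpq, hM⟩
  have h2 : 2 ≤ Fintype.card F := Fintype.one_lt_card
  have hnot : ¬ (p ∣ Fintype.card F + 1 ∧ p ∣ Fintype.card F - 1) := fun ⟨a, b⟩ => by
    have := Nat.dvd_sub a b
    rw [show Fintype.card F + 1 - (Fintype.card F - 1) = 2 by omega] at this
    exact hp2 ((Nat.prime_dvd_prime_iff_eq hp Nat.prime_two).mp this)
  by_cases hm : p ∣ Fintype.card F - 1
  · obtain ⟨x, hx, -, -⟩ := exists_split (F := F)
    exact key _ (Fintype.card F + 1) x hx (by omega) (mul_comm _ _) fun h => hnot ⟨h, hm⟩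
  · obtain ⟨x, hx⟩ := exists_nonsplit (F := F)
    exact key _ (Fintype.card F - 1) x hx (by omega) rfl hm

theorem eq_one_two_aux {ℓ : ℕ} [CharP F ℓ] [Fact ℓ.Prime] (hℓ : ℓ ≠ 2) {a M : ℕ} (ha : 2 ≤ a)
    (hM : ¬ 2 ∣ Fintype.card F * M)
    (hcard : (Fintype.card F + 1) * (Fintype.card F - 1) = 2 ^ (a + 1) * M)
    {x : Matrix.SpecialLinearGroup (Fin 2) F} (hx : orderOf x = 2 ^ a)
    (hshape : toMat x 1 0 ≠ 0 ∨ (toMat x 1 0 = 0 ∧ toMat x 0 1 = 0))
    (hσ : Function.Surjective τ) (hc : τ.ker ≤ Subgroup.center Δ) {z : Δ} (hz : z ∈ τ.ker)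
    (hz' : z ∈ commutator Δ) (hzp : z ^ 2 = 1) : z = 1 := by
  obtain ⟨b, rfl⟩ : ∃ b, a = b + 2 := ⟨a - 2, by omega⟩
  have h2 : (2 : F) ≠ 0 := Ring.two_ne_zero (by rwa [ringChar.eq F ℓ])
  have hnd : ¬ orderOf x ∣ 2 * ℓ := by
    rw [hx, pow_succ', Nat.mul_dvd_mul_iff_left two_pos]
    intro h
    have h' : 2 ∣ ℓ := (dvd_pow_self 2 (Nat.succ_ne_zero b)).trans h
    exact hℓ ((Nat.prime_dvd_prime_iff_eq Nat.prime_two Fact.out).mp h').symm
  obtain ⟨y, hyx, hy2⟩ := exists_inverting h2 (trace_sq_ne_four hnd) hshape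
  set n := 2 ^ (b + 1) with hn
  have hx2 : orderOf x = 2 * n := by rw [hx, hn, ← pow_succ']
  have hy : y ^ 2 = x ^ n := by
    apply toMat_injective
    have h1 : orderOf (x ^ n) = 2 := by
      rw [orderOf_pow' _ (by rw [hn]; positivity), hx2, Nat.gcd_eq_right (Dvd.intro_left _ rfl),
        Nat.mul_div_cancel _ (by rw [hn]; positivity)]
    rw [toMat_apply, toMat_apply, coe_pow_half_eq_neg_one hℓ h1, hy2]
  refine eq_one_of_quaternion_gen τ hσ hc hz hz' hzp hx2 hy hyx ?_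
  set S := Subgroup.closure {x, y} with hSdef
  have hxS : x ∈ S := Subgroup.subset_closure (by simp)
  have hyS : y ∈ S := Subgroup.subset_closure (by simp)
  haveI : Fact (Nat.Prime 2) := ⟨Nat.prime_two⟩
  have hPx : IsPGroup 2 (Subgroup.zpowers x) :=
    IsPGroup.of_card (n := b + 2) (by rw [Nat.card_zpowers, hx])
  have hy4 : y ^ 4 = 1 := by
    rw [show 4 = 2 * 2 from rfl, pow_mul, hy, ← pow_mul, mul_comm, ← hx2, pow_orderOf_eq_one]
  have hPy : IsPGroup 2 (Subgroup.zpowers y) := by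
    obtain ⟨k, -, hk⟩ := (Nat.dvd_prime_pow Nat.prime_two).mp
      (show orderOf y ∣ 2 ^ 2 from orderOf_dvd_of_pow_eq_one hy4)
    exact IsPGroup.of_card (n := k) (by rw [Nat.card_zpowers, hk])
  have hnorm : y ∈ Subgroup.normalizer (Subgroup.zpowers x : Set _) := by
    refine Subgroup.mem_normalizer_iff.mpr fun g => ⟨?_, ?_⟩
    · rintro ⟨k, rfl⟩
      exact ⟨-k, by show x ^ (-k) = y * x ^ k * y⁻¹; rw [← conj_zpow, hyx, inv_zpow, zpow_neg]⟩
    · rintro ⟨k, hk⟩
      have hk : x ^ k = y * g * y⁻¹ := hk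
      refine ⟨-k, ?_⟩
      show x ^ (-k) = g
      have : y * x ^ (-k) * y⁻¹ = y * g * y⁻¹ := by
        rw [← conj_zpow, hyx, ← hk, inv_zpow, zpow_neg, inv_inv]
      simpa using this
  have hSle : S ≤ Subgroup.zpowers y ⊔ Subgroup.zpowers x := (Subgroup.closure_le _).mpr (by
    rintro g (rfl | rfl)
    · exact Subgroup.mem_sup_right (Subgroup.mem_zpowers _)
    · exact Subgroup.mem_sup_left (Subgroup.mem_zpowers _))
  have hPS : IsPGroup 2 S :=
    (IsPGroup.to_sup_of_normal_right' hPy hPx (Subgroup.zpowers_le.mpr hnorm)).to_le hSle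
  obtain ⟨k, hk⟩ := IsPGroup.iff_card.mp hPS
  have hxle : Subgroup.zpowers x ≤ S := Subgroup.zpowers_le.mpr hxS
  have hyx' : y ∉ Subgroup.zpowers x := by
    rintro ⟨j, hj⟩
    have hcomm : y * x = x * y := by
      rw [← hj]; exact ((Commute.refl x).zpow_left j).eq
    rw [hcomm, mul_inv_cancel_right] at hyx
    have : x ^ 2 = 1 := by rw [sq]; exact eq_inv_iff_mul_eq_one.mp hyx
    have h' := orderOf_dvd_of_pow_eq_one this
    rw [hx, pow_succ'] at h'
    have := Nat.le_of_dvd two_pos h'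
    have : 2 ≤ 2 ^ (b + 1) := Nat.le_self_pow (Nat.succ_ne_zero b) 2
    omega
  have hbk : b + 3 ≤ k := by
    have hlt : Nat.card (Subgroup.zpowers x) < Nat.card S := by
      refine lt_of_le_of_ne (Subgroup.card_le_of_le hxle) fun e => hyx' ?_
      rw [Subgroup.eq_of_le_of_card_ge hxle e.ge]
      exact hyS
    rw [Nat.card_zpowers, hx, hk] at hlt
    exact (Nat.pow_lt_pow_iff_right (by norm_num)).mp hlt
  rw [Nat.coprime_two_left, ← Nat.not_even_iff_odd, even_iff_two_dvd]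
  intro h
  apply hM
  have hmul := S.card_mul_index
  rw [hk, card_sl2_eq, hcard, mul_left_comm] at hmul
  have hd : 2 ^ (b + 2 + 1) * 2 ∣ 2 ^ (b + 2 + 1) * (Fintype.card F * M) := by
    rw [← hmul]
    exact Nat.mul_dvd_mul (pow_dvd_pow 2 hbk) h
  exact Nat.dvd_of_mul_dvd_mul_left (by positivity) hd

theorem eq_one_two {ℓ : ℕ} [CharP F ℓ] [Fact ℓ.Prime] (hℓ : ℓ ≠ 2)
    (hσ : Function.Surjective τ) (hc : τ.ker ≤ Subgroup.center Δ) {z : Δ} (hz : z ∈ τ.ker)
    (hz' : z ∈ commutator Δ) (hzp : z ^ 2 = 1) : z = 1 := by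
  classical
  have hodd : Fintype.card F % 2 = 1 :=
    FiniteField.odd_card_of_char_ne_two (by rwa [ringChar.eq F ℓ])
  have h3 : 3 ≤ Fintype.card F := by
    have := Fintype.one_lt_card (α := F)
    omega
  set q := Fintype.card F with hq
  have split : ∀ N : ℕ, 4 ∣ N → 0 < N → ∃ a M, 2 ≤ a ∧ N = 2 ^ a * M ∧ ¬ 2 ∣ M := by
    intro N h4 hN
    obtain ⟨a, M, hM, hNe⟩ := Nat.exists_eq_two_pow_mul_odd hN.ne'
    refine ⟨a, M, ?_, hNe, fun h => (Nat.not_even_iff_odd.mpr hM) (even_iff_two_dvd.mpr h)⟩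
    by_contra ha
    obtain ⟨r, hr⟩ := hM
    obtain ⟨s, hs⟩ := h4
    interval_cases a <;> omega
  by_cases h4 : 4 ∣ q - 1
  · obtain ⟨a, M, ha, hN, hM⟩ := split (q - 1) h4 (by omega)
    obtain ⟨u, hu⟩ := IsCyclic.exists_ofOrder_eq_natCard (α := Fˣ)
    rw [Nat.card_units, Nat.card_eq_fintype_card, ← hq, hN] at hu
    have hMpos : 0 < M := Nat.pos_of_ne_zero fun e => hM (e ▸ dvd_zero 2)
    refine eq_one_two_aux τ hℓ ha (M := ((q + 1) / 2) * M) (x := dia (u ^ M)) ?_ ?_ ?_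
      (Or.inr ⟨by rw [toMat_apply, dia_coe]; simp, by rw [toMat_apply, dia_coe]; simp⟩) hσ hc hz hz' hzp
    · rw [Nat.prime_two.dvd_mul, Nat.prime_two.dvd_mul]
      obtain ⟨s, hs⟩ := h4
      rintro (h | h | h)
      · omega
      · omega
      · exact hM h
    · obtain ⟨r, hr⟩ : 2 ∣ q + 1 := by omega
      rw [hN, hr, Nat.mul_div_cancel_left _ two_pos]; ring
    · rw [orderOf_injective dia dia_injective, orderOf_pow' _ hMpos.ne', hu,
        Nat.gcd_eq_right (Dvd.intro_left _ rfl), Nat.mul_div_cancel _ hMpos]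
  · obtain ⟨a, M, ha, hN, hM⟩ := split (q + 1) (by omega) (by omega)
    obtain ⟨x, hx⟩ := exists_nonsplit (F := F)
    rw [← hq, hN] at hx
    have hMpos : 0 < M := Nat.pos_of_ne_zero fun e => hM (e ▸ dvd_zero 2)
    have hxo : orderOf (x ^ M) = 2 ^ a := by
      rw [orderOf_pow' _ hMpos.ne', hx, Nat.gcd_eq_right (Dvd.intro_left _ rfl),
        Nat.mul_div_cancel _ hMpos]
    have h4a : 4 ∣ 2 ^ a := (pow_dvd_pow 2 ha : 2 ^ 2 ∣ 2 ^ a)
    refine eq_one_two_aux τ hℓ ha (M := ((q - 1) / 2) * M) (x := x ^ M) ?_ ?_ hxo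
      (Or.inl ?_) hσ hc hz hz' hzp
    · rw [Nat.prime_two.dvd_mul, Nat.prime_two.dvd_mul]
      rintro (h | h | h)
      · omega
      · omega
      · exact hM h
    · obtain ⟨r, hr⟩ : 2 ∣ q - 1 := by omega
      rw [hN, hr, Nat.mul_div_cancel_left _ two_pos]; ring
    · refine not_upper_of_order (fun h => h4 (h4a.trans (by rwa [hxo, ← hq] at h)))
        (trace_sq_ne_four (ℓ := ℓ) fun h => ?_)
      rw [hxo] at h
      have h' : 2 * 2 ∣ 2 * ℓ := h4a.trans h
      exact hℓ ((Nat.prime_dvd_prime_iff_eq Nat.prime_two Fact.out).mp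
        (Nat.dvd_of_mul_dvd_mul_left two_pos h')).symm

omit [Finite Δ] in
/-- The multiplier of SL(2, q) is trivial. -/
theorem multiplier_trivial (h4 : Fintype.card F ≠ 4) (h9 : Fintype.card F ≠ 9) :
    HasCyclicSchurMultiplier (Matrix.SpecialLinearGroup (Fin 2) F) 1 := by
  classical
  obtain ⟨ℓ, hℓ⟩ := CharP.exists F
  haveI : Fact ℓ.Prime := ⟨CharP.char_is_prime F ℓ⟩
  refine hasCyclicSchurMultiplier_one_of_primes (MulEquiv.refl _)
    (Nat.card (Matrix.SpecialLinearGroup (Fin 2) F)).primeFactorsList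
    (fun p hp hd => (Nat.mem_primeFactorsList Nat.card_pos.ne').mpr ⟨hp, hd⟩) ?_
  intro p hp Δ _ _ τ hσ hc _ z hz hz' hzp
  have hpp := Nat.prime_of_mem_primeFactorsList hp
  by_cases hpl : p = ℓ
  · subst hpl
    exact eq_one_char τ h4 h9 hσ hc hz hz' hzp
  · obtain ⟨e, -, hcard⟩ := FiniteField.card F ℓ
    by_cases hp2 : p = 2
    · subst hp2
      exact eq_one_two τ (Ne.symm hpl) hσ hc hz hz' hzp
    · refine eq_one_odd τ hpp hp2 (fun h => hpl ?_) hσ hc hz hz' hzp
      rw [hcard] at h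
      exact (Nat.prime_dvd_prime_iff_eq hpp Fact.out).mp (hpp.dvd_of_dvd_pow h)

end Cfsg.Agent.Lib.Compute.SL2
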