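import Cfsg.Agent.Lib.SchurMultiplier.Cover
import Mathlib

/-!
# Killing a prime in the Schur multiplier

In a central extension, an element of `p`-order of the kernel lying in the derived group lies in
the derived group of the preimage of a Sylow `p`-subgroup.
-/

set_option autoImplicit false
set_option linter.unusedSectionVars false

namespace Cfsg.Agent.Lib.Compute

open Cfsg
open scoped commutatorElement

universe u

variable {Γ Q : Type*} [Group Γ] [Group Q]

/-- A subgroup of index prime to `p` controls the `p`-elements of `Z ∩ Γ'`. -/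
theorem mem_commutator_of_transfer {z : Γ} (hz : z ∈ Subgroup.center Γ) (hz' : z ∈ commutator Γ)
    (H : Subgroup Γ) [H.FiniteIndex] (hzH : z ∈ H) {p : ℕ} (hp : z ^ p = 1)
    (hcop : Nat.Coprime p H.index) : z ∈ ⁅H, H⁆ := by
  let v : Γ →* Abelianization H := MonoidHom.transfer (Abelianization.of (G := H))
  have hv1 : v z = 1 := by
    have h : z ∈ v.ker := Abelianization.commutator_subset_ker v hz'
    exact h
  have key : ∀ (k : ℕ) (g : Γ), g⁻¹ * z ^ k * g ∈ H → g⁻¹ * z ^ k * g = z ^ k := fun k g _ => by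
    rw [mul_assoc, (Subgroup.mem_center_iff.mp (pow_mem hz k) g).symm, inv_mul_cancel_left]
  have hv := MonoidHom.transfer_eq_pow (Abelianization.of (G := H)) z key
  rw [show MonoidHom.transfer (Abelianization.of (G := H)) z = v z from rfl, hv1] at hv
  have h2 : z ^ H.index ∈ ⁅H, H⁆ := by
    have h3 : (⟨z ^ H.index, pow_mem hzH _⟩ : H) ∈ commutator H := by
      rw [← Abelianization.ker_of, MonoidHom.mem_ker]
      exact hv.symm
    have h4 := Subgroup.mem_map_of_mem H.subtype h3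
    rwa [commutator_def, Subgroup.map_commutator, ← MonoidHom.range_eq_map, Subgroup.range_subtype]
      at h4
  obtain ⟨u, w, huw⟩ : IsCoprime ((p : ℕ) : ℤ) ((H.index : ℕ) : ℤ) :=
    Int.isCoprime_iff_nat_coprime.mpr (by simpa using hcop)
  rw [← zpow_one z, ← huw, zpow_add, zpow_mul', zpow_mul', zpow_natCast, zpow_natCast, hp,
    one_zpow, one_mul]
  exact zpow_mem h2 w

variable (σ : Γ →* Q)

/-- The preimage of a subgroup of index prime to `p`. -/
theorem mem_commutator_comap [Finite Γ] (hσ : Function.Surjective σ)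
    (hc : σ.ker ≤ Subgroup.center Γ) {z : Γ} (hz : z ∈ σ.ker) (hz' : z ∈ commutator Γ) {p : ℕ}
    (hp : z ^ p = 1) {S : Subgroup Q} (hcop : Nat.Coprime p S.index) :
    z ∈ ⁅S.comap σ, S.comap σ⁆ :=
  mem_commutator_of_transfer (hc hz) hz' _
    (by rw [Subgroup.mem_comap, MonoidHom.mem_ker.mp hz]; exact one_mem S) hp
    (by rwa [Subgroup.index_comap_of_surjective S hσ])

/-- Over two generators, all commutators of the preimage lie in any subgroup containing the basic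
commutator and normalised by the lifts. -/
theorem commutator_comap_le (hc : σ.ker ≤ Subgroup.center Γ) {X Y : Γ} {S : Subgroup Q}
    (hS : S = Subgroup.closure {σ X, σ Y}) (C : Subgroup Γ)
    (hX : X ∈ Subgroup.normalizer (C : Set Γ)) (hY : Y ∈ Subgroup.normalizer (C : Set Γ))
    (hXY : ⁅X, Y⁆ ∈ C) (hYX : ⁅Y, X⁆ ∈ C) : ⁅S.comap σ, S.comap σ⁆ ≤ C := by
  set H : Subgroup Γ := Subgroup.closure {X, Y} with hH
  have key : S.comap σ = H ⊔ σ.ker := by
    rw [hS, hH, ← Subgroup.comap_map_eq, MonoidHom.map_closure]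
    simp [Set.image_pair]
  have hcC : ∀ z ∈ Subgroup.center Γ, z ∈ Subgroup.normalizer (C : Set Γ) := fun z hz => by
    refine Subgroup.mem_normalizer_iff.mpr fun x => ?_
    rw [(Subgroup.mem_center_iff.mp hz x).symm, mul_inv_cancel_right]
  set N : Subgroup Γ := Subgroup.normalizer (C : Set Γ) with hN
  have hHN : H ⊔ σ.ker ≤ N := sup_le
    ((Subgroup.closure_le _).mpr (by rintro a (rfl | rfl) <;> assumption)) fun z hz => hcC z (hc hz)
  let π := QuotientGroup.mk' (C.subgroupOf N)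
  have hcomm : ∀ a b : N, π a * π b = π b * π a ↔ ⁅(a : Γ), (b : Γ)⁆ ∈ C := by
    intro a b
    rw [← commutatorElement_eq_one_iff_mul_comm, ← map_commutatorElement, ← MonoidHom.mem_ker,
      QuotientGroup.ker_mk', Subgroup.mem_subgroupOf]
    simp [commutatorElement_def]
  set gens : Set N := {a : N | (a : Γ) = X ∨ (a : Γ) = Y ∨ (a : Γ) ∈ σ.ker} with hgens
  have hgen : ∀ a ∈ gens, ∀ b ∈ gens, π a * π b = π b * π a := by
    intro a ha b hb
    rw [hcomm]
    have hcen : ∀ z w : Γ, z ∈ σ.ker → ⁅z, w⁆ = 1 ∧ ⁅w, z⁆ = 1 := fun z w hz => by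
      have h := Subgroup.mem_center_iff.mp (hc hz) w
      exact ⟨commutatorElement_eq_one_iff_mul_comm.mpr h.symm,
        commutatorElement_eq_one_iff_mul_comm.mpr h⟩
    rcases ha with ha | ha | ha
    · rcases hb with hb | hb | hb
      · rw [ha, hb, commutatorElement_self]; exact one_mem C
      · rw [ha, hb]; exact hXY
      · rw [(hcen _ _ hb).2]; exact one_mem C
    · rcases hb with hb | hb | hb
      · rw [ha, hb]; exact hYX
      · rw [ha, hb, commutatorElement_self]; exact one_mem C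
      · rw [(hcen _ _ hb).2]; exact one_mem C
    · rw [(hcen _ _ ha).1]; exact one_mem C
  rw [key, Subgroup.commutator_le]
  intro a ha b hb
  have hmem : ∀ c, c ∈ H ⊔ σ.ker → ∃ h : c ∈ N, (⟨c, h⟩ : N) ∈ Subgroup.closure gens := by
    intro c hc'
    refine ⟨hHN hc', ?_⟩
    have hle : H ⊔ σ.ker ≤ (Subgroup.closure gens).map N.subtype := by
      refine sup_le ((Subgroup.closure_le _).mpr ?_) fun z hz =>
        ⟨⟨z, hcC z (hc hz)⟩, Subgroup.subset_closure (Or.inr (Or.inr hz)), rfl⟩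
      rintro c (rfl | rfl)
      · exact ⟨⟨c, hX⟩, Subgroup.subset_closure (Or.inl rfl), rfl⟩
      · exact ⟨⟨c, hY⟩, Subgroup.subset_closure (Or.inr (Or.inl rfl)), rfl⟩
    obtain ⟨d, hd, hdc⟩ := hle hc'
    rwa [show (⟨c, hHN hc'⟩ : N) = d from Subtype.ext hdc.symm]
  obtain ⟨haN, haG⟩ := hmem a ha
  obtain ⟨hbN, hbG⟩ := hmem b hb
  refine (hcomm ⟨a, haN⟩ ⟨b, hbN⟩).mp ?_
  have hcent : ∀ u ∈ Subgroup.closure gens, ∀ v ∈ gens, π u * π v = π v * π u := by
    intro u hu v hv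
    induction hu using Subgroup.closure_induction with
    | mem x hx => exact hgen x hx v hv
    | one => simp
    | mul x y _ _ hx hy => rw [map_mul]; exact (Commute.mul_left hx hy)
    | inv x _ hx => rw [map_inv]; exact (Commute.inv_left hx)
  generalize (⟨b, hbN⟩ : N) = v at hbG ⊢
  induction hbG using Subgroup.closure_induction with
  | mem x hx => exact hcent _ haG x hx
  | one => simp
  | mul x y _ _ hx hy => rw [map_mul]; exact (Commute.mul_right hx hy)
  | inv x _ hx => rw [map_inv]; exact (Commute.inv_right hx)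

/-- Two commuting generators, one element inverting the first and fixing the second. -/
theorem eq_one_of_abelian [Finite Γ] (hσ : Function.Surjective σ) (hc : σ.ker ≤ Subgroup.center Γ)
    {z : Γ} (hz : z ∈ σ.ker) (hz' : z ∈ commutator Γ) {p : ℕ} (hp : Odd p) (hzp : z ^ p = 1)
    {x y g : Q} (hxy : x * y = y * x) (hxp : x ^ p = 1) (hgx : g * x * g⁻¹ = x⁻¹)
    (hgy : g * y * g⁻¹ = y) (hcop : Nat.Coprime p (Subgroup.closure {x, y}).index) : z = 1 := by
  obtain ⟨X, rfl⟩ := hσ x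
  obtain ⟨Y, rfl⟩ := hσ y
  obtain ⟨W, rfl⟩ := hσ g
  set c := ⁅X, Y⁆ with hcdef
  have hcker : c ∈ σ.ker := by
    rw [hcdef, MonoidHom.mem_ker, map_commutatorElement,
      commutatorElement_eq_one_iff_mul_comm.mpr hxy]
  have hcz := hc hcker
  have hnorm : ∀ u : Γ, u ∈ Subgroup.normalizer (Subgroup.zpowers c : Set Γ) := fun u => by
    refine Subgroup.mem_normalizer_iff.mpr fun v => ?_
    constructor
    · intro hv
      have hvc : v ∈ Subgroup.center Γ := (Subgroup.zpowers_le.mpr hcz) hv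
      rwa [Subgroup.mem_center_iff.mp hvc u, mul_inv_cancel_right]
    · intro hv
      have hvc : u * v * u⁻¹ ∈ Subgroup.center Γ := (Subgroup.zpowers_le.mpr hcz) hv
      have h := Subgroup.mem_center_iff.mp hvc u
      have e : v = u * v * u⁻¹ := by
        calc v = u⁻¹ * (u * v * u⁻¹ * u) := by group
          _ = u⁻¹ * (u * (u * v * u⁻¹)) := by rw [h]
          _ = u * v * u⁻¹ := by group
      rwa [e]
  have hzC := commutator_comap_le σ hc rfl (Subgroup.zpowers c) (hnorm X) (hnorm Y)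
    (Subgroup.mem_zpowers c)
    (by rw [← commutatorElement_inv]; exact inv_mem (Subgroup.mem_zpowers c))
    (mem_commutator_comap σ hσ hc hz hz' hzp hcop)
  have hk : ∀ a b : Γ, σ a = σ b → a⁻¹ * b ∈ Subgroup.center Γ := fun a b h =>
    hc (by rw [MonoidHom.mem_ker, map_mul, map_inv, h, inv_mul_cancel])
  have e1 := hk X⁻¹ (W * X * W⁻¹) (by rw [map_mul, map_mul, map_inv, map_inv, hgx])
  have e2 := hk Y (W * Y * W⁻¹) (by rw [map_mul, map_mul, map_inv, hgy])
  have hconj : ∀ a b d : Γ, ⁅d * a * d⁻¹, d * b * d⁻¹⁆ = d * ⁅a, b⁆ * d⁻¹ := fun a b d => by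
    simp only [commutatorElement_def]; group
  have hcent : ∀ a b k l : Γ, k ∈ Subgroup.center Γ → l ∈ Subgroup.center Γ →
      ⁅a * k, b * l⁆ = ⁅a, b⁆ := fun a b k l hk hl => by
    rw [Subgroup.mem_center_iff] at hk hl
    simp only [commutatorElement_def, mul_inv_rev]
    calc a * k * (b * l) * (k⁻¹ * a⁻¹) * (l⁻¹ * b⁻¹)
        = a * (k * (b * l)) * k⁻¹ * (a⁻¹ * l⁻¹) * b⁻¹ := by simp only [mul_assoc]
      _ = a * (b * l) * (a⁻¹ * l⁻¹) * b⁻¹ := by
          rw [← hk (b * l)]; simp only [mul_assoc, mul_inv_cancel_left]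
      _ = a * b * (l * (a⁻¹ * l⁻¹)) * b⁻¹ := by simp only [mul_assoc]
      _ = a * b * a⁻¹ * b⁻¹ := by
          rw [← hl (a⁻¹ * l⁻¹)]; simp only [mul_assoc, inv_mul_cancel, mul_one]
  have hinv : ⁅X⁻¹, Y⁆ = c := by
    have h1 : ⁅W * X * W⁻¹, W * Y * W⁻¹⁆ = c := by
      rw [hconj, ← hcdef, Subgroup.mem_center_iff.mp hcz W, mul_inv_cancel_right]
    have h2 := hcent X⁻¹ Y _ _ e1 e2
    rw [mul_inv_cancel_left, mul_inv_cancel_left] at h2
    rw [← h2, h1]
  have hXY : X * Y * X⁻¹ = c * Y := by rw [hcdef, commutatorElement_def]; group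
  have hpow : ∀ n : ℕ, X ^ n * Y * (X ^ n)⁻¹ = c ^ n * Y := by
    intro n
    induction n with
    | zero => simp
    | succ n ih =>
      rw [pow_succ', mul_inv_rev]
      calc X * X ^ n * Y * ((X ^ n)⁻¹ * X⁻¹) = X * (X ^ n * Y * (X ^ n)⁻¹) * X⁻¹ := by group
        _ = X * (c ^ n * Y) * X⁻¹ := by rw [ih]
        _ = c ^ n * (X * Y * X⁻¹) := by
            rw [← mul_assoc, (Subgroup.mem_center_iff.mp (pow_mem hcz n) X)]
            group
        _ = c ^ (n + 1) * Y := by rw [hXY]; group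
  have hXp : X ^ p ∈ Subgroup.center Γ :=
    hc (by rw [MonoidHom.mem_ker, map_pow, hxp])
  have hcp : c ^ p = 1 := by
    have h := hpow p
    rw [← (Subgroup.mem_center_iff.mp hXp Y), mul_inv_cancel_right] at h
    exact mul_right_cancel (h.symm.trans (one_mul Y).symm)
  have hc2 : c ^ 2 = 1 := by
    have h : X⁻¹ * Y * X = c * Y := by
      calc X⁻¹ * Y * X = ⁅X⁻¹, Y⁆ * Y := by rw [commutatorElement_def]; group
        _ = c * Y := by rw [hinv]
    have h2 : Y = c ^ 2 * Y := by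
      calc Y = X * (X⁻¹ * Y * X) * X⁻¹ := by group
        _ = X * (c * Y) * X⁻¹ := by rw [h]
        _ = c * (X * Y * X⁻¹) := by
            rw [← mul_assoc, Subgroup.mem_center_iff.mp hcz X]; group
        _ = c ^ 2 * Y := by rw [hXY, ← mul_assoc, sq]
    exact mul_right_cancel (h2.symm.trans (one_mul Y).symm)
  have hc1 : c = 1 := by
    obtain ⟨k, rfl⟩ := hp
    rwa [pow_succ, pow_mul, hc2, one_pow, one_mul] at hcp
  rw [hc1, Subgroup.zpowers_one_eq_bot] at hzC
  exact hzC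

/-- A semidihedral group of order `16` of index prime to `2`. -/
theorem eq_one_of_semidihedral [Finite Γ] (hσ : Function.Surjective σ)
    (hc : σ.ker ≤ Subgroup.center Γ) {z : Γ} (hz : z ∈ σ.ker) (hz' : z ∈ commutator Γ)
    (hzp : z ^ 2 = 1) {x y : Q} (hx : orderOf x = 8) (hy : y ^ 2 = 1) (hyx : y * x * y⁻¹ = x ^ 3)
    (hcop : Nat.Coprime 2 (Subgroup.closure {x, y}).index) : z = 1 := by
  obtain ⟨X, rfl⟩ := hσ x
  obtain ⟨Y, rfl⟩ := hσ y
  set w := (X ^ 3)⁻¹ * (Y * X * Y⁻¹) with hwdef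
  have hwk : w ∈ σ.ker := by
    rw [hwdef, MonoidHom.mem_ker, map_mul, map_inv, map_mul, map_mul, map_inv, hyx, map_pow,
      inv_mul_cancel]
  have hw : ∀ g : Γ, g * w = w * g := fun g => Subgroup.mem_center_iff.mp (hc hwk) g
  have hY2 : ∀ g : Γ, g * (Y ^ 2) = Y ^ 2 * g := fun g => Subgroup.mem_center_iff.mp
    (hc (by rw [MonoidHom.mem_ker, map_pow, hy])) g
  have hYX : Y * X * Y⁻¹ = X ^ 3 * w := by rw [hwdef]; group
  have hcw : Commute X w := hw X
  set c := X ^ 2 * w with hcdef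
  have hYc : Y * c * Y⁻¹ = c ^ 3 := by
    calc Y * c * Y⁻¹ = (Y * X * Y⁻¹) ^ 2 * (Y * w * Y⁻¹) := by rw [hcdef, conj_pow]; group
      _ = (X ^ 3 * w) ^ 2 * w := by rw [hYX, hw Y, mul_inv_cancel_right]
      _ = c ^ 3 := by
          rw [hcdef, (hcw.pow_left 3).mul_pow, (hcw.pow_left 2).mul_pow, ← pow_mul, ← pow_mul,
            mul_assoc, ← pow_succ]
  have hX8 : X ^ 8 * w ^ 4 = 1 := by
    have h1 : (Y * X * Y⁻¹) ^ 3 * w = X := by
      have h2 : Y * (Y * X * Y⁻¹) * Y⁻¹ = X := by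
        calc Y * (Y * X * Y⁻¹) * Y⁻¹ = Y ^ 2 * X * (Y ^ 2)⁻¹ := by rw [sq]; group
          _ = X := by rw [← hY2 X, mul_inv_cancel_right]
      calc (Y * X * Y⁻¹) ^ 3 * w = Y * X ^ 3 * Y⁻¹ * (Y * w * Y⁻¹) := by
            rw [conj_pow, hw Y, mul_inv_cancel_right]
        _ = Y * (X ^ 3 * w) * Y⁻¹ := by group
        _ = X := by rw [← hYX, h2]
    rw [hYX, (hcw.pow_left 3).mul_pow, ← pow_mul, mul_assoc, ← pow_succ,
      show (3 * 3 : ℕ) = 8 + 1 from rfl, pow_succ, mul_assoc, (hcw.pow_right (3 + 1)).eq,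
      ← mul_assoc] at h1
    exact mul_eq_right.mp h1
  have hc4 : c ^ 4 = 1 := by rw [hcdef, (hcw.pow_left 2).mul_pow, ← pow_mul]; exact hX8
  have hXc : X * c * X⁻¹ = c := by
    rw [((Commute.pow_right (Commute.refl X) 2).mul_right hcw).eq, mul_inv_cancel_right]
  have hnorm : ∀ u : Γ, u * c * u⁻¹ ∈ Subgroup.zpowers c →
      u ∈ Subgroup.normalizer (Subgroup.zpowers c : Set Γ) := by
    intro u hu
    have hle : (Subgroup.zpowers c).map (MulAut.conj u).toMonoidHom ≤ Subgroup.zpowers c := by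
      rw [MonoidHom.map_zpowers, Subgroup.zpowers_le]; exact hu
    have heq := Subgroup.eq_of_le_of_card_ge hle
      (by rw [Subgroup.card_map_of_injective (MulAut.conj u).injective])
    refine Subgroup.mem_normalizer_iff.mpr fun v => ⟨fun hv => ?_, fun hv => ?_⟩
    · rw [← heq]; exact ⟨v, hv, rfl⟩
    · rw [← heq] at hv
      obtain ⟨v', hv', he⟩ := hv
      exact (MulAut.conj u).injective he ▸ hv'
  have hYXc : ⁅Y, X⁆ = c := by
    rw [commutatorElement_def, hYX, hcdef, pow_succ, mul_assoc (X ^ 2), hw X, ← mul_assoc,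
      mul_inv_cancel_right]
  obtain ⟨i, rfl⟩ := Subgroup.mem_zpowers_iff.mp (commutator_comap_le σ hc rfl (Subgroup.zpowers c)
    (hnorm X (by rw [hXc]; exact Subgroup.mem_zpowers c))
    (hnorm Y (by rw [hYc]; exact Subgroup.npow_mem_zpowers c 3))
    (by rw [← commutatorElement_inv, hYXc]; exact inv_mem (Subgroup.mem_zpowers c))
    (by rw [hYXc]; exact Subgroup.mem_zpowers c)
    (mem_commutator_comap σ hσ hc hz hz' hzp hcop))
  have h1 : (σ X ^ 2) ^ i = 1 := by
    have h := MonoidHom.mem_ker.mp hz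
    rwa [map_zpow, hcdef, map_mul, map_pow, MonoidHom.mem_ker.mp hwk, mul_one] at h
  have h4 : orderOf (σ X ^ 2) = 4 := by rw [orderOf_pow' _ (by norm_num), hx]; rfl
  rw [← orderOf_dvd_iff_zpow_eq_one, h4] at h1
  obtain ⟨j, rfl⟩ := h1
  rw [zpow_mul, zpow_natCast, hc4, one_zpow]

/-- A generalised quaternion group of order `16` of index prime to `2`. -/
theorem eq_one_of_quaternion [Finite Γ] (hσ : Function.Surjective σ)
    (hc : σ.ker ≤ Subgroup.center Γ) {z : Γ} (hz : z ∈ σ.ker) (hz' : z ∈ commutator Γ)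
    (hzp : z ^ 2 = 1) {x y : Q} (hx : orderOf x = 8) (hy : y ^ 2 = x ^ 4)
    (hyx : y * x * y⁻¹ = x⁻¹)
    (hcop : Nat.Coprime 2 (Subgroup.closure {x, y}).index) : z = 1 := by
  obtain ⟨X, rfl⟩ := hσ x
  obtain ⟨Y, rfl⟩ := hσ y
  set w := X * (Y * X * Y⁻¹) with hwdef
  have hwk : w ∈ σ.ker := by
    rw [hwdef, MonoidHom.mem_ker, map_mul, map_mul, map_mul, map_inv, hyx, mul_inv_cancel]
  have hw : ∀ g : Γ, Commute g w := fun g => Subgroup.mem_center_iff.mp (hc hwk) g
  have hYX : Y * X * Y⁻¹ = X⁻¹ * w := by rw [hwdef]; group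
  set c := X⁻¹ * X⁻¹ * w with hcdef
  have hk : (X ^ 4)⁻¹ * Y ^ 2 ∈ σ.ker := by
    rw [MonoidHom.mem_ker, map_mul, map_inv, map_pow, map_pow, hy, inv_mul_cancel]
  have hY4 : Y * X ^ 4 * Y⁻¹ = X ^ 4 := by
    set k := (X ^ 4)⁻¹ * Y ^ 2 with hkdef
    have h2 : X ^ 4 = Y ^ 2 * k⁻¹ := by rw [hkdef]; group
    have h3 : Commute Y (X ^ 4) := by
      rw [h2]
      exact ((Commute.refl Y).pow_right 2).mul_right
        (Subgroup.mem_center_iff.mp (hc (inv_mem hk)) Y)
    rw [h3.eq, mul_inv_cancel_right]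
  have hX8 : (X⁻¹) ^ 4 * w ^ 4 = X ^ 4 := by
    rw [← (hw X⁻¹).mul_pow 4, ← hYX, conj_pow, hY4]
  have hc4 : c ^ 4 = 1 := by
    rw [hcdef, (((hw X⁻¹).mul_left (hw X⁻¹))).mul_pow, (Commute.refl X⁻¹).mul_pow, mul_assoc, hX8,
      inv_pow, inv_mul_cancel]
  have hXc : X * c * X⁻¹ = c := by
    have h : Commute X c := by
      rw [hcdef]
      exact (((Commute.refl X).inv_right).mul_right ((Commute.refl X).inv_right)).mul_right (hw X)
    rw [h.eq, mul_inv_cancel_right]
  have hYc : Y * c * Y⁻¹ = c⁻¹ := by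
    calc Y * c * Y⁻¹ = (Y * X * Y⁻¹)⁻¹ * (Y * X * Y⁻¹)⁻¹ * (Y * w * Y⁻¹) := by
          rw [hcdef]; group
      _ = (w⁻¹ * X) * (w⁻¹ * X) * w := by
          rw [hYX, (hw Y).eq, mul_inv_cancel_right, mul_inv_rev, inv_inv]
      _ = (w⁻¹ * X) * (X * w⁻¹) * w := by rw [((hw X).inv_right).eq]
      _ = c⁻¹ := by rw [hcdef]; simp [mul_assoc]
  have hnorm : ∀ u : Γ, u * c * u⁻¹ ∈ Subgroup.zpowers c →
      u ∈ Subgroup.normalizer (Subgroup.zpowers c : Set Γ) := by
    intro u hu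
    have hle : (Subgroup.zpowers c).map (MulAut.conj u).toMonoidHom ≤ Subgroup.zpowers c := by
      rw [MonoidHom.map_zpowers, Subgroup.zpowers_le]; exact hu
    have heq := Subgroup.eq_of_le_of_card_ge hle
      (by rw [Subgroup.card_map_of_injective (MulAut.conj u).injective])
    refine Subgroup.mem_normalizer_iff.mpr fun v => ⟨fun hv => ?_, fun hv => ?_⟩
    · rw [← heq]; exact ⟨v, hv, rfl⟩
    · rw [← heq] at hv
      obtain ⟨v', hv', he⟩ := hv
      exact (MulAut.conj u).injective he ▸ hv'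
  have hYXc : ⁅Y, X⁆ = c := by
    rw [commutatorElement_def, hYX, hcdef, mul_assoc X⁻¹ w, ← ((hw X⁻¹)).eq, ← mul_assoc]
  obtain ⟨i, rfl⟩ := Subgroup.mem_zpowers_iff.mp (commutator_comap_le σ hc rfl (Subgroup.zpowers c)
    (hnorm X (by rw [hXc]; exact Subgroup.mem_zpowers c))
    (hnorm Y (by rw [hYc]; exact inv_mem (Subgroup.mem_zpowers c)))
    (by rw [← commutatorElement_inv, hYXc]; exact inv_mem (Subgroup.mem_zpowers c))
    (by rw [hYXc]; exact Subgroup.mem_zpowers c)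
    (mem_commutator_comap σ hσ hc hz hz' hzp hcop))
  have h1 : ((σ X)⁻¹ ^ 2) ^ i = 1 := by
    have h := MonoidHom.mem_ker.mp hz
    rwa [map_zpow, hcdef, map_mul, map_mul, map_inv, MonoidHom.mem_ker.mp hwk, mul_one, ← sq] at h
  have h4 : orderOf ((σ X)⁻¹ ^ 2) = 4 := by
    rw [orderOf_pow' _ (by norm_num), orderOf_inv, hx]; rfl
  rw [← orderOf_dvd_iff_zpow_eq_one, h4] at h1
  obtain ⟨j, rfl⟩ := h1
  rw [zpow_mul, zpow_natCast, hc4, one_zpow]

/-- A cyclic subgroup of index prime to `p`, possibly trivial. -/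
theorem eq_one_of_cyclic [Finite Γ] (hσ : Function.Surjective σ) (hc : σ.ker ≤ Subgroup.center Γ)
    {z : Γ} (hz : z ∈ σ.ker) (hz' : z ∈ commutator Γ) {p : ℕ} (hzp : z ^ p = 1) {x : Q}
    (hcop : Nat.Coprime p (Subgroup.zpowers x).index) : z = 1 := by
  obtain ⟨X, rfl⟩ := hσ x
  have hnorm : ∀ u : Γ, u ∈ Subgroup.normalizer (((⊥ : Subgroup Γ)) : Set Γ) := fun u =>
    Subgroup.mem_normalizer_iff.mpr fun v => by simp
  have h := commutator_comap_le σ hc (X := X) (Y := 1) (S := Subgroup.zpowers (σ X)) (by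
      rw [map_one, Subgroup.zpowers_eq_closure, Set.pair_comm, Subgroup.closure_insert_one])
    ⊥ (hnorm X) (hnorm 1) (by simp) (by simp) (mem_commutator_comap σ hσ hc hz hz' hzp hcop)
  exact Subgroup.mem_bot.mp h

/-- Triviality of the multiplier, prime by prime. -/
theorem hasCyclicSchurMultiplier_one_of_primes {Q : Type u} [Group Q] [Finite Q]
    {H : Type*} [Group H] (e : H ≃* Q) (ps : List ℕ)
    (hps : ∀ p : ℕ, p.Prime → p ∣ Nat.card H → p ∈ ps)
    (h : ∀ p ∈ ps, ∀ (Δ : Type u) [Group Δ] [Finite Δ] (τ : Δ →* H), Function.Surjective τ →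
      τ.ker ≤ Subgroup.center Δ → τ.ker ≤ commutator Δ →
        ∀ z ∈ τ.ker, z ∈ commutator Δ → z ^ p = 1 → z = 1) :
    HasCyclicSchurMultiplier Q 1 := by
  rw [Cfsg.Agent.Lib.SchurMultiplier.hasCyclicSchurMultiplier_one_iff]
  obtain ⟨Δ, iG, iF, τ, -, ⟨hτs, hτc, hτd⟩, ⟨f⟩, -, -⟩ :=
    Cfsg.Agent.Lib.SchurMultiplier.exists_cover Q
  haveI : Finite H := Finite.of_equiv Q e.symm.toEquiv
  by_contra hne
  haveI : Nontrivial (Cfsg.Agent.Lib.SchurMultiplier.mult Q) :=
    (Subgroup.nontrivial_iff_ne_bot _).mpr hne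
  haveI : Nontrivial τ.ker := f.toEquiv.nontrivial
  obtain ⟨p, hp, hdvd⟩ := Nat.exists_prime_and_dvd (Finite.one_lt_card (α := τ.ker)).ne'
  haveI := Fact.mk hp
  obtain ⟨⟨z, hz⟩, hzo⟩ := exists_prime_orderOf_dvd_card' p hdvd
  have hzo' : orderOf z = p := by rw [← hzo, ← Subgroup.orderOf_coe]
  let τ' : Δ →* H := e.symm.toMonoidHom.comp τ
  have hker : τ'.ker = τ.ker := by
    ext a
    simp [τ', MonoidHom.mem_ker]
  have hs : Function.Surjective τ' := e.symm.surjective.comp hτs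
  have hc' : τ'.ker ≤ Subgroup.center Δ := hker ▸ hτc
  have hzp : z ^ p = 1 := hzo' ▸ pow_orderOf_eq_one z
  have hz1 : z = 1 := by
    by_cases hpH : p ∣ Nat.card H
    · exact h p (hps p hp hpH) Δ τ' hs hc' (hker ▸ hτd) z (hker ▸ hz) (hτd hz) hzp
    · refine eq_one_of_cyclic τ' hs hc' (hker ▸ hz) (hτd hz) hzp (x := 1) ?_
      rw [Subgroup.zpowers_one_eq_bot, Subgroup.index_bot]
      exact hp.coprime_iff_not_dvd.mpr hpH
  rw [hz1, orderOf_one] at hzo'
  exact hp.ne_one hzo'.symm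

end Cfsg.Agent.Lib.Compute
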