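import Cfsg.Agent.Lib.Compute.M24

/-!
# Transitivity, point stabilisers and simplicity of the group of the Golay code
-/

namespace Cfsg.Agent.Lib.Compute

open Cfsg Equiv MulAction

/-- The first `k` orbits contain every point of `A` not among the earlier base points. -/
def fullOrb (n A : ℕ) : ℕ → List Lvl → ℕ → Bool
  | _, _, 0 => true
  | prev, L :: rest, k + 1 =>
      ((List.range n).all fun q => (orbit L).contains q || !A.testBit q || prev.testBit q) &&
        A.testBit L.base && !prev.testBit L.base &&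
        fullOrb n A (prev ||| 1 <<< L.base) rest k
  | _, [], _ + 1 => false

theorem exists_map {n A : ℕ} : ∀ {k prev : ℕ} {c : List Lvl}, chk n c = true →
    fullOrb n A prev c k = true →
    (∀ τ ∈ grp n c, ∀ i : Fin n, A.testBit (τ i) = A.testBit i) →
    (∀ τ ∈ grp n c, ∀ i : Fin n, prev.testBit i → τ i = i) →
    ∀ x : Fin k → Fin n, Function.Injective x → (∀ j, A.testBit (x j)) →
      (∀ j, ¬ prev.testBit (x j)) →
      ∃ σ ∈ grp n c, ∀ (j : Fin k) (b : Fin n), (c.map Lvl.base)[(j : ℕ)]? = some (b : ℕ) →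
        σ b = x j := by
  intro k
  induction k with
  | zero => exact fun _ _ _ _ x _ _ _ => ⟨1, one_mem _, fun j => j.elim0⟩
  | succ k ih =>
    intro prev c hc h hA hfix x hx hxA hxp
    cases c with
    | nil => simp [fullOrb] at h
    | cons L rest =>
      simp only [fullOrb, Bool.and_eq_true, List.all_eq_true, List.mem_range, Bool.or_eq_true,
        List.contains_iff_mem, Bool.not_eq_true'] at h
      obtain ⟨⟨⟨horb, hbA⟩, hbp⟩, hrest⟩ := h
      have hc' := hc
      simp only [chk, Bool.and_eq_true] at hc'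
      have hb : L.base < n := (lvlOk_iff hc'.1).1
      have h0 : ((x 0 : Fin n) : ℕ) ∈ orbit L := by
        rcases horb (x 0) (x 0).isLt with (e | e) | e
        · exact e
        · rw [hxA 0] at e; simp at e
        · exact absurd e (hxp 0)
      obtain ⟨τ, hτ, hτb⟩ := (mem_orbit_iff hc ⟨L.base, hb⟩ (x 0) rfl).mpr h0
      have hle := grp_rest_le hc'.1
      obtain ⟨σ, hσ, hσx⟩ := ih (prev := prev ||| 1 <<< L.base) hc'.2 hrest
        (fun ρ hρ => hA ρ (hle hρ))
        (fun ρ hρ i hi => by
          rw [Nat.testBit_lor, Bool.or_eq_true, Nat.one_shiftLeft, Nat.testBit_two_pow,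
            decide_eq_true_eq] at hi
          rcases hi with hi | hi
          · exact hfix ρ (hle hρ) i hi
          · exact grp_rest_fixes hc'.1 hc'.2 i hi.symm hρ)
        (fun j => τ⁻¹ (x j.succ))
        (fun a b e => Fin.succ_injective _ (hx (τ⁻¹.injective e)))
        (fun j => by rw [hA _ (inv_mem hτ)]; exact hxA _)
        (fun j hj => by
          rw [Nat.testBit_lor, Bool.or_eq_true, Nat.one_shiftLeft, Nat.testBit_two_pow,
            decide_eq_true_eq] at hj
          rcases hj with hj | hj
          · have := hfix τ hτ _ hj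
            simp only [Perm.coe_inv, Equiv.apply_symm_apply] at this
            apply hxp j.succ
            rw [this]; exact hj
          · have e : τ⁻¹ (x j.succ) = ⟨L.base, hb⟩ := Fin.ext hj.symm
            rw [Perm.inv_eq_iff_eq, hτb] at e
            exact absurd (hx e) (Fin.succ_ne_zero j))
      refine ⟨τ * σ, mul_mem hτ (hle hσ), fun j b hj => ?_⟩
      induction j using Fin.cases with
      | zero =>
        simp only [Fin.val_zero, List.map_cons, List.getElem?_cons_zero, Option.some.injEq] at hj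
        rw [Perm.mul_apply, grp_rest_fixes hc'.1 hc'.2 b hj.symm hσ, ← hτb]
        congr 1
        exact Fin.ext hj.symm
      | succ j =>
        simp only [Fin.val_succ, List.map_cons, List.getElem?_cons_succ] at hj
        rw [Perm.mul_apply, hσx j b hj, Perm.coe_inv, Equiv.apply_symm_apply]

theorem coe_equivM24 (σ : grp 24 m24Cert) :
    ((equivM24 σ : M24) : Perm GolayPt) = toGP σ := rfl

theorem equivM24_smul (σ : grp 24 m24Cert) (p : GolayPt) :
    equivM24 σ • p = enc.symm ((σ : Perm (Fin 24)) (enc p)) := rfl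

theorem fullOrb_m24Cert : fullOrb 24 0xffffff 0 m24Cert 5 = true := by decide +kernel

theorem all_testBit_full : ∀ i : Fin 24, Nat.testBit 0xffffff i = true := by decide +kernel

/-- `M24` is five-fold transitive. -/
theorem M24_multiplyPretransitive : IsMultiplyPretransitive M24 GolayPt 5 := by
  have key : ∀ x : Fin 5 ↪ GolayPt, ∃ g : M24, ∀ j : Fin 5,
      g • enc.symm (Fin.castLE (by decide : 5 ≤ 24) j) = x j := by
    intro x
    obtain ⟨σ, hσ, hσx⟩ := exists_map (n := 24) (A := 0xffffff) (prev := 0) m24Cert_ok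
      fullOrb_m24Cert
      (fun τ _ i => by rw [all_testBit_full, all_testBit_full]) (fun τ _ i hi => by simp at hi)
      (fun j => enc (x j)) (enc.injective.comp x.injective) (fun j => all_testBit_full _)
      (fun j hj => by simp at hj)
    refine ⟨equivM24 ⟨σ, hσ⟩, fun j => ?_⟩
    rw [equivM24_smul, Equiv.apply_symm_apply]
    show enc.symm (σ _) = x j
    rw [hσx j _ ?_, Equiv.symm_apply_apply]
    revert j
    decide +kernel
  rw [isMultiplyPretransitive_iff]
  intro x y
  obtain ⟨g, hg⟩ := key x
  obtain ⟨g', hg'⟩ := key y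
  refine ⟨g' * g⁻¹, DFunLike.ext _ _ fun j => ?_⟩
  show (g' * g⁻¹) • x j = y j
  rw [mul_smul, ← hg j, inv_smul_smul, hg' j]

/-- A subgroup of `M24` described inside the certified group is isomorphic to that group. -/
noncomputable def subEquiv {H : Subgroup (Perm (Fin 24))} (hH : H ≤ grp 24 m24Cert)
    (S : Subgroup M24) (h : ∀ σ : grp 24 m24Cert, equivM24 σ ∈ S ↔ (σ : Perm (Fin 24)) ∈ H) :
    H ≃* S :=
  ((Subgroup.subgroupOfEquivOfLe hH).symm.trans (MulEquiv.subgroupCongr
      (Subgroup.ext fun σ => (Subgroup.mem_comap.trans (h σ)).symm :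
        H.subgroupOf (grp 24 m24Cert) = S.comap equivM24.toMonoidHom))).trans
    ((equivM24.subgroupMap (S.comap equivM24.toMonoidHom)).trans
      (MulEquiv.subgroupCongr (Subgroup.map_comap_eq_self_of_surjective equivM24.surjective S)))

/-- Stabiliser of the point 0. -/
def cert1 : List Lvl := [m24Cert1, m24Cert2, m24Cert3, m24Cert4, m24Cert5, m24Cert6]
/-- Stabiliser of the points 0, 1. -/
def cert2 : List Lvl := [m24Cert2, m24Cert3, m24Cert4, m24Cert5, m24Cert6]
/-- Stabiliser of the points 0, 1, 2. -/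
def cert3 : List Lvl := [m24Cert3, m24Cert4, m24Cert5, m24Cert6]

theorem chk_cert1 : chk 24 cert1 = true := by
  have h : chk 24 (m24Cert0 :: cert1) = true := m24Cert_ok
  simp only [chk, Bool.and_eq_true] at h
  exact h.2

theorem chk_cert2 : chk 24 cert2 = true := by
  have h : chk 24 (m24Cert1 :: cert2) = true := chk_cert1
  simp only [chk, Bool.and_eq_true] at h
  exact h.2

theorem chk_cert3 : chk 24 cert3 = true := by
  have h : chk 24 (m24Cert2 :: cert3) = true := chk_cert2
  simp only [chk, Bool.and_eq_true] at h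
  exact h.2

theorem mem_cert1 (σ : Perm (Fin 24)) :
    σ ∈ grp 24 cert1 ↔ σ ∈ grp 24 m24Cert ∧ σ 0 = 0 :=
  mem_grp_rest_iff (L := m24Cert0) (rest := cert1) m24Cert_ok 0 rfl σ

theorem mem_cert2 (σ : Perm (Fin 24)) :
    σ ∈ grp 24 cert2 ↔ σ ∈ grp 24 m24Cert ∧ σ 0 = 0 ∧ σ 1 = 1 := by
  rw [mem_grp_rest_iff (L := m24Cert1) (rest := cert2) chk_cert1 1 rfl σ,
    show (m24Cert1 :: cert2) = cert1 from rfl, mem_cert1, and_assoc]

theorem mem_cert3 (σ : Perm (Fin 24)) :
    σ ∈ grp 24 cert3 ↔ σ ∈ grp 24 m24Cert ∧ σ 0 = 0 ∧ σ 1 = 1 ∧ σ 2 = 2 := by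
  rw [mem_grp_rest_iff (L := m24Cert2) (rest := cert3) chk_cert2 2 rfl σ,
    show (m24Cert2 :: cert3) = cert2 from rfl, mem_cert2]
  simp only [and_assoc]

theorem equivM24_fix_iff (σ : grp 24 m24Cert) (i : Fin 24) :
    equivM24 σ ∈ stabilizer M24 (enc.symm i) ↔ (σ : Perm (Fin 24)) i = i := by
  rw [mem_stabilizer_iff, equivM24_smul, Equiv.apply_symm_apply]
  exact enc.symm.injective.eq_iff

/-- The stabiliser of one point. -/
theorem stabilizer_point_equiv (p : GolayPt) :
    Nonempty (grp 24 cert1 ≃* stabilizer M24 p) := by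
  have h : ∀ σ : grp 24 m24Cert, equivM24 σ ∈ stabilizer M24 (enc.symm 0) ↔
      (σ : Perm (Fin 24)) ∈ grp 24 cert1 := fun σ => by
    rw [equivM24_fix_iff, mem_cert1, and_iff_right σ.2]
  have e := subEquiv (fun σ hσ => ((mem_cert1 σ).mp hσ).1) _ h
  haveI : IsPretransitive M24 GolayPt :=
    haveI := M24_multiplyPretransitive
    isPretransitive_of_is_two_pretransitive
      (h2 := isMultiplyPretransitive_of_le (n := 5) (by decide) (by
        rw [Nat.card_eq_fintype_card]; exact (by decide : 5 ≤ Fintype.card GolayPt)))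
  obtain ⟨g, hg⟩ := exists_smul_eq M24 (enc.symm 0) p
  exact ⟨e.trans (stabilizerEquivStabilizer hg.symm)⟩

/-- The injective five-tuple starting with given distinct points. -/
theorem exists_tuple (s : List GolayPt) (hs : s.Nodup) (hl : s.length ≤ 5) :
    ∃ x : Fin 5 ↪ GolayPt, ∀ (j : ℕ) (hj : j < s.length), x ⟨j, by omega⟩ = s[j] := by
  classical
  have hA : 5 - s.length ≤ (Finset.univ \ s.toFinset : Finset GolayPt).card := by
    rw [Finset.card_univ_diff, List.toFinset_card_of_nodup hs]
    have : Fintype.card GolayPt = 24 := rfl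
    omega
  obtain ⟨t, hts, htc⟩ := Finset.exists_subset_card_eq hA
  have hd : (s ++ t.toList).Nodup := by
    refine List.nodup_append.mpr ⟨hs, t.nodup_toList, ?_⟩
    intro a ha b hb e
    subst e
    have := hts (Finset.mem_toList.mp hb)
    simp [ha] at this
  have hlen : (s ++ t.toList).length = 5 := by simp [htc]; omega
  refine ⟨⟨fun j => (s ++ t.toList)[(j : ℕ)]'(by rw [hlen]; exact j.isLt), fun a b e =>
    Fin.ext ((List.Nodup.getElem_inj_iff hd).mp e)⟩, fun j hj => ?_⟩
  exact List.getElem_append_left hj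

/-- Moving two base points to two given points. -/
theorem exists_smul_two {p q : GolayPt} (hpq : p ≠ q) :
    ∃ g : M24, g • enc.symm 0 = p ∧ g • enc.symm 1 = q := by
  have h0 : ([enc.symm (0 : Fin 24), enc.symm 1] : List GolayPt).Nodup := by decide +kernel
  obtain ⟨x, hx⟩ := exists_tuple _ h0 (by decide)
  obtain ⟨y, hy⟩ := exists_tuple [p, q] (by simp [hpq]) (by simp)
  obtain ⟨g, hg⟩ := isMultiplyPretransitive_iff.mp M24_multiplyPretransitive x y
  refine ⟨g, ?_, ?_⟩
  · have := DFunLike.congr_fun hg ⟨0, by decide⟩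
    rw [hy 0 (by simp)] at this
    rw [Function.Embedding.smul_apply, hx 0 (by simp)] at this
    simpa using this
  · have := DFunLike.congr_fun hg ⟨1, by decide⟩
    rw [hy 1 (by simp)] at this
    rw [Function.Embedding.smul_apply, hx 1 (by simp)] at this
    simpa using this

/-- Moving three base points to three given points. -/
theorem exists_smul_three {p q r : GolayPt} (hpq : p ≠ q) (hpr : p ≠ r) (hqr : q ≠ r) :
    ∃ g : M24, g • enc.symm 0 = p ∧ g • enc.symm 1 = q ∧ g • enc.symm 2 = r := by
  have h0 : ([enc.symm (0 : Fin 24), enc.symm 1, enc.symm 2] : List GolayPt).Nodup := by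
    decide +kernel
  obtain ⟨x, hx⟩ := exists_tuple _ h0 (by decide)
  obtain ⟨y, hy⟩ := exists_tuple [p, q, r] (by simp [hpq, hpr, hqr]) (by simp)
  obtain ⟨g, hg⟩ := isMultiplyPretransitive_iff.mp M24_multiplyPretransitive x y
  refine ⟨g, ?_, ?_, ?_⟩
  · have := DFunLike.congr_fun hg ⟨0, by decide⟩
    rw [hy 0 (by simp)] at this
    rw [Function.Embedding.smul_apply, hx 0 (by simp)] at this
    simpa using this
  · have := DFunLike.congr_fun hg ⟨1, by decide⟩
    rw [hy 1 (by simp)] at this
    rw [Function.Embedding.smul_apply, hx 1 (by simp)] at this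
    simpa using this
  · have := DFunLike.congr_fun hg ⟨2, by decide⟩
    rw [hy 2 (by simp)] at this
    rw [Function.Embedding.smul_apply, hx 2 (by simp)] at this
    simpa using this

theorem map_conj_stabilizer {G α : Type*} [Group G] [MulAction G α] (g : G) (a : α) :
    (stabilizer G a).map (MulAut.conj g).toMonoidHom = stabilizer G (g • a) :=
  (stabilizer_smul_eq_stabilizer_map_conj g a).symm

/-- The stabiliser of two points. -/
theorem stabilizer_two_equiv {p q : GolayPt} (hpq : p ≠ q) :
    Nonempty (grp 24 cert2 ≃* ↥(stabilizer M24 p ⊓ stabilizer M24 q)) := by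
  obtain ⟨g, rfl, rfl⟩ := exists_smul_two hpq
  have h : ∀ σ : grp 24 m24Cert, equivM24 σ ∈ stabilizer M24 (enc.symm 0) ⊓
      stabilizer M24 (enc.symm 1) ↔ (σ : Perm (Fin 24)) ∈ grp 24 cert2 := fun σ => by
    rw [Subgroup.mem_inf, equivM24_fix_iff, equivM24_fix_iff, mem_cert2, and_iff_right σ.2]
  refine ⟨(subEquiv (fun σ hσ => ((mem_cert2 σ).mp hσ).1) _ h).trans
    (((MulAut.conj g).subgroupMap _).trans (MulEquiv.subgroupCongr ?_))⟩
  show Subgroup.map (MulAut.conj g).toMonoidHom _ = _
  rw [Subgroup.map_inf _ _ _ (MulAut.conj g).injective, map_conj_stabilizer, map_conj_stabilizer]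

/-- The stabiliser of three points. -/
theorem stabilizer_three_equiv {p q r : GolayPt} (hpq : p ≠ q) (hpr : p ≠ r) (hqr : q ≠ r) :
    Nonempty (grp 24 cert3 ≃*
      ↥(stabilizer M24 p ⊓ stabilizer M24 q ⊓ stabilizer M24 r)) := by
  obtain ⟨g, rfl, rfl, rfl⟩ := exists_smul_three hpq hpr hqr
  have h : ∀ σ : grp 24 m24Cert, equivM24 σ ∈ stabilizer M24 (enc.symm 0) ⊓
      stabilizer M24 (enc.symm 1) ⊓ stabilizer M24 (enc.symm 2) ↔
      (σ : Perm (Fin 24)) ∈ grp 24 cert3 := fun σ => by
    rw [Subgroup.mem_inf, Subgroup.mem_inf, equivM24_fix_iff, equivM24_fix_iff, equivM24_fix_iff,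
      mem_cert3, and_iff_right σ.2, and_assoc]
  refine ⟨(subEquiv (fun σ hσ => ((mem_cert3 σ).mp hσ).1) _ h).trans
    (((MulAut.conj g).subgroupMap _).trans (MulEquiv.subgroupCongr ?_))⟩
  show Subgroup.map (MulAut.conj g).toMonoidHom _ = _
  rw [Subgroup.map_inf _ _ _ (MulAut.conj g).injective,
    Subgroup.map_inf _ _ _ (MulAut.conj g).injective, map_conj_stabilizer, map_conj_stabilizer,
    map_conj_stabilizer]

theorem card_cert1 : Nat.card (grp 24 cert1) = 10200960 := by
  rw [card_grp chk_cert1]; decide +kernel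

theorem card_cert2 : Nat.card (grp 24 cert2) = 443520 := by
  rw [card_grp chk_cert2]; decide +kernel

theorem card_cert3 : Nat.card (grp 24 cert3) = 20160 := by
  rw [card_grp chk_cert3]; decide +kernel

theorem isSimpleGroup_cert1 : IsSimpleGroup (grp 24 cert1) :=
  isSimpleGroup_grp_of_pElements (p := 23) (a := 1) (base := m23GenBase) (steps := m23GenSteps)
    chk_cert1 (by norm_num) (by decide +kernel) (by decide +kernel) (by decide +kernel)
    (by decide +kernel) (by decide +kernel) (by decide +kernel) (by decide +kernel)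
    (by decide +kernel) (by
      have h : ∀ b ∈ m23GenBase, ∃ js ∈ m23GenWit, memOk 24 cert1 b js = true := by decide +kernel
      intro b hb
      obtain ⟨js, -, hj⟩ := h b hb
      exact (mem_grp_of_memOk chk_cert1 hj).2)

theorem isSimpleGroup_cert2 : IsSimpleGroup (grp 24 cert2) :=
  isSimpleGroup_grp_of_pElements (p := 11) (a := 1) (base := m22GenBase) (steps := m22GenSteps)
    chk_cert2 (by norm_num) (by decide +kernel) (by decide +kernel) (by decide +kernel)
    (by decide +kernel) (by decide +kernel) (by decide +kernel) (by decide +kernel)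
    (by decide +kernel) (by
      have h : ∀ b ∈ m22GenBase, ∃ js ∈ m22GenWit, memOk 24 cert2 b js = true := by decide +kernel
      intro b hb
      obtain ⟨js, -, hj⟩ := h b hb
      exact (mem_grp_of_memOk chk_cert2 hj).2)

theorem isSimpleGroup_cert3 : IsSimpleGroup (grp 24 cert3) :=
  isSimpleGroup_grp_of_pElements (p := 7) (a := 1) (base := l34GenBase) (steps := l34GenSteps)
    chk_cert3 (by norm_num) (by decide +kernel) (by decide +kernel) (by decide +kernel)
    (by decide +kernel) (by decide +kernel) (by decide +kernel) (by decide +kernel)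
    (by decide +kernel) (by
      have h : ∀ b ∈ l34GenBase, ∃ js ∈ l34GenWit, memOk 24 cert3 b js = true := by decide +kernel
      intro b hb
      obtain ⟨js, -, hj⟩ := h b hb
      exact (mem_grp_of_memOk chk_cert3 hj).2)

theorem isSimpleGroup_M24 : IsSimpleGroup M24 := by
  obtain ⟨e⟩ := stabilizer_point_equiv (enc.symm 0)
  haveI := isSimpleGroup_cert1
  haveI : Nontrivial M24 := by
    refine Finite.one_lt_card_iff_nontrivial.mp ?_
    rw [card_M24]; norm_num
  have h2 : IsMultiplyPretransitive M24 GolayPt 2 :=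
    haveI := M24_multiplyPretransitive
    isMultiplyPretransitive_of_le (n := 5) (by decide) (by
      rw [Nat.card_eq_fintype_card]; exact (by decide : 5 ≤ Fintype.card GolayPt))
  have hc : Nat.card GolayPt = 24 := by rw [Nat.card_eq_fintype_card]; rfl
  refine isSimpleGroup_of_stabilizer h2 (enc.symm 0) e.symm.isSimpleGroup ?_ (by rw [hc]; norm_num)
  rw [hc, isPrimePow_nat_iff_bounded]
  decide +kernel

end Cfsg.Agent.Lib.Compute
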