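import Cfsg.Agent.Lib.Compute.GolayFacts

/-!
# The stabiliser of a dodecad (M₁₂), of a point of it (M₁₁), and of an octad pointwise
-/

namespace Cfsg.Agent.Lib.Compute

open Cfsg Equiv MulAction
open scoped Pointwise

variable {n : ℕ}

/-- Fixing the first `k` base points puts an element into the `k`-th stabiliser. -/
theorem mem_drop_of_fix : ∀ (k : ℕ) {c : List Lvl}, chk n c = true → ∀ {σ : Perm (Fin n)},
    σ ∈ grp n c → (∀ L ∈ c.take k, ∀ b : Fin n, (b : ℕ) = L.base → σ b = b) →
    σ ∈ grp n (c.drop k) := by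
  intro k
  induction k with
  | zero => intro c _ σ hσ _; simpa using hσ
  | succ k ih =>
    intro c hc σ hσ hfix
    cases c with
    | nil => simpa using hσ
    | cons L rest =>
      have hc' := hc
      simp only [chk, Bool.and_eq_true] at hc'
      have hb : L.base < n := (lvlOk_iff hc'.1).1
      have hm := (mem_grp_rest_iff hc ⟨L.base, hb⟩ rfl σ).mpr
        ⟨hσ, hfix L (by simp) _ rfl⟩
      rw [List.drop_succ_cons]
      exact ih hc'.2 hm fun M hM => hfix M (by simp [hM])

/-- All index lists of a certificate. -/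
def idxLists : List Lvl → List (List ℕ)
  | [] => [[]]
  | L :: rest => (List.range (L.trans.length + 1)).flatMap fun j => (idxLists rest).map (j :: ·)

theorem exists_idx : ∀ {c : List Lvl}, chk n c = true → ∀ {σ : Perm (Fin n)}, σ ∈ grp n c →
    ∃ js ∈ idxLists c, σ = siftPerm n c js := by
  intro c
  induction c with
  | nil => intro _ σ hσ; exact ⟨[], by simp [idxLists], by simpa [grp, siftPerm] using hσ⟩
  | cons L rest ih =>
    intro hc σ hσ
    obtain ⟨q, hq, τ, hτ, rfl⟩ := exists_decomp hc hσ
    simp only [chk, Bool.and_eq_true] at hc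
    obtain ⟨js, hjs, rfl⟩ := ih hc.2 hτ
    refine ⟨q :: js, ?_, rfl⟩
    simp only [idxLists, List.mem_flatMap, List.mem_range, List.mem_map]
    exact ⟨q, Nat.lt_succ_of_le hq, js, hjs, rfl⟩

/-- The subgroup of permutations preserving a mask. -/
def maskStab (n d : ℕ) : Subgroup (Perm (Fin n)) where
  carrier := {σ | ∀ i : Fin n, d.testBit (σ i) = d.testBit i}
  one_mem' := fun _ => rfl
  mul_mem' := fun {σ τ} hσ hτ i => by rw [Perm.mul_apply, hσ (τ i), hτ i]
  inv_mem' := fun {σ} hσ i => by
    have := hσ (σ⁻¹ i)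
    rw [Perm.coe_inv, Equiv.apply_symm_apply] at this
    exact this.symm

theorem mem_maskStab {d : ℕ} {σ : Perm (Fin n)} :
    σ ∈ maskStab n d ↔ ∀ i : Fin n, d.testBit (σ i) = d.testBit i := Iff.rfl

/-- The generators of the first level preserve the mask `d`. -/
def gensMask (n d : ℕ) : List Lvl → Bool
  | [] => true
  | L :: _ => L.gens.all fun g => genOk n g &&
      (List.range n).all fun i => d.testBit (app g.1 i) == d.testBit i

theorem grp_le_maskStab {d : ℕ} {c : List Lvl} (h : gensMask n d c = true) :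
    grp n c ≤ maskStab n d := by
  cases c with
  | nil => simp [grp]
  | cons L rest =>
    refine (Subgroup.closure_le _).mpr ?_
    rintro _ ⟨g, hg, rfl⟩ i
    have := List.all_eq_true.mp h g hg
    rw [Bool.and_eq_true] at this
    have h2 := List.all_eq_true.mp this.2 i (List.mem_range.mpr i.isLt)
    rw [repr_toPerm_of_genOk this.1]
    exact beq_iff_eq.mp h2

/-- The dodecad of squares as a mask. -/
abbrev dodMask : ℕ := 0x5335f

theorem squares_eq : support₂ (qrWord 0) = setOf24 dodMask := by
  rw [qrWord_eq, support₂_wordOf]; rfl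

theorem setOf24_dodMask_mem : setOf24 dodMask ∈ dodecads :=
  ⟨⟨_, wordOf_mem_of_inCode (by decide +kernel), support₂_wordOf _⟩, by
    rw [card_setOf24]; decide +kernel⟩

theorem toGP_smul_setOf24_iff (σ : Perm (Fin 24)) (d : ℕ) :
    toGP σ • setOf24 d = setOf24 d ↔ σ ∈ maskStab 24 d := by
  constructor
  · intro h i
    have := congrArg (fun s => toGP σ (enc.symm i) ∈ s) h
    simp only [mem_smul_finset_iff, Equiv.symm_apply_apply, mem_setOf24, enc_toGP,
      Equiv.apply_symm_apply, eq_iff_iff] at this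
    exact (Bool.eq_iff_iff.mpr this).symm
  · intro h
    ext p
    rw [mem_smul_finset_iff, mem_setOf24, mem_setOf24]
    conv_rhs => rw [← Equiv.apply_symm_apply (toGP σ) p, enc_toGP, h]

theorem m12_end : ∀ σ ∈ K24 ⊓ maskStab 24 dodMask, FixMask σ (finalMask 0 m12Cert) → σ = 1 := by
  rintro σ ⟨hσ, hd⟩ hF
  rw [SetLike.mem_coe, K24_eq] at hσ
  have hm := mem_drop_of_fix 5 m24Cert_ok hσ fun L hL b hb => hF b (by
    have : ∀ L ∈ m24Cert.take 5, (finalMask 0 m12Cert).testBit L.base = true := by
      simp only [m24Cert, List.take_succ_cons, List.take_zero, List.forall_mem_cons]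
      refine ⟨?_, ?_, ?_, ?_, ?_, fun L hL => absurd hL List.not_mem_nil⟩ <;> decide +kernel
    rw [hb]; exact this L hL)
  have hc : chk 24 (m24Cert.drop 5) = true := by decide +kernel
  obtain ⟨js, hjs, rfl⟩ := exists_idx hc hm
  have key : ∀ js ∈ idxLists (m24Cert.drop 5),
      (List.range 24).all (fun i => sift (m24Cert.drop 5) js i == i) = true ∨
      (List.range 24).any (fun i => dodMask.testBit (sift (m24Cert.drop 5) js i) != dodMask.testBit i)
        = true := by decide +kernel
  have hr := (sift_spec hc js).1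
  rcases key js hjs with e | e
  · exact hr.eq Repr.one fun i hi => beq_iff_eq.mp (List.all_eq_true.mp e i (List.mem_range.mpr hi))
  · obtain ⟨i, hi, hne⟩ := List.any_eq_true.mp e
    have := (mem_maskStab.mp hd) ⟨i, List.mem_range.mp hi⟩
    rw [hr] at this
    exact absurd this (bne_iff_ne.mp hne)

theorem presGens_m12Cert : presGens m12Cert = true := by decide +kernel

theorem gensMask_m12Cert : gensMask 24 dodMask m12Cert = true := by decide +kernel

theorem m12Cert_le : grp 24 m12Cert ≤ K24 ⊓ maskStab 24 dodMask :=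
  le_inf (grp_le_K24 presGens_m12Cert) (grp_le_maskStab gensMask_m12Cert)

/-- **The stabiliser of the dodecad of squares is the certified group.** -/
theorem K12_eq : K24 ⊓ maskStab 24 dodMask = grp 24 m12Cert := by
  refine le_antisymm (fun σ hσ => ?_) m12Cert_le
  exact le_grp_of_upperOk (ext := [dodMask]) inf_le_left
    (fun τ hτ o ho i => by
      rw [List.mem_singleton] at ho; subst ho; exact mem_maskStab.mp hτ.2 i)
    (oss := []) m12Cert_ok (by decide +kernel : upperOk [dodMask] 0 m12Cert [] = true) m12Cert_le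
    (fun τ _ i hi => by simp at hi) m12_end σ hσ (fun i hi => by simp at hi)

theorem mem_m12_iff (σ : grp 24 m24Cert) :
    equivM24 σ ∈ stabilizer M24 (setOf24 dodMask) ↔ (σ : Perm (Fin 24)) ∈ grp 24 m12Cert := by
  have hσ : (σ : Perm (Fin 24)) ∈ K24 := by rw [K24_eq]; exact σ.2
  rw [← K12_eq, Subgroup.mem_inf, and_iff_right hσ, ← toGP_smul_setOf24_iff]
  rfl

theorem m12Cert_le_m24 : grp 24 m12Cert ≤ grp 24 m24Cert := by
  rw [← K24_eq, ← K12_eq]; exact inf_le_left

/-- The stabiliser of the dodecad of squares. -/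
noncomputable def equivM12 : grp 24 m12Cert ≃* stabilizer M24 (setOf24 dodMask) :=
  subEquiv m12Cert_le_m24 _ mem_m12_iff

theorem card_m12Cert : Nat.card (grp 24 m12Cert) = 95040 := by
  rw [card_grp m12Cert_ok]; decide +kernel

/-- `M24` is transitive on dodecads. -/
theorem exists_smul_dodecad {d d' : Finset GolayPt} (hd : d ∈ dodecads) (hd' : d' ∈ dodecads) :
    ∃ g : M24, g • d = d' := by
  have hall : ∀ e ∈ dodecads, ∃ g : M24, g • setOf24 dodMask = e := by
    have hsub : MulAction.orbit M24 (setOf24 dodMask) ⊆ dodecads := by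
      rintro _ ⟨g, rfl⟩
      exact smul_mem_dodecads g.2 setOf24_dodMask_mem
    have h1 : (stabilizer M24 (setOf24 dodMask)).index = 2576 := by
      have h := (stabilizer M24 (setOf24 dodMask)).card_mul_index
      rw [← Nat.card_congr equivM12.toEquiv, card_m12Cert, card_M24] at h
      omega
    have h2 : dodecads.ncard ≤ (MulAction.orbit M24 (setOf24 dodMask)).ncard := by
      rw [ncard_dodecads, ← MulAction.index_stabilizer, h1]
    have h3 := Set.eq_of_subset_of_ncard_le hsub h2 (Set.toFinite _)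
    intro e he
    rw [← h3] at he
    exact he
  obtain ⟨g, rfl⟩ := hall d hd
  obtain ⟨g', rfl⟩ := hall d' hd'
  exact ⟨g' * g⁻¹, by rw [mul_smul, inv_smul_smul]⟩

theorem stabilizer_dodecad_equiv {d : Finset GolayPt} (hd : d ∈ dodecads) :
    Nonempty (grp 24 m12Cert ≃* stabilizer M24 d) := by
  obtain ⟨g, hg⟩ := exists_smul_dodecad setOf24_dodMask_mem hd
  exact ⟨equivM12.trans (stabilizerEquivStabilizer hg.symm)⟩

/-- Stabiliser of the point 0 in the dodecad stabiliser. -/
def cert11 : List Lvl := [m12Cert1, m12Cert2, m12Cert3, m12Cert4]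

theorem chk_cert11 : chk 24 cert11 = true := by
  have h : chk 24 (m12Cert0 :: cert11) = true := m12Cert_ok
  simp only [chk, Bool.and_eq_true] at h
  exact h.2

theorem mem_cert11 (σ : Perm (Fin 24)) :
    σ ∈ grp 24 cert11 ↔ σ ∈ grp 24 m12Cert ∧ σ 0 = 0 :=
  mem_grp_rest_iff (L := m12Cert0) (rest := cert11) m12Cert_ok 0 rfl σ

theorem card_cert11 : Nat.card (grp 24 cert11) = 7920 := by
  rw [card_grp chk_cert11]; decide +kernel

theorem isSimpleGroup_cert11 : IsSimpleGroup (grp 24 cert11) :=
  isSimpleGroup_grp_of_pElements (p := 11) (a := 1) (base := m11GenBase) (steps := m11GenSteps)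
    chk_cert11 (by norm_num) (by decide +kernel) (by decide +kernel) (by decide +kernel)
    (by decide +kernel) (by decide +kernel) (by decide +kernel) (by decide +kernel)
    (by decide +kernel) (by
      have h : ∀ b ∈ m11GenBase, ∃ js ∈ m11GenWit, memOk 24 cert11 b js = true := by decide +kernel
      intro b hb
      obtain ⟨js, -, hj⟩ := h b hb
      exact (mem_grp_of_memOk chk_cert11 hj).2)

theorem isSimpleGroup_m12Cert : IsSimpleGroup (grp 24 m12Cert) := by
  let G := grp 24 m12Cert
  let b : Fin 24 := 0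
  have hb : (b : ℕ) = m12Cert0.base := rfl
  have hchk : chk 24 (m12Cert0 :: cert11) = true := m12Cert_ok
  have hbi : basesInOrbit (m12Cert0 :: cert11) = true := by decide +kernel
  haveI : FaithfulSMul G (MulAction.orbit G b) := faithful_on_orbit hchk b hb hbi
  haveI : Nontrivial G := by
    refine Finite.one_lt_card_iff_nontrivial.mp ?_
    show 1 < Nat.card (grp 24 m12Cert)
    rw [card_m12Cert]; norm_num
  have h2 : IsMultiplyPretransitive G (MulAction.orbit G b) 2 :=
    two_pretransitive_on_orbit (L := m12Cert0) (L' := m12Cert1)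
      (rest := [m12Cert2, m12Cert3, m12Cert4]) hchk b hb (by decide +kernel)
  have hc : Nat.card (MulAction.orbit G b) = 12 := by
    have h := card_orbit_eq hchk b hb
    have h' : m12Cert0.trans.length + 1 = 12 := by decide +kernel
    rw [h'] at h
    exact h
  have hst : stabilizer G (⟨b, mem_orbit_self b⟩ : MulAction.orbit G b) =
      (grp 24 cert11).subgroupOf G := by
    ext σ
    rw [mem_stabilizer_iff, Subgroup.mem_subgroupOf, mem_cert11, and_iff_right σ.2]
    exact Subtype.ext_iff
  have hs : IsSimpleGroup (stabilizer G (⟨b, mem_orbit_self b⟩ : MulAction.orbit G b)) := by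
    rw [hst]
    haveI := isSimpleGroup_cert11
    exact (Subgroup.subgroupOfEquivOfLe fun σ hσ => ((mem_cert11 σ).mp hσ).1).isSimpleGroup
  refine isSimpleGroup_of_stabilizer h2 _ hs ?_ (by rw [hc]; norm_num)
  rw [hc, isPrimePow_nat_iff_bounded]
  decide +kernel

theorem fullOrb_m12Cert : fullOrb 24 dodMask 0 m12Cert 5 = true := by decide +kernel

/-- Inside the dodecad, the five base points go to any five distinct points. -/
theorem exists_map_m12 (x : Fin 5 → Fin 24) (hx : Function.Injective x)
    (hxd : ∀ j, dodMask.testBit (x j)) :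
    ∃ σ ∈ grp 24 m12Cert, ∀ j : Fin 5, σ (Fin.castLE (by decide) j) = x j := by
  obtain ⟨σ, hσ, h⟩ := exists_map (A := dodMask) (prev := 0) m12Cert_ok fullOrb_m12Cert
    (fun τ hτ i => mem_maskStab.mp (m12Cert_le hτ).2 i) (fun τ _ i hi => by simp at hi)
    x hx hxd (fun j hj => by simp at hj)
  refine ⟨σ, hσ, fun j => h j _ ?_⟩
  revert j
  decide +kernel

theorem eq_one_m12 {σ : Perm (Fin 24)} (hσ : σ ∈ grp 24 m12Cert)
    (h : ∀ j : Fin 5, σ (Fin.castLE (by decide) j) = Fin.castLE (by decide) j) : σ = 1 := by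
  refine eq_one_of_fix_bases m12Cert_ok hσ fun L hL b hb => ?_
  have : ∀ L ∈ m12Cert, L.base < 5 := by
    simp only [m12Cert, List.forall_mem_cons]
    refine ⟨?_, ?_, ?_, ?_, ?_, fun L hL => absurd hL List.not_mem_nil⟩ <;> decide +kernel
  have hlt := this L hL
  have := h ⟨b, by omega⟩
  exact this

/-- A point of a dodecad, with the dodecad, can be moved to the standard pair. -/
theorem exists_smul_dodecad_point {d : Finset GolayPt} (hd : d ∈ dodecads) {p : GolayPt}
    (hp : p ∈ d) : ∃ g : M24, g • setOf24 dodMask = d ∧ g • enc.symm 0 = p := by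
  classical
  obtain ⟨g, hg⟩ := exists_smul_dodecad setOf24_dodMask_mem hd
  have hq : g⁻¹ • p ∈ setOf24 dodMask := by
    rw [← hg, Finset.mem_smul_finset] at hp
    obtain ⟨r, hr, rfl⟩ := hp
    rwa [inv_smul_smul]
  rw [mem_setOf24] at hq
  have hdc : (setOf24 dodMask).card = 12 := by rw [card_setOf24]; decide +kernel
  obtain ⟨t, hts, htc⟩ := Finset.exists_subset_card_eq
    (s := (setOf24 dodMask).erase (g⁻¹ • p)) (n := 4)
    (by rw [Finset.card_erase_of_mem (mem_setOf24.mpr hq), hdc]; decide)
  let x : Fin 5 → Fin 24 := Fin.cons (enc (g⁻¹ • p)) fun j => enc ((t.equivFinOfCardEq htc).symm j).1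
  have hx : Function.Injective x := by
    refine Fin.cons_injective_iff.mpr ⟨?_, fun a b e => (t.equivFinOfCardEq htc).symm.injective
      (Subtype.ext (enc.injective e))⟩
    rintro ⟨j, e⟩
    have := hts ((t.equivFinOfCardEq htc).symm j).2
    rw [Finset.mem_erase] at this
    exact this.1 (enc.injective e)
  have hxd : ∀ j, dodMask.testBit (x j) := by
    intro j
    induction j using Fin.cases with
    | zero => simpa [x] using hq
    | succ j =>
      simp only [x, Fin.cons_succ]
      exact mem_setOf24.mp (Finset.mem_of_mem_erase (hts ((t.equivFinOfCardEq htc).symm j).2))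
  obtain ⟨σ, hσ, hσx⟩ := exists_map_m12 x hx hxd
  refine ⟨g * equivM24 ⟨σ, m12Cert_le_m24 hσ⟩, ?_, ?_⟩
  · rw [mul_smul, (mem_m12_iff ⟨σ, m12Cert_le_m24 hσ⟩).mpr hσ, hg]
  · rw [mul_smul, equivM24_smul, Equiv.apply_symm_apply]
    show g • enc.symm (σ 0) = p
    rw [show σ 0 = x 0 from hσx 0]
    simp [x]

theorem mem_cert11_iff (σ : grp 24 m24Cert) :
    equivM24 σ ∈ stabilizer M24 (setOf24 dodMask) ⊓ stabilizer M24 (enc.symm 0) ↔
      (σ : Perm (Fin 24)) ∈ grp 24 cert11 := by
  rw [Subgroup.mem_inf, mem_m12_iff, equivM24_fix_iff, mem_cert11]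

theorem stabilizer_dodecad_point_equiv {d : Finset GolayPt} (hd : d ∈ dodecads) {p : GolayPt}
    (hp : p ∈ d) : Nonempty (grp 24 cert11 ≃* ↥(stabilizer M24 d ⊓ stabilizer M24 p)) := by
  obtain ⟨g, rfl, rfl⟩ := exists_smul_dodecad_point hd hp
  refine ⟨(subEquiv (fun σ hσ => m12Cert_le_m24 ((mem_cert11 σ).mp hσ).1) _ mem_cert11_iff).trans
    (((MulAut.conj g).subgroupMap _).trans (MulEquiv.subgroupCongr ?_))⟩
  show Subgroup.map (MulAut.conj g).toMonoidHom _ = _
  rw [Subgroup.map_inf _ _ _ (MulAut.conj g).injective, map_conj_stabilizer, map_conj_stabilizer]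

/-- The certificate `m11OutCert` describes the same group as `cert11`. -/
theorem m11Out_eq : grp 24 m11OutCert = grp 24 cert11 := by
  refine Subgroup.eq_of_le_of_card_ge ?_ ?_
  · intro σ hσ
    have h1 : σ ∈ K24 := grp_le_K24 (by decide +kernel : presGens m11OutCert = true) hσ
    have h2 : σ ∈ maskStab 24 dodMask :=
      grp_le_maskStab (by decide +kernel : gensMask 24 dodMask m11OutCert = true) hσ
    have h3 : σ ∈ maskStab 24 1 :=
      grp_le_maskStab (by decide +kernel : gensMask 24 1 m11OutCert = true) hσ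
    rw [mem_cert11, ← K12_eq]
    refine ⟨⟨h1, h2⟩, ?_⟩
    have h4 := h3 0
    have : ∀ i : Fin 24, (Nat.testBit 1 i = Nat.testBit 1 (0 : Fin 24)) → i = 0 := by decide +kernel
    exact this _ h4
  · rw [card_grp m11OutCert_ok, card_cert11]
    decide +kernel

theorem exists_map_m11_out (x : Fin 3 → Fin 24) (hx : Function.Injective x)
    (hxd : ∀ j, ¬ dodMask.testBit (x j)) :
    ∃ σ ∈ grp 24 cert11, ∀ j : Fin 3, ∀ b : Fin 24,
      (m11OutCert.map Lvl.base)[(j : ℕ)]? = some (b : ℕ) → σ b = x j := by
  rw [← m11Out_eq]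
  refine exists_map (A := 0xffffff ^^^ dodMask) (prev := 0) m11OutCert_ok (by decide +kernel)
    (fun τ hτ i => ?_) (fun τ _ i hi => by simp at hi) x hx (fun j => ?_) (fun j hj => by simp at hj)
  · have h2 : τ ∈ maskStab 24 dodMask :=
      grp_le_maskStab (by decide +kernel : gensMask 24 dodMask m11OutCert = true) hτ
    rw [Nat.testBit_xor, Nat.testBit_xor, all_testBit_full, all_testBit_full, h2 i]
  · rw [Nat.testBit_xor, all_testBit_full]
    simpa using hxd j

/-- The octad through the points 0, 1, 2, 3, 4. -/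
abbrev octMask : ℕ := 0x149f

/-- The pointwise stabiliser of that octad. -/
def cert16 : List Lvl := [m24Cert6]

theorem mem_cert16_iff (σ : Perm (Fin 24)) :
    σ ∈ grp 24 cert16 ↔ σ ∈ grp 24 m24Cert ∧ ∀ i : Fin 24, octMask.testBit i → σ i = i := by
  have hc : chk 24 cert16 = true := by decide +kernel
  constructor
  · intro hσ
    obtain ⟨js, hjs, rfl⟩ := exists_idx hc hσ
    refine ⟨?_, fun i hi => Fin.ext ?_⟩
    · have hle : grp 24 cert16 ≤ grp 24 m24Cert := by
        rw [← K24_eq]
        exact grp_le_K24 (by decide +kernel : presGens cert16 = true)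
      exact hle hσ
    · have key : ∀ js ∈ idxLists cert16, ∀ i : Fin 24, octMask.testBit i →
          sift cert16 js i = (i : ℕ) := by decide +kernel
      rw [(sift_spec hc js).1 i, key js hjs i hi]
  · rintro ⟨hσ, hfix⟩
    refine mem_drop_of_fix 6 m24Cert_ok hσ fun L hL b hb => hfix b ?_
    have : ∀ L ∈ m24Cert.take 6, octMask.testBit L.base = true := by
      simp only [m24Cert, List.take_succ_cons, List.take_zero, List.forall_mem_cons]
      refine ⟨?_, ?_, ?_, ?_, ?_, ?_, fun L hL => absurd hL List.not_mem_nil⟩ <;> decide +kernel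
    rw [hb]
    exact this L hL

end Cfsg.Agent.Lib.Compute
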