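import Cfsg.Prelude.Def_Spor_Mathieu
import Cfsg.Agent.Lib.Compute.MathieuDodec

/-!
# The groups of `Def_Spor_Mathieu` are the certified groups
-/

set_option autoImplicit false

namespace Cfsg.Agent.Lib.Compute

open Cfsg Equiv MulAction
open scoped Pointwise

theorem equiv_of_le_mem {X : Subgroup (Perm GolayPt)} (hX : X ≤ M24) {A : Subgroup M24}
    (h : ∀ g : M24, g ∈ A ↔ (g : Perm GolayPt) ∈ X) : Nonempty (A ≃* X) := by
  refine ⟨(A.equivMapOfInjective M24.subtype (Subgroup.subtype_injective _)).trans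
    (MulEquiv.subgroupCongr ?_)⟩
  ext x
  constructor
  · rintro ⟨g, hg, rfl⟩
    exact (h g).mp hg
  · intro hx
    exact ⟨⟨x, hX hx⟩, (h _).mpr hx, rfl⟩

theorem squareDodecad_mem : Spor.squareDodecad ∈ dodecads := by
  rw [Spor.squareDodecad, squares_eq]
  exact setOf24_dodMask_mem

theorem squareDodecad_zero : (some 0 : GolayPt) ∈ Spor.squareDodecad := by
  rw [Spor.squareDodecad, squares_eq, mem_setOf24]
  decide +kernel

theorem spor_M23_equiv : Nonempty (grp 24 cert1 ≃* Spor.M23) := by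
  obtain ⟨e⟩ := stabilizer_point_equiv (none : GolayPt)
  obtain ⟨e'⟩ := equiv_of_le_mem (X := Spor.M23) (A := stabilizer M24 (none : GolayPt))
    inf_le_left fun g => by
      simp only [Spor.M23, Subgroup.mem_inf, mem_stabilizer_iff, g.2, true_and]
      rfl
  exact ⟨e.trans e'⟩

theorem spor_M22_equiv : Nonempty (grp 24 cert2 ≃* Spor.M22) := by
  obtain ⟨e⟩ := stabilizer_two_equiv (p := (none : GolayPt)) (q := some 0) (by decide)
  obtain ⟨e'⟩ := equiv_of_le_mem (X := Spor.M22)
    (A := stabilizer M24 (none : GolayPt) ⊓ stabilizer M24 (some 0 : GolayPt))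
    (inf_le_left.trans inf_le_left) fun g => by
      simp only [Spor.M22, Spor.M23, Subgroup.mem_inf, mem_stabilizer_iff, g.2, true_and]
      rfl
  exact ⟨e.trans e'⟩

theorem spor_M12_equiv : Nonempty (grp 24 m12Cert ≃* Spor.M12) := by
  obtain ⟨e⟩ := stabilizer_dodecad_equiv squareDodecad_mem
  obtain ⟨e'⟩ := equiv_of_le_mem (X := Spor.M12) (A := stabilizer M24 Spor.squareDodecad)
    inf_le_left fun g => by
      simp only [Spor.M12, Subgroup.mem_inf, mem_stabilizer_iff, g.2, true_and]
      rfl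
  exact ⟨e.trans e'⟩

theorem spor_M11_equiv : Nonempty (grp 24 cert11 ≃* Spor.M11) := by
  obtain ⟨e⟩ := stabilizer_dodecad_point_equiv squareDodecad_mem squareDodecad_zero
  obtain ⟨e'⟩ := equiv_of_le_mem (X := Spor.M11)
    (A := stabilizer M24 Spor.squareDodecad ⊓ stabilizer M24 (some 0 : GolayPt))
    (inf_le_left.trans inf_le_left) fun g => by
      simp only [Spor.M11, Spor.M12, Subgroup.mem_inf, mem_stabilizer_iff, g.2, true_and]
      rfl
  exact ⟨e.trans e'⟩

end Cfsg.Agent.Lib.Compute
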