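import Mathlib

/-!
# Kernel-checkable Schreier–Sims certificates for explicit permutation groups

Permutations of `Fin n` are packed into natural numbers, 16 bits per image (`app P i` is the
image of `i`).  A certificate is a list of levels (base point, generators with inverses,
Schreier tree of transversal elements, witnesses for the Schreier products).  `chk n c = true`
is meant to be proved by `decide +kernel`; it gives the order, the orbits and the point
stabilisers of the group generated by the generators of the first level.

`tools/compute_cert.py` (repository root, not graded) writes such certificates.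
-/

namespace Cfsg.Agent.Lib.Compute

open Equiv

/-- Image of `i` under the packed permutation `P`. -/
def app (P i : ℕ) : ℕ := (P >>> (16 * i)) % 65536

/-- One level of a stabiliser chain certificate. -/
structure Lvl where
  base : ℕ
  gens : List (ℕ × ℕ)
  trans : List (ℕ × ℕ × ℕ)
  wit : List (List (List ℕ))

/-- The `j`-th transversal element (`0` is the identity), as a map on points. -/
def tfun (L : Lvl) : ℕ → ℕ → ℕ
  | 0, i => i
  | j + 1, i => match L.trans[j]? with
    | some u => app u.1 i
    | none => i

/-- Product of transversal elements of successive levels, as a map on points. -/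
def sift : List Lvl → List ℕ → ℕ → ℕ
  | L :: rest, j :: js, i => tfun L j (sift rest js i)
  | [], _, i => i
  | _ :: _, [], i => i

/-- `g.2` is the inverse of `g.1`. -/
def genOk (n : ℕ) (g : ℕ × ℕ) : Bool :=
  (List.range n).all fun i => decide (app g.1 i < n) && (app g.2 (app g.1 i) == i)

/-- Every tree element is a generator times an earlier one. -/
def treeOk (n : ℕ) (L : Lvl) : Bool :=
  (List.range L.trans.length).all fun k =>
    match L.trans[k]? with
    | some (u, s, p) => decide (p ≤ k) && (match L.gens[s]? with
      | some g => (List.range n).all fun i => app u i == app g.1 (tfun L p i)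
      | none => false)
    | none => false

/-- The orbit of the base point. -/
def orbit (L : Lvl) : List ℕ := L.base :: L.trans.map fun u => app u.1 L.base

/-- All the Schreier products lie in the next level. -/
def witOk (n : ℕ) (L : Lvl) (next : List Lvl) : Bool :=
  (List.range L.gens.length).all fun s =>
    match L.gens[s]?, L.wit[s]? with
    | some g, some row => (List.range (L.trans.length + 1)).all fun j =>
        match row[j]? with
        | some (q :: js) =>
            (List.range n).all fun i => app g.1 (tfun L j i) == tfun L q (sift next js i)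
        | _ => false
    | _, _ => false

/-- The next level's generators fix the base point and are generators of this level. -/
def nextOk (L : Lvl) : List Lvl → Bool
  | [] => true
  | L' :: _ => L'.gens.all fun g => (app g.1 L.base == L.base) && (L.gens.any fun g' => g'.1 == g.1)

/-- Full check of one level against the following ones. -/
def lvlOk (n : ℕ) (L : Lvl) (next : List Lvl) : Bool :=
  decide (L.base < n) && L.gens.all (genOk n) && treeOk n L && decide (orbit L).Nodup
    && witOk n L next && nextOk L next

/-- Full check of a certificate. -/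
def chk (n : ℕ) : List Lvl → Bool
  | [] => true
  | L :: rest => lvlOk n L rest && chk n rest

/-- The permutation of `Fin n` packed in `P`; the identity if `P` does not pack one. -/
noncomputable def toPerm (n P : ℕ) : Perm (Fin n) :=
  haveI := Classical.propDecidable
  if h : Function.Bijective (fun i : Fin n => (⟨app P i % n, Nat.mod_lt _ i.pos⟩ : Fin n))
  then Equiv.ofBijective _ h else 1

/-- The group generated by the first level of a certificate. -/
noncomputable def grp (n : ℕ) : List Lvl → Subgroup (Perm (Fin n))
  | [] => ⊥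
  | L :: _ => Subgroup.closure ((fun g => toPerm n g.1) '' {g | g ∈ L.gens})

/-- The product of the orbit lengths. -/
def certOrder : List Lvl → ℕ
  | [] => 1
  | L :: rest => (L.trans.length + 1) * certOrder rest

/-- The transversal element as a permutation. -/
noncomputable def tperm (n : ℕ) (L : Lvl) : ℕ → Perm (Fin n)
  | 0 => 1
  | j + 1 => match L.trans[j]? with
    | some u => toPerm n u.1
    | none => 1

/-- Product of transversal elements as a permutation. -/
noncomputable def siftPerm (n : ℕ) : List Lvl → List ℕ → Perm (Fin n)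
  | L :: rest, j :: js => tperm n L j * siftPerm n rest js
  | [], _ => 1
  | _ :: _, [] => 1

variable {n : ℕ}

/-- `σ` acts as the map `f` on points. -/
def Repr (σ : Perm (Fin n)) (f : ℕ → ℕ) : Prop := ∀ i : Fin n, ((σ i : Fin n) : ℕ) = f i

theorem Repr.one : Repr (1 : Perm (Fin n)) fun i => i := fun _ => rfl

theorem Repr.mul {σ τ : Perm (Fin n)} {f g : ℕ → ℕ} (hσ : Repr σ f) (hτ : Repr τ g) :
    Repr (σ * τ) fun i => f (g i) := fun i => by
  rw [Perm.mul_apply, hσ, hτ]

theorem Repr.eq {σ τ : Perm (Fin n)} {f g : ℕ → ℕ} (hσ : Repr σ f) (hτ : Repr τ g)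
    (h : ∀ i < n, f i = g i) : σ = τ :=
  Equiv.ext fun i => Fin.ext (by rw [hσ, hτ, h i i.isLt])

theorem repr_toPerm_of_repr {σ : Perm (Fin n)} {P : ℕ} (h : Repr σ (app P)) :
    toPerm n P = σ := by
  have hf : (fun i : Fin n => (⟨app P i % n, Nat.mod_lt _ i.pos⟩ : Fin n)) = σ := by
    funext i
    apply Fin.ext
    simp only
    rw [← h i, Nat.mod_eq_of_lt (σ i).isLt]
  have hb : Function.Bijective (fun i : Fin n => (⟨app P i % n, Nat.mod_lt _ i.pos⟩ : Fin n)) := by
    rw [hf]; exact σ.bijective
  unfold toPerm
  rw [dif_pos hb]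
  exact Equiv.ext fun i => congrFun hf i

theorem repr_toPerm_of_genOk {g : ℕ × ℕ} (h : genOk n g = true) :
    Repr (toPerm n g.1) (app g.1) := by
  simp only [genOk, List.all_eq_true, List.mem_range, Bool.and_eq_true, decide_eq_true_eq,
    beq_iff_eq] at h
  have hinj : Function.Injective (fun i : Fin n => (⟨app g.1 i, (h i i.isLt).1⟩ : Fin n)) := by
    intro a b hab
    have := congrArg (fun x : Fin n => app g.2 x) hab
    simp only [(h a a.isLt).2, (h b b.isLt).2] at this
    exact Fin.ext this
  have hb := Finite.injective_iff_bijective.mp hinj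
  have hr : Repr (Equiv.ofBijective _ hb) (app g.1) := fun i => rfl
  rwa [repr_toPerm_of_repr hr]

/-- The unpacked content of `lvlOk`. -/
theorem lvlOk_iff {L : Lvl} {next : List Lvl} (h : lvlOk n L next = true) :
    L.base < n ∧ (∀ g ∈ L.gens, genOk n g = true) ∧ treeOk n L = true ∧ (orbit L).Nodup
      ∧ witOk n L next = true ∧ nextOk L next = true := by
  simpa [lvlOk, and_assoc] using h

theorem gen_mem {L : Lvl} {rest : List Lvl} {g : ℕ × ℕ} (hg : g ∈ L.gens) :
    toPerm n g.1 ∈ grp n (L :: rest) :=
  Subgroup.subset_closure ⟨g, hg, rfl⟩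

theorem trans_spec {L : Lvl} {rest : List Lvl} (hg : ∀ g ∈ L.gens, genOk n g = true)
    (ht : treeOk n L = true) : ∀ j, Repr (tperm n L j) (tfun L j) ∧ tperm n L j ∈ grp n (L :: rest) := by
  intro j
  induction j using Nat.strong_induction_on with
  | _ j ih =>
    cases j with
    | zero => exact ⟨fun i => by simp [tperm, tfun], one_mem _⟩
    | succ k =>
      cases hk : L.trans[k]? with
      | none => exact ⟨fun i => by simp [tperm, tfun, hk], by simp [tperm, hk]⟩
      | some x =>
        obtain ⟨u, s, p⟩ := x
        have hlen : k < L.trans.length := by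
          obtain ⟨h, -⟩ := List.getElem?_eq_some_iff.mp hk
          exact h
        have h0 := List.all_eq_true.mp ht k (List.mem_range.mpr hlen)
        simp only [hk, Bool.and_eq_true, decide_eq_true_eq] at h0
        obtain ⟨hp, h1⟩ := h0
        cases hs : L.gens[s]? with
        | none => simp [hs] at h1
        | some g =>
          simp only [hs, List.all_eq_true, List.mem_range, beq_iff_eq] at h1
          have hgm : g ∈ L.gens := List.mem_of_getElem? hs
          obtain ⟨hr, hm⟩ := ih p (Nat.lt_succ_of_le hp)
          have hprod := (repr_toPerm_of_genOk (hg g hgm)).mul hr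
          have hu : Repr (toPerm n g.1 * tperm n L p) (app u) := fun i => by
            rw [hprod i, h1 i i.isLt]
          have he : tperm n L (k + 1) = toPerm n g.1 * tperm n L p := by
            simp only [tperm, hk]
            exact repr_toPerm_of_repr hu
          refine ⟨?_, ?_⟩
          · rw [he]
            intro i
            rw [hu i]
            simp [tfun, hk]
          · rw [he]
            exact mul_mem (gen_mem hgm) hm

theorem sift_spec : ∀ {c : List Lvl}, chk n c = true →
    ∀ js, Repr (siftPerm n c js) (sift c js) ∧ siftPerm n c js ∈ grp n c := by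
  intro c
  induction c with
  | nil => exact fun _ js => ⟨fun i => by simp [siftPerm, sift], by simp [siftPerm]⟩
  | cons L rest ih =>
    intro h js
    simp only [chk, Bool.and_eq_true] at h
    obtain ⟨-, hg, ht, -, -, hn⟩ := lvlOk_iff h.1
    cases js with
    | nil => exact ⟨fun i => by simp [siftPerm, sift], by simp [siftPerm]⟩
    | cons j js =>
      obtain ⟨hr, hm⟩ := trans_spec (rest := rest) hg ht j
      obtain ⟨hr', hm'⟩ := ih h.2 js
      refine ⟨hr.mul hr', ?_⟩
      simp only [siftPerm]
      refine mul_mem hm ?_
      cases rest with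
      | nil => simp [siftPerm]
      | cons L' rest' =>
        refine (Subgroup.closure_le _).mpr ?_ hm'
        rintro _ ⟨g, hgm, rfl⟩
        simp only [nextOk, List.all_eq_true, Bool.and_eq_true, List.any_eq_true, beq_iff_eq] at hn
        obtain ⟨-, g', hg', he⟩ := hn g hgm
        show toPerm n g.1 ∈ grp n (L :: _)
        rw [← he]
        exact gen_mem hg'

theorem grp_rest_le {L : Lvl} {rest : List Lvl} (h : lvlOk n L rest = true) :
    grp n rest ≤ grp n (L :: rest) := by
  obtain ⟨-, -, -, -, -, hn⟩ := lvlOk_iff h
  cases rest with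
  | nil => simp [grp]
  | cons L' rest' =>
    refine (Subgroup.closure_le _).mpr ?_
    rintro _ ⟨g, hgm, rfl⟩
    simp only [nextOk, List.all_eq_true, Bool.and_eq_true, List.any_eq_true, beq_iff_eq] at hn
    obtain ⟨-, g', hg', he⟩ := hn g hgm
    show toPerm n g.1 ∈ grp n (L :: _)
    rw [← he]
    exact gen_mem hg'

theorem grp_rest_fixes {L : Lvl} {rest : List Lvl} (h : lvlOk n L rest = true)
    (hc : chk n rest = true) (b : Fin n) (hb : (b : ℕ) = L.base) {σ : Perm (Fin n)}
    (hσ : σ ∈ grp n rest) : σ b = b := by
  obtain ⟨-, -, -, -, -, hn⟩ := lvlOk_iff h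
  cases rest with
  | nil => simp [grp] at hσ; simp [hσ]
  | cons L' rest' =>
    have hle : grp n (L' :: rest') ≤ MulAction.stabilizer (Perm (Fin n)) b := by
      refine (Subgroup.closure_le _).mpr ?_
      rintro _ ⟨g, hgm, rfl⟩
      simp only [nextOk, List.all_eq_true, Bool.and_eq_true, List.any_eq_true, beq_iff_eq] at hn
      simp only [chk, Bool.and_eq_true] at hc
      obtain ⟨-, hg, -⟩ := lvlOk_iff hc.1
      show toPerm n g.1 • b = b
      rw [Perm.smul_def]
      apply Fin.ext
      rw [repr_toPerm_of_genOk (hg g hgm), hb, (hn g hgm).1]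
    exact hle hσ

/-- The group of a checked level is the product of its transversal and the next level's group. -/
theorem exists_decomp {L : Lvl} {rest : List Lvl} (h : chk n (L :: rest) = true)
    {σ : Perm (Fin n)} (hσ : σ ∈ grp n (L :: rest)) :
    ∃ q ≤ L.trans.length, ∃ τ ∈ grp n rest, σ = tperm n L q * τ := by
  simp only [chk, Bool.and_eq_true] at h
  obtain ⟨-, hg, ht, -, hw, -⟩ := lvlOk_iff h.1
  have step : ∀ g ∈ L.gens, ∀ q, ∃ q', ∃ τ ∈ grp n rest,
      toPerm n g.1 * tperm n L q = tperm n L q' * τ := by
    intro g hgm q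
    obtain ⟨s, hs, hsg⟩ := List.getElem_of_mem hgm
    have h0 := List.all_eq_true.mp hw s (List.mem_range.mpr hs)
    rw [List.getElem?_eq_getElem hs, hsg] at h0
    have key : ∀ j ≤ L.trans.length, ∃ q', ∃ τ ∈ grp n rest,
        toPerm n g.1 * tperm n L j = tperm n L q' * τ := by
      intro j hj
      cases hrow : L.wit[s]? with
      | none => simp [hrow] at h0
      | some row =>
        simp only [hrow] at h0
        have h1 := List.all_eq_true.mp h0 j (List.mem_range.mpr (Nat.lt_succ_of_le hj))
        cases hj' : row[j]? with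
        | none => simp [hj'] at h1
        | some w =>
          cases w with
          | nil => simp [hj'] at h1
          | cons q' js =>
            simp only [hj', List.all_eq_true, List.mem_range, beq_iff_eq] at h1
            obtain ⟨hr, hm⟩ := sift_spec h.2 js
            exact ⟨q', _, hm, ((repr_toPerm_of_genOk (hg g hgm)).mul
              (trans_spec (rest := rest) hg ht j).1).eq
              ((trans_spec (rest := rest) hg ht q').1.mul hr) h1⟩
    by_cases hq : q ≤ L.trans.length
    · exact key q hq
    · have hz : tperm n L q = tperm n L 0 := by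
        cases q with
        | zero => rfl
        | succ k => simp [tperm, List.getElem?_eq_none (by omega : L.trans.length ≤ k)]
      rw [hz]
      exact key 0 (Nat.zero_le _)
  have main : ∃ q, ∃ τ ∈ grp n rest, σ = tperm n L q * τ := by
    have hfin : σ ∈ Submonoid.closure ((fun g => toPerm n g.1) '' {g | g ∈ L.gens}) := by
      rw [← Subgroup.closure_toSubmonoid_of_finite]
      exact hσ
    induction hfin using Submonoid.closure_induction_left with
    | one => exact ⟨0, 1, one_mem _, by simp [tperm]⟩
    | mul_left x hx y hy ih =>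
      obtain ⟨g, hgm, rfl⟩ := hx
      have hy' : y ∈ grp n (L :: rest) := by
        show y ∈ (Subgroup.closure _).toSubmonoid
        rw [Subgroup.closure_toSubmonoid_of_finite]
        exact hy
      obtain ⟨q, τ, hτ, rfl⟩ := ih hy'
      obtain ⟨q', τ', hτ', he⟩ := step g hgm q
      exact ⟨q', τ' * τ, mul_mem hτ' hτ, by rw [← mul_assoc, he, mul_assoc]⟩
  obtain ⟨q, τ, hτ, he⟩ := main
  by_cases hq : q ≤ L.trans.length
  · exact ⟨q, hq, τ, hτ, he⟩
  · refine ⟨0, Nat.zero_le _, τ, hτ, ?_⟩
    rw [he]
    cases q with
    | zero => rfl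
    | succ k => simp [tperm, List.getElem?_eq_none (by omega : L.trans.length ≤ k)]

theorem tfun_base {L : Lvl} {q : ℕ} (hq : q ≤ L.trans.length) :
    tfun L q L.base = (orbit L)[q]'(by simp [orbit]; omega) := by
  cases q with
  | zero => simp [tfun, orbit]
  | succ k => simp [tfun, orbit, List.getElem?_eq_getElem (Nat.lt_of_succ_le hq)]

/-- The image of the base point determines the transversal index. -/
theorem decomp_unique {L : Lvl} {rest : List Lvl} (h : chk n (L :: rest) = true) {q q' : ℕ}
    (hq : q ≤ L.trans.length) (hq' : q' ≤ L.trans.length) {τ τ' : Perm (Fin n)}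
    (hτ : τ ∈ grp n rest) (hτ' : τ' ∈ grp n rest)
    (he : tperm n L q * τ = tperm n L q' * τ') : q = q' ∧ τ = τ' := by
  simp only [chk, Bool.and_eq_true] at h
  obtain ⟨hb, hg, ht, hd, -, -⟩ := lvlOk_iff h.1
  have e := congrArg (fun σ : Perm (Fin n) => ((σ ⟨L.base, hb⟩ : Fin n) : ℕ)) he
  simp only [Perm.mul_apply, grp_rest_fixes h.1 h.2 ⟨L.base, hb⟩ rfl hτ,
    grp_rest_fixes h.1 h.2 ⟨L.base, hb⟩ rfl hτ', (trans_spec (rest := rest) hg ht q).1 _,
    (trans_spec (rest := rest) hg ht q').1 _, tfun_base hq, tfun_base hq'] at e
  have hqq := (List.Nodup.getElem_inj_iff hd).mp e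
  subst hqq
  exact ⟨rfl, mul_left_cancel he⟩

/-- A level's group is in bijection with transversal × next level's group. -/
theorem card_grp_cons {L : Lvl} {rest : List Lvl} (h : chk n (L :: rest) = true) :
    Nat.card (grp n (L :: rest)) = (L.trans.length + 1) * Nat.card (grp n rest) := by
  have h' := h
  simp only [chk, Bool.and_eq_true] at h'
  obtain ⟨-, hg, ht, -, -, -⟩ := lvlOk_iff h'.1
  let f : Fin (L.trans.length + 1) × grp n rest → grp n (L :: rest) := fun x =>
    ⟨tperm n L x.1 * x.2, mul_mem (trans_spec hg ht _).2 (grp_rest_le h'.1 x.2.2)⟩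
  have hf : Function.Bijective f := by
    constructor
    · intro x y e
      obtain ⟨e1, e2⟩ := decomp_unique h (Nat.le_of_lt_succ x.1.isLt) (Nat.le_of_lt_succ y.1.isLt)
        x.2.2 y.2.2 (congrArg Subtype.val e)
      exact Prod.ext (Fin.ext e1) (Subtype.ext e2)
    · intro σ
      obtain ⟨q, hq, τ, hτ, he⟩ := exists_decomp h σ.2
      exact ⟨(⟨q, Nat.lt_succ_of_le hq⟩, ⟨τ, hτ⟩), Subtype.ext he.symm⟩
  rw [← Nat.card_eq_of_bijective f hf, Nat.card_prod, Nat.card_fin]

/-- **Order of the group of a checked certificate.** -/
theorem card_grp : ∀ {c : List Lvl}, chk n c = true → Nat.card (grp n c) = certOrder c := by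
  intro c
  induction c with
  | nil => intro _; simp [grp, certOrder]
  | cons L rest ih =>
    intro h
    rw [card_grp_cons h]
    simp only [chk, Bool.and_eq_true] at h
    rw [ih h.2, certOrder]

/-- **Orbit of the base point.** -/
theorem mem_orbit_iff {L : Lvl} {rest : List Lvl} (h : chk n (L :: rest) = true) (b x : Fin n)
    (hb : (b : ℕ) = L.base) : (∃ σ ∈ grp n (L :: rest), σ b = x) ↔ (x : ℕ) ∈ orbit L := by
  have h' := h
  simp only [chk, Bool.and_eq_true] at h'
  obtain ⟨-, hg, ht, -, -, -⟩ := lvlOk_iff h'.1
  constructor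
  · rintro ⟨σ, hσ, rfl⟩
    obtain ⟨q, hq, τ, hτ, rfl⟩ := exists_decomp h hσ
    rw [Perm.mul_apply, grp_rest_fixes h'.1 h'.2 b hb hτ, (trans_spec (rest := rest) hg ht q).1 b,
      hb, tfun_base hq]
    exact List.getElem_mem _
  · intro hx
    obtain ⟨q, hq, he⟩ := List.getElem_of_mem hx
    have hq' : q ≤ L.trans.length := by simp [orbit] at hq; omega
    refine ⟨tperm n L q, (trans_spec (rest := rest) hg ht q).2, Fin.ext ?_⟩
    rw [(trans_spec (rest := rest) hg ht q).1 b, hb, tfun_base hq', he]

/-- **The stabiliser of the base point is the next level's group.** -/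
theorem mem_grp_rest_iff {L : Lvl} {rest : List Lvl} (h : chk n (L :: rest) = true) (b : Fin n)
    (hb : (b : ℕ) = L.base) (σ : Perm (Fin n)) :
    σ ∈ grp n rest ↔ σ ∈ grp n (L :: rest) ∧ σ b = b := by
  have h' := h
  simp only [chk, Bool.and_eq_true] at h'
  obtain ⟨-, hg, ht, -, -, -⟩ := lvlOk_iff h'.1
  refine ⟨fun hσ => ⟨grp_rest_le h'.1 hσ, grp_rest_fixes h'.1 h'.2 b hb hσ⟩, ?_⟩
  rintro ⟨hσ, hfix⟩
  obtain ⟨q, hq, τ, hτ, rfl⟩ := exists_decomp h hσ
  rw [Perm.mul_apply, grp_rest_fixes h'.1 h'.2 b hb hτ] at hfix
  have e := congrArg Fin.val hfix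
  rw [(trans_spec (rest := rest) hg ht q).1 b, hb, tfun_base hq] at e
  obtain ⟨-, -, -, hd, -, -⟩ := lvlOk_iff h'.1
  have e0 : (orbit L)[q]'(by simp [orbit]; omega) = (orbit L)[0]'(by simp [orbit]) := by
    rw [e]; simp [orbit]
  have hq0 := (List.Nodup.getElem_inj_iff hd).mp e0
  subst hq0
  simpa [tperm] using hτ

end Cfsg.Agent.Lib.Compute
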