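import Cfsg.Agent.Lib.Compute.NormBound

/-!
# Centralisers and normalisers of cyclic subgroups in certified groups
-/

set_option autoImplicit false

namespace Cfsg.Agent.Lib.Compute

open Equiv

variable {n : ℕ}

/-- The graph of a packed permutation, row by row. -/
def commRows (n P : ℕ) : List ℕ := (List.range n).map fun i => 1 <<< app P i

theorem rowBit_commRows {P : ℕ} (hP : Valid n P) (i j : Fin n) :
    rowBit (commRows n P) i j = decide (toPerm n P i = j) := by
  rw [rowBit, commRows, List.getD_eq_getElem _ _ (by simp), List.getElem_map, List.getElem_range,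
    Nat.one_shiftLeft, Nat.testBit_two_pow]
  simp only [Fin.ext_iff, hP.repr i]

/-- `π` commutes with every packed permutation of the list. -/
def commLeaf (n : ℕ) (Ps : List ℕ) (π : ℕ → ℕ) : Bool :=
  Ps.all fun P => (List.range n).all fun i => π (app P i) == app P (π i)

/-- **Bound on a centraliser.** -/
theorem card_commuting_le {c : List Lvl} (hc : chk n c = true) {Ps : List ℕ}
    (hPs : ∀ P ∈ Ps, Valid n P) {N : Subgroup (Perm (Fin n))} (hN : N ≤ grp n c)
    (hcomm : ∀ σ ∈ N, ∀ P ∈ Ps, σ * toPerm n P = toPerm n P * σ) :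
    Nat.card N ≤ orbitBound (Ps.map (commRows n)) (commLeaf n Ps) c [] := by
  refine card_le_orbitBound (fun σ => σ ∈ N) ?_ ?_ hc [] N hN (fun σ hσ => hσ)
    (fun σ _ d hd => absurd hd List.not_mem_nil)
  · intro σ hσ M hM i j
    obtain ⟨P, hP, rfl⟩ := List.mem_map.mp hM
    rw [rowBit_commRows (hPs P hP), rowBit_commRows (hPs P hP)]
    have e : toPerm n P (σ i) = σ (toPerm n P i) := by
      rw [← Perm.mul_apply, ← hcomm σ hσ P hP, Perm.mul_apply]
    simp only [e, EmbeddingLike.apply_eq_iff_eq]
  · intro σ π hσ hπ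
    simp only [commLeaf, List.all_eq_true, List.mem_range, beq_iff_eq]
    intro P hP i hi
    have e := congrArg (fun u : Perm (Fin n) => ((u ⟨i, hi⟩ : Fin n) : ℕ)) (hcomm σ hσ P hP)
    simp only [Perm.mul_apply] at e
    rwa [hπ, (hPs P hP).repr, (hPs P hP).repr, hπ] at e

/-- Can the partial image be completed to an element carrying `A` to `B`? -/
def conjEx (n A B : ℕ) : List Lvl → (ℕ → ℕ) → List (ℕ × ℕ) → Bool
  | [], π, _ => (List.range n).all fun i => π (app A i) == app B (π i)
  | L :: rest, π, done => (List.range (L.trans.length + 1)).any fun q =>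
      (((app A L.base == L.base) == (app B (π (tfun L q L.base)) == π (tfun L q L.base))) &&
        done.all fun d => ((app A d.1 == L.base) == (app B d.2 == π (tfun L q L.base))) &&
          ((app A L.base == d.1) == (app B (π (tfun L q L.base)) == d.2))) &&
        conjEx n A B rest (fun i => π (tfun L q i)) ((L.base, π (tfun L q L.base)) :: done)

theorem conjEx_spec {A B : ℕ} (hA : Valid n A) (hB : Valid n B) :
    ∀ {c : List Lvl}, chk n c = true → ∀ (π₀ : Perm (Fin n)) (π : ℕ → ℕ) (done : List (ℕ × ℕ)),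
      Repr π₀ π → ∀ ρ ∈ grp n c, π₀ * ρ * toPerm n A = toPerm n B * (π₀ * ρ) →
      (∀ d ∈ done, ∃ i : Fin n, (i : ℕ) = d.1 ∧ ((π₀ * ρ) i : ℕ) = d.2) →
      conjEx n A B c π done = true := by
  intro c
  induction c with
  | nil =>
    intro _ π₀ π done hπ ρ hρ he _
    have hρ1 : ρ = 1 := by simpa [grp] using hρ
    subst hρ1
    rw [mul_one] at he
    simp only [conjEx, List.all_eq_true, List.mem_range, beq_iff_eq]
    intro i hi
    have e := congrArg (fun u : Perm (Fin n) => ((u ⟨i, hi⟩ : Fin n) : ℕ)) he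
    simp only [Perm.mul_apply] at e
    rwa [hπ, hA.repr, hB.repr, hπ] at e
  | cons L rest ih =>
    intro hc π₀ π done hπ ρ hρ he hdone
    obtain ⟨q, hq, τ, hτ, rfl⟩ := exists_decomp hc hρ
    have hc' := hc
    simp only [chk, Bool.and_eq_true] at hc'
    obtain ⟨hb, hg, ht, -, -, -⟩ := lvlOk_iff hc'.1
    let b : Fin n := ⟨L.base, hb⟩
    have hr : Repr (π₀ * tperm n L q) (fun i => π (tfun L q i)) :=
      hπ.mul (trans_spec (rest := rest) hg ht q).1
    have himg : (((π₀ * (tperm n L q * τ)) b : Fin n) : ℕ) = π (tfun L q L.base) := by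
      rw [← mul_assoc, Perm.mul_apply, grp_rest_fixes hc'.1 hc'.2 b rfl hτ, hr b]
    have step : ∀ i j : Fin n, (app A i == (j : ℕ)) =
        (app B (((π₀ * (tperm n L q * τ)) i : Fin n) : ℕ) ==
          (((π₀ * (tperm n L q * τ)) j : Fin n) : ℕ)) := by
      intro i j
      have e := congrArg (fun u : Perm (Fin n) => u i) he
      simp only [Perm.mul_apply] at e
      rw [Bool.eq_iff_iff, beq_iff_eq, beq_iff_eq, ← hA.repr i, ← hB.repr, Fin.val_inj,
        Fin.val_inj]
      simp only [Perm.mul_apply, ← e, EmbeddingLike.apply_eq_iff_eq]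
    simp only [conjEx, List.any_eq_true, List.mem_range, Bool.and_eq_true, List.all_eq_true,
      beq_iff_eq]
    refine ⟨q, Nat.lt_succ_of_le hq, ⟨?_, fun d hd => ?_⟩, ?_⟩
    · have := step b b
      rwa [himg] at this
    · obtain ⟨i, hi, hi'⟩ := hdone d hd
      constructor
      · have := step i b
        rwa [himg, hi, hi'] at this
      · have := step b i
        rwa [himg, hi, hi'] at this
    · refine ih hc'.2 (π₀ * tperm n L q) _ _ hr τ hτ (by simpa only [mul_assoc] using he) ?_
      intro d hd
      rw [List.mem_cons] at hd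
      rw [mul_assoc]
      rcases hd with rfl | hd
      · exact ⟨b, rfl, himg⟩
      · exact hdone d hd

/-- The `pw` are the nontrivial powers of `P`. -/
def powsOk (n q P : ℕ) (pw : List ℕ) : Bool :=
  (pw.length + 1 == q) && (List.range pw.length).all fun k => (List.range n).all fun i =>
    decide (app (pw.getD k 0) i < n) && app (pw.getD k 0) i == (app P)^[k + 1] i

/-- **Bound on the normaliser of a subgroup of prime order.** -/
theorem card_normalizer_cyclic_le {c : List Lvl} (hc : chk n c = true) {q P : ℕ} (hq : q.Prime)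
    (hP : powOk n q P = true) (hne : toPerm n P ≠ 1) {pw : List ℕ} (hpw : powsOk n q P pw = true)
    {N : Subgroup (Perm (Fin n))} (hN : N ≤ grp n c)
    (hconj : ∀ g ∈ N, g * toPerm n P * g⁻¹ ∈ Subgroup.zpowers (toPerm n P)) :
    Nat.card N ≤ orbitBound [commRows n P] (commLeaf n [P]) c [] *
      (pw.filter fun B => conjEx n P B c (fun i => i) []).length := by
  classical
  obtain ⟨hv, hpowq⟩ := valid_of_powOk hq.pos hP
  set x := toPerm n P with hx
  haveI := Fintype.ofFinite N
  haveI := Fact.mk hq
  have hord : orderOf x = q := orderOf_eq_prime hpowq hne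
  simp only [powsOk, Bool.and_eq_true, beq_iff_eq, List.all_eq_true, List.mem_range,
    decide_eq_true_eq] at hpw
  obtain ⟨hlen, hp⟩ := hpw
  have hget : ∀ k < pw.length, Valid n (pw.getD k 0) ∧ toPerm n (pw.getD k 0) = x ^ (k + 1) := by
    intro k hk
    have hr : Repr (x ^ (k + 1)) (app (pw.getD k 0)) := fun i => by
      rw [repr_pow hv.repr (k + 1) i, (hp k hk i i.isLt).2]
    exact ⟨⟨_, hr⟩, repr_toPerm_of_repr hr⟩
  let f : N → Perm (Fin n) := fun g => g * x * (g : Perm (Fin n))⁻¹
  have himg : Finset.univ.image f ⊆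
      ((pw.filter fun B => conjEx n P B c (fun i => i) []).map (toPerm n)).toFinset := by
    intro y hy
    obtain ⟨g, -, rfl⟩ := Finset.mem_image.mp hy
    obtain ⟨j, hj⟩ := (IsOfFinOrder.mem_powers_iff_mem_zpowers (isOfFinOrder_of_finite x)).mpr
      (hconj g g.2)
    have hj' : x ^ (j % q) = f g := by
      rw [← hord, pow_mod_orderOf]; exact hj
    have hj0 : j % q ≠ 0 := by
      intro h0
      rw [h0, pow_zero] at hj'
      exact hne (conj_eq_one_iff.mp hj'.symm)
    obtain ⟨k, hk⟩ : ∃ k, j % q = k + 1 := ⟨j % q - 1, by omega⟩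
    have hkl : k < pw.length := by have := Nat.mod_lt j hq.pos; omega
    obtain ⟨hkv, hke⟩ := hget k hkl
    rw [List.mem_toFinset, List.mem_map]
    refine ⟨pw.getD k 0, List.mem_filter.mpr ⟨?_, ?_⟩, ?_⟩
    · rw [List.getD_eq_getElem _ _ hkl]; exact List.getElem_mem _
    · refine conjEx_spec hv hkv hc 1 _ [] Repr.one _ (hN g.2) ?_ (fun d hd => absurd hd
        List.not_mem_nil)
      rw [one_mul, hke, ← hk, hj', ← hx]
      simp only [f, inv_mul_cancel_right]
    · rw [hke, ← hk, hj']
  let C : Subgroup (Perm (Fin n)) := Subgroup.centralizer {x} ⊓ grp n c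
  have hC : Nat.card C ≤ orbitBound [commRows n P] (commLeaf n [P]) c [] := by
    refine card_commuting_le (Ps := [P]) hc (by simpa using hv) inf_le_right ?_
    intro σ hσ Q hQ
    rw [List.mem_singleton] at hQ
    subst hQ
    exact ((Subgroup.mem_centralizer_iff.mp hσ.1) _ rfl).symm
  have hfib : ∀ y ∈ Finset.univ.image f,
      (Finset.univ.filter fun g => f g = y).card ≤ Nat.card C := by
    intro y hy
    obtain ⟨g₀, -, rfl⟩ := Finset.mem_image.mp hy
    rw [← Fintype.card_coe, ← Nat.card_eq_fintype_card]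
    refine Nat.card_le_card_of_injective
      (fun g : ↥(Finset.univ.filter fun g => f g = f g₀) =>
        (⟨((g₀⁻¹ * g.1 : N) : Perm (Fin n)), ?_, hN (g₀⁻¹ * g.1).2⟩ : C)) ?_
    · have e : f g.1 = f g₀ := (Finset.mem_filter.mp g.2).2
      show _ ∈ Subgroup.centralizer {x}
      rw [Subgroup.mem_centralizer_iff]
      rintro _ rfl
      simp only [f] at e
      rw [mul_inv_eq_iff_eq_mul] at e
      rw [Subgroup.coe_mul, Subgroup.coe_inv, mul_assoc ((g₀ : Perm (Fin n))⁻¹), e]
      group
    · intro a b hab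
      have h := congrArg Subtype.val hab
      simp only [Subgroup.coe_mul] at h
      exact Subtype.ext (Subtype.ext (mul_left_cancel h))
  calc Nat.card N = (Finset.univ : Finset N).card := by
        rw [Nat.card_eq_fintype_card, Finset.card_univ]
    _ ≤ Nat.card C * (Finset.univ.image f).card := Finset.card_le_mul_card_image _ _ hfib
    _ ≤ _ := by
        refine Nat.mul_le_mul hC ((Finset.card_le_card himg).trans ?_)
        exact (List.toFinset_card_le _).trans (by rw [List.length_map])

end Cfsg.Agent.Lib.Compute
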