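import Cfsg.Agent.Lib.Characters
import Cfsg.Agent.Lib.Blocks.Defect
import Cfsg.Agent.Lib.Characters.Ito

/-!
# An inequality excluding irreducible characters of defect zero

For `χ` of degree `d` divisible by the full `p`-part of `|G|` and `x` of prime order `q ≠ p`
with `p ^ k` dividing `|C(x)|`, all `χ (x ^ i) / p ^ k` are algebraic integers, so the sum of
`|χ|²` over the nontrivial elements of `⟨x⟩` is at least `p ^ (2 k) r (q - r)`, where
`p ^ k r ≡ d (mod q)`.  Together with `∑ |χ|² = |G|` this bounds the degree.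
-/

set_option autoImplicit false
set_option linter.unusedSectionVars false
set_option linter.style.haveILetI false

namespace Cfsg.Agent.Lib.Compute

open Cfsg Cfsg.Agent.Lib.Characters
open Cfsg.Agent.Lib.Blocks (charDegree_eq)
open scoped ComplexConjugate

universe u

variable {G : Type u} [Group G] [Fintype G]

/-- Division of a character value by a power of `p` keeps integrality, in defect zero. -/
theorem isIntegral_div_prime_pow (χ : IrrCharacter G) {p a r m : ℕ} (hp : p.Prime)
    (hG : Nat.card G = p ^ a * r) (hr : ¬ p ∣ r) (hd : charDegree (χ : G → ℂ) = p ^ a * m)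
    {y : G} {k : ℕ} (hk : p ^ k ∣ Nat.card (Subgroup.centralizer ({y} : Set G))) :
    IsIntegral ℤ ((χ : G → ℂ) y / (p ^ k : ℕ)) := by
  obtain ⟨c, hc⟩ := hk
  have hidx := Subgroup.index_mul_card (Subgroup.centralizer ({y} : Set G))
  rw [hc, hG] at hidx
  have hint := IsIrrCharacter.isIntegral_centralChar χ.2 y
  rw [card_conj_eq_index y, ← charDegree_eq χ, hd] at hint
  have hm0 : m ≠ 0 := by
    rintro rfl
    have := Cfsg.Agent.Lib.Blocks.charDegree_pos χ
    rw [hd, mul_zero] at this
    exact lt_irrefl _ this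
  have hp0 : (p : ℂ) ≠ 0 := by exact_mod_cast hp.ne_zero
  have hidx' : ((Subgroup.centralizer ({y} : Set G)).index : ℂ) * ((p : ℂ) ^ k * c) =
      (p : ℂ) ^ a * r := by exact_mod_cast hidx
  have h1 : IsIntegral ℤ ((r : ℂ) * ((χ : G → ℂ) y / (p ^ k : ℕ))) := by
    have e : (r : ℂ) * ((χ : G → ℂ) y / (p ^ k : ℕ)) =
        (((m * c : ℕ) : ℤ) : ℂ) *
          (((Subgroup.centralizer ({y} : Set G)).index : ℂ) * (χ : G → ℂ) y /
            ((p ^ a * m : ℕ) : ℂ)) := by
      have hm' : (m : ℂ) ≠ 0 := by exact_mod_cast hm0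
      push_cast
      field_simp
      linear_combination (-(χ : G → ℂ) y) * hidx'
    rw [e]
    exact isIntegral_algebraMap.mul hint
  obtain ⟨u, v, huv⟩ : IsCoprime (r : ℤ) ((p ^ k : ℕ) : ℤ) :=
    Int.isCoprime_iff_nat_coprime.mpr (by
      simpa using (Nat.Coprime.pow_right k (hp.coprime_iff_not_dvd.mpr hr).symm))
  have h2 : IsIntegral ℤ ((χ : G → ℂ) y) :=
    IsCharacter.isIntegral (IsIrrCharacter.isCharacter χ.2) y
  have e : (χ : G → ℂ) y / (p ^ k : ℕ) =
      (u : ℂ) * ((r : ℂ) * ((χ : G → ℂ) y / (p ^ k : ℕ))) + (v : ℂ) * (χ : G → ℂ) y := by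
    have huv' : (u : ℂ) * r + v * ((p ^ k : ℕ) : ℂ) = 1 := by exact_mod_cast huv
    have hpk : ((p ^ k : ℕ) : ℂ) ≠ 0 := by exact_mod_cast pow_ne_zero k hp.ne_zero
    field_simp
    linear_combination (-(χ : G → ℂ) y) * huv'
  rw [e]
  exact (isIntegral_algebraMap.mul h1).add (isIntegral_algebraMap.mul h2)

/-- An integer vector with sum `r` has `∑ c² ≥ r`, with equality only for `0`-`1` entries. -/
theorem sum_sq_ge {ι : Type*} [Fintype ι] (c : ι → ℤ) {r : ℤ} (h : ∑ i, c i = r) :
    r ≤ ∑ i, c i ^ 2 ∧ (∑ i, c i ^ 2 = r → ∀ i, c i = 0 ∨ c i = 1) := by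
  have hle : ∀ i, c i ≤ c i ^ 2 := fun i => Int.le_self_sq (c i)
  refine ⟨h ▸ Finset.sum_le_sum fun i _ => hle i, fun he i => ?_⟩
  have h0 := (Finset.sum_eq_zero_iff_of_nonneg (s := Finset.univ)
    (f := fun i => c i ^ 2 - c i) fun i _ => by linarith [hle i]).mp
    (by rw [Finset.sum_sub_distrib, he, h, sub_self]) i (Finset.mem_univ i)
  have : c i * (c i - 1) = 0 := by linarith [h0]
  rcases mul_eq_zero.mp this with h1 | h1
  · exact Or.inl h1
  · exact Or.inr (by linarith)

/-- The value of a sum over the nontrivial elements of a cyclic group of prime order. -/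
theorem cyclic_bound (χ : G → ℂ) (hχ : IsCharacter G χ) {d : ℕ} (hd : χ 1 = d) {q P r : ℕ}
    (hq : q.Prime) {x : G} (hx : orderOf x = q) (hP : 0 < P) (hcop : Nat.Coprime q P)
    (hr : (P * r) % q = d % q) (hrq : r < q)
    (hint : ∀ y ∈ Subgroup.zpowers x, y ≠ 1 → IsIntegral ℤ (χ y / (P : ℂ)))
    [Fintype (Subgroup.zpowers x)] [DecidableEq (Subgroup.zpowers x)] :
    ∃ N : ℤ, (r : ℤ) ≤ N ∧
      ((∑ y ∈ (Finset.univ : Finset (Subgroup.zpowers x)).erase 1,
        χ (y : G) * conj (χ (y : G))) = ((P : ℤ) ^ 2 * (q * N - (r : ℤ) ^ 2) : ℤ)) ∧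
      (N = r → ∃ t : ℤ, (t = 0 ∨ t = 1) ∧
        (∑ y ∈ (Finset.univ : Finset (Subgroup.zpowers x)).erase 1, χ (y : G)) =
          ((P : ℤ) * (q * t - r) : ℤ)) := by
  classical
  have hP0 : (P : ℂ) ≠ 0 := by exact_mod_cast hP.ne'
  have hq0 : (q : ℂ) ≠ 0 := by exact_mod_cast hq.ne_zero
  have hcard : Nat.card (Subgroup.zpowers x) = q := by rw [Nat.card_zpowers, hx]
  haveI := Fintype.ofFinite (IrrCharacter (Subgroup.zpowers x))
  have hab : ∀ a b : Subgroup.zpowers x, a * b = b * a := fun a b => by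
    obtain ⟨i, hi⟩ := Subgroup.mem_zpowers_iff.mp a.2
    obtain ⟨j, hj⟩ := Subgroup.mem_zpowers_iff.mp b.2
    refine Subtype.ext ?_
    rw [Subgroup.coe_mul, Subgroup.coe_mul, ← hi, ← hj, ← zpow_add, ← zpow_add, add_comm]
  have hlam : ∀ l : IrrCharacter (Subgroup.zpowers x),
      (l : Subgroup.zpowers x → ℂ) 1 = 1 := fun l => by
    have h1 := IsIrrCharacter.degree_dvd_index_of_abelian l.2 (⊤ : Subgroup (Subgroup.zpowers x))
      (fun a _ b _ => hab a b) (charDegree_eq l).symm
    rw [Subgroup.index_top, Nat.dvd_one] at h1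
    rw [← charDegree_eq l, h1, Nat.cast_one]
  let φ : Subgroup.zpowers x → ℂ := fun y => if y = 1 then 0 else χ (y : G) / P
  have hφcl : IsClassFunction (Subgroup.zpowers x) φ := fun a b => by
    rw [show b * a * b⁻¹ = a by rw [hab b a, mul_inv_cancel_right]]
  -- the scaled Fourier coefficients are integers
  have hT : ∀ l : IrrCharacter (Subgroup.zpowers x), ∃ c : ℤ,
      (q : ℂ) * classInner φ (l : Subgroup.zpowers x → ℂ) = ((q * c - r : ℤ) : ℂ) := by
    intro l
    obtain ⟨n, hn⟩ := IsCharacter.exists_classInner_nat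
      (IsCharacter.restrict hχ (Subgroup.zpowers x)) (IsIrrCharacter.isCharacter l.2)
    have hsum : (q : ℂ) * classInner φ (l : Subgroup.zpowers x → ℂ) =
        ∑ y, φ y * conj ((l : Subgroup.zpowers x → ℂ) y) := by
      rw [classInner, hcard, ← mul_assoc, mul_inv_cancel₀ hq0, one_mul]
    have hint' : IsIntegral ℤ ((q : ℂ) * classInner φ (l : Subgroup.zpowers x → ℂ)) := by
      rw [hsum]
      refine IsIntegral.sum _ fun y _ => ?_
      simp only [φ]
      split_ifs with hy
      · rw [zero_mul]; exact isIntegral_zero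
      · refine (hint (y : G) y.2 fun h => hy (Subtype.ext h)).mul ?_
        rw [← IsCharacter.apply_inv (IsIrrCharacter.isCharacter l.2)]
        exact IsCharacter.isIntegral (IsIrrCharacter.isCharacter l.2) _
    have hrat : (q : ℂ) * classInner φ (l : Subgroup.zpowers x → ℂ) =
        (((q * n : ℤ) - d : ℤ) : ℂ) / P := by
      have e : ∀ y, φ y * conj ((l : Subgroup.zpowers x → ℂ) y) =
          (χ (y : G) * conj ((l : Subgroup.zpowers x → ℂ) y) -
            if y = 1 then (d : ℂ) else 0) / P := by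
        intro y
        simp only [φ]
        split_ifs with hy
        · subst hy
          rw [OneMemClass.coe_one, hd, hlam, map_one, zero_mul, mul_one, sub_self, zero_div]
        · rw [sub_zero, div_mul_eq_mul_div]
      rw [hsum, Finset.sum_congr rfl fun y _ => e y, ← Finset.sum_div, Finset.sum_sub_distrib,
        Finset.sum_ite_eq' Finset.univ 1 (fun _ => (d : ℂ)), if_pos (Finset.mem_univ _)]
      rw [classInner, hcard] at hn
      have hn' : ∑ y : Subgroup.zpowers x, χ (y : G) * conj ((l : Subgroup.zpowers x → ℂ) y) =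
          (q : ℂ) * n := by
        rw [← hn, ← mul_assoc, mul_inv_cancel₀ hq0, one_mul]
      rw [hn']
      push_cast
      ring
    obtain ⟨z, hz⟩ := exists_int_of_isIntegral_rat (q := (((q * n : ℤ) - d : ℤ) : ℚ) / P) (by
      rw [hrat] at hint'
      push_cast at hint' ⊢
      exact hint')
    have hzP : z * P = q * n - d := by
      have hP' : (P : ℚ) ≠ 0 := by exact_mod_cast hP.ne'
      rw [div_eq_iff hP'] at hz
      exact_mod_cast hz.symm
    have hdvd : (q : ℤ) ∣ z + r := by
      have h1 : (q : ℤ) ∣ (z + r) * P := by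
        have hm : (q : ℤ) ∣ ((P * r : ℕ) : ℤ) - (d : ℕ) :=
          Int.modEq_iff_dvd.mp (Int.natCast_modEq_iff.mpr (Eq.symm hr))
        have e : (z + r) * P = (q : ℤ) * n + (((P * r : ℕ) : ℤ) - (d : ℕ)) := by
          push_cast; linarith [hzP]
        rw [e]
        exact dvd_add (dvd_mul_right _ _) hm
      exact (Int.isCoprime_iff_nat_coprime.mpr (by simpa using hcop)).dvd_of_dvd_mul_right h1
    obtain ⟨c, hc⟩ := hdvd
    refine ⟨c, ?_⟩
    rw [hrat]
    have hz' : (((q * n : ℤ) - d : ℤ) : ℂ) = (z : ℂ) * P := by rw [← hzP]; push_cast; ring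
    rw [hz', mul_div_cancel_right₀ _ hP0]
    push_cast
    have : (z : ℂ) + r = q * c := by exact_mod_cast hc
    linear_combination this
  choose c hc using hT
  have hcq : (Fintype.card (IrrCharacter (Subgroup.zpowers x))) = q := by
    haveI : Finite (ConjClasses (Subgroup.zpowers x)) :=
      Finite.of_surjective _ ConjClasses.mk_surjective
    rw [← Nat.card_eq_fintype_card, card_irrCharacter, ← hcard]
    exact (Nat.card_eq_of_bijective ConjClasses.mk
      ⟨fun a b h => by
        obtain ⟨e, he⟩ := isConj_iff.mp (ConjClasses.mk_eq_mk_iff_isConj.mp h)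
        rw [hab e a, mul_inv_cancel_right] at he
        exact he, ConjClasses.mk_surjective⟩).symm
  have hsum : ∑ l, c l = (r : ℤ) := by
    have h1 := congrFun (eq_sum_classInner hφcl) 1
    simp only [Finset.sum_apply, Pi.smul_apply, hlam, smul_eq_mul, mul_one] at h1
    have h2 : ∑ l : IrrCharacter (Subgroup.zpowers x),
        (q : ℂ) * classInner φ (l : Subgroup.zpowers x → ℂ) = 0 := by
      rw [← Finset.mul_sum, ← h1]
      simp [φ]
    simp only [hc] at h2
    rw [← Int.cast_sum, Int.cast_eq_zero, Finset.sum_sub_distrib, Finset.sum_const,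
      Finset.card_univ, hcq, ← Finset.mul_sum, nsmul_eq_mul] at h2
    have hq' : (q : ℤ) ≠ 0 := by exact_mod_cast hq.ne_zero
    exact mul_left_cancel₀ hq' (by push_cast at h2 ⊢; linarith)
  obtain ⟨hNge, hNeq⟩ := sum_sq_ge c hsum
  refine ⟨∑ l, c l ^ 2, hNge, ?_, fun hN => ?_⟩
  · have h2 := classInner_eq_sum_irr hφcl hφcl
    have h3 : (q : ℂ) ^ 2 * classInner φ φ =
        ∑ l : IrrCharacter (Subgroup.zpowers x), ((q * c l - r : ℤ) : ℂ) ^ 2 := by
      rw [h2, Finset.mul_sum]
      refine Finset.sum_congr rfl fun l _ => ?_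
      rw [← hc l]
      have hreal : conj (classInner φ (l : Subgroup.zpowers x → ℂ)) =
          classInner φ (l : Subgroup.zpowers x → ℂ) := by
        have e : classInner φ (l : Subgroup.zpowers x → ℂ) = ((q * c l - r : ℤ) : ℂ) / q := by
          rw [← hc l, mul_div_cancel_left₀ _ hq0]
        rw [e, map_div₀, map_intCast, map_natCast]
      rw [hreal]; ring
    have h4 : (q : ℂ) * classInner φ φ =
        (∑ y ∈ (Finset.univ : Finset (Subgroup.zpowers x)).erase 1,
          χ (y : G) * conj (χ (y : G))) / (P : ℂ) ^ 2 := by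
      rw [classInner, hcard, ← mul_assoc, mul_inv_cancel₀ hq0, one_mul,
        ← Finset.sum_erase Finset.univ (f := fun y => φ y * conj (φ y)) (a := 1) (by simp [φ]),
        Finset.sum_div]
      refine Finset.sum_congr rfl fun y hy => ?_
      simp only [φ, if_neg (Finset.ne_of_mem_erase hy), map_div₀, map_natCast]
      field_simp
    have h5 : ∑ l : IrrCharacter (Subgroup.zpowers x), ((q : ℤ) * c l - r) ^ 2 =
        (q : ℤ) * (q * (∑ l, c l ^ 2) - (r : ℤ) ^ 2) := by
      have : ∀ l : IrrCharacter (Subgroup.zpowers x), ((q : ℤ) * c l - r) ^ 2 =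
          (q : ℤ) ^ 2 * c l ^ 2 - 2 * q * r * c l + (r : ℤ) ^ 2 := fun l => by ring
      rw [Finset.sum_congr rfl fun l _ => this l, Finset.sum_add_distrib, Finset.sum_sub_distrib,
        ← Finset.mul_sum, ← Finset.mul_sum, hsum, Finset.sum_const, Finset.card_univ, hcq,
        nsmul_eq_mul]
      ring
    have h5' : ∑ l : IrrCharacter (Subgroup.zpowers x), ((q * c l - r : ℤ) : ℂ) ^ 2 =
        (q : ℂ) * (((q * (∑ l, c l ^ 2) - (r : ℤ) ^ 2) : ℤ) : ℂ) := by
      have := congrArg (fun z : ℤ => (z : ℂ)) h5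
      push_cast at this ⊢
      exact this
    rw [h5'] at h3
    have h6 : (q : ℂ) * classInner φ φ = (((q * (∑ l, c l ^ 2) - (r : ℤ) ^ 2) : ℤ) : ℂ) :=
      mul_left_cancel₀ hq0 (by rw [← h3]; ring)
    rw [h4, div_eq_iff (pow_ne_zero 2 hP0)] at h6
    rw [h6]
    push_cast
    ring
  · refine ⟨c (trivIrr _), hNeq hN _, ?_⟩
    have h1 := hc (trivIrr _)
    rw [classInner, hcard, ← mul_assoc, mul_inv_cancel₀ hq0, one_mul,
      ← Finset.sum_erase Finset.univ (a := 1) (by simp [φ])] at h1
    rw [Int.cast_mul, Int.cast_natCast, ← h1, Finset.mul_sum]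
    refine Finset.sum_congr rfl fun y hy => ?_
    simp only [φ, if_neg (Finset.ne_of_mem_erase hy), trivIrr_apply, map_one, mul_one]
    field_simp

/-- The conjugates of a subgroup. -/
noncomputable def conjugatesOf' (Q : Subgroup G) :
    Finset (Subgroup G) :=
  open Classical in
  Finset.univ.image fun g : G => Q.map (MulAut.conj g).toMonoidHom

theorem card_conjugatesOf' (Q : Subgroup G) :
    (conjugatesOf' Q).card = (Subgroup.normalizer (Q : Set G)).index := by
  classical
  have key : ∀ a b : G, (Q.map (MulAut.conj a).toMonoidHom = Q.map (MulAut.conj b).toMonoidHom) ↔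
      a⁻¹ * b ∈ Subgroup.normalizer (Q : Set G) := by
    intro a b
    rw [Subgroup.mem_normalizer_iff]
    constructor
    · intro h x
      have := SetLike.ext_iff.mp h (b * x * b⁻¹)
      rw [Subgroup.mem_map_equiv, Subgroup.mem_map_equiv] at this
      simp only [MulAut.conj_symm_apply] at this
      rw [show b⁻¹ * (b * x * b⁻¹) * b = x by group] at this
      rw [← this, show a⁻¹ * b * x * (a⁻¹ * b)⁻¹ = a⁻¹ * (b * x * b⁻¹) * a by group]
    · intro h
      ext x
      rw [Subgroup.mem_map_equiv, Subgroup.mem_map_equiv]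
      simp only [MulAut.conj_symm_apply]
      have := h (b⁻¹ * x * b)
      rw [show a⁻¹ * b * (b⁻¹ * x * b) * (a⁻¹ * b)⁻¹ = a⁻¹ * x * a by group] at this
      exact this.symm
  let f : G ⧸ Subgroup.normalizer (Q : Set G) → (conjugatesOf' Q) := fun c =>
    Quotient.liftOn' c
      (fun g => ⟨Q.map (MulAut.conj g).toMonoidHom,
        Finset.mem_image_of_mem _ (Finset.mem_univ g)⟩)
      fun a b h => Subtype.ext ((key a b).mpr (QuotientGroup.leftRel_apply.mp h))
  have hf : Function.Bijective f := by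
    constructor
    · intro c c'
      induction c using QuotientGroup.induction_on with
      | _ a =>
        induction c' using QuotientGroup.induction_on with
        | _ b =>
          intro h
          exact QuotientGroup.eq.mpr ((key a b).mp (congrArg Subtype.val h))
    · rintro ⟨R, hR⟩
      obtain ⟨g, -, rfl⟩ := Finset.mem_image.mp hR
      exact ⟨QuotientGroup.mk g, rfl⟩
  rw [Subgroup.index, Nat.card_congr (Equiv.ofBijective f hf), Nat.card_eq_fintype_card,
    Fintype.card_coe]

/-- The nontrivial elements of the conjugates of a subgroup. -/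
noncomputable def conjElems (Q : Subgroup G) : Finset G :=
  open Classical in
  (conjugatesOf' Q).biUnion fun R => (Finset.univ.filter fun y => y ∈ R).erase 1

theorem sum_conjElems {q : ℕ} (hq : q.Prime) {x : G}
    (hx : orderOf x = q) [Fintype (Subgroup.zpowers x)] [DecidableEq (Subgroup.zpowers x)]
    {A : Type*} [AddCommMonoid A] (f : G → A) (hf : ∀ g h : G, f (h * g * h⁻¹) = f g) :
    ∑ y ∈ conjElems (Subgroup.zpowers x), f y =
      (Subgroup.normalizer ((Subgroup.zpowers x : Subgroup G) : Set G)).index •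
        ∑ y ∈ (Finset.univ : Finset (Subgroup.zpowers x)).erase 1, f (y : G) := by
  classical
  rw [conjElems, Finset.sum_biUnion]
  · rw [← card_conjugatesOf']
    refine Eq.trans ?_ (Finset.sum_const _)
    refine Finset.sum_congr rfl fun R hR => ?_
    obtain ⟨g, -, rfl⟩ := Finset.mem_image.mp hR
    refine Eq.symm (Finset.sum_bij (fun y _ => g * (y : G) * g⁻¹) ?_ ?_ ?_ ?_)
    · intro y hy
      simp only [Finset.mem_erase, ne_eq, Finset.mem_filter, Finset.mem_univ, true_and]
      refine ⟨fun h => Finset.ne_of_mem_erase hy (Subtype.ext (conj_eq_one_iff.mp h)), ?_⟩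
      exact ⟨y, y.2, by simp⟩
    · intro a _ b _ h
      exact Subtype.ext (mul_left_cancel (mul_right_cancel h))
    · intro y hy
      simp only [Finset.mem_erase, ne_eq, Finset.mem_filter, Finset.mem_univ, true_and] at hy
      obtain ⟨hy1, z, hz, rfl⟩ := hy
      refine ⟨⟨z, hz⟩, Finset.mem_erase.mpr ⟨fun h => hy1 ?_, Finset.mem_univ _⟩, by simp⟩
      have hz1 : z = 1 := congrArg Subtype.val h
      simp [hz1]
    · intro y _
      rw [hf]
  · intro R hR R' hR' hne
    simp only [Function.onFun, Finset.disjoint_left]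
    intro y hy hy'
    simp only [Finset.mem_erase, ne_eq, Finset.mem_filter, Finset.mem_univ, true_and] at hy hy'
    apply hne
    haveI := Fact.mk hq
    have gen : ∀ S ∈ conjugatesOf' (Subgroup.zpowers x), y ∈ S → Subgroup.zpowers y = S := by
      intro S hS hyS
      obtain ⟨g, -, rfl⟩ := Finset.mem_image.mp hS
      refine Subgroup.eq_of_le_of_card_ge ((Subgroup.zpowers_le).mpr hyS) ?_
      rw [Subgroup.card_map_of_injective (MulAut.conj g).injective, Nat.card_zpowers, hx,
        Nat.card_zpowers]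
      obtain ⟨z, hz, rfl⟩ := hyS
      have hzq : z ^ q = 1 := by
        obtain ⟨i, rfl⟩ := Subgroup.mem_zpowers_iff.mp hz
        rw [← zpow_natCast, ← zpow_mul, mul_comm, zpow_mul, zpow_natCast, ← hx,
          pow_orderOf_eq_one, one_zpow]
      have hy1 : (MulAut.conj g).toMonoidHom z ≠ 1 := hy.1
      rw [orderOf_eq_prime (by rw [← map_pow, hzq, map_one]) hy1]
    rw [← gen R hR hy.2, ← gen R' hR' hy'.2]

theorem orderOf_of_mem_conjElems {q : ℕ} (hq : q.Prime)
    {x y : G} (hx : orderOf x = q) (hy : y ∈ conjElems (Subgroup.zpowers x)) : orderOf y = q := by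
  classical
  simp only [conjElems, Finset.mem_biUnion, Finset.mem_erase, ne_eq, Finset.mem_filter,
    Finset.mem_univ, true_and] at hy
  obtain ⟨R, hR, hy1, hyR⟩ := hy
  obtain ⟨g, -, rfl⟩ := Finset.mem_image.mp hR
  obtain ⟨z, hz, rfl⟩ := hyR
  haveI := Fact.mk hq
  obtain ⟨i, rfl⟩ := Subgroup.mem_zpowers_iff.mp hz
  refine orderOf_eq_prime ?_ hy1
  rw [← map_pow, ← zpow_natCast, ← zpow_mul, mul_comm, zpow_mul, zpow_natCast, ← hx,
    pow_orderOf_eq_one, one_zpow, map_one]

/-- One prime's data: an element of prime order `q`, a power of `p` dividing the order of its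
centraliser and a lower bound for the number of conjugates of the subgroup it generates. -/
structure PrimeData (G : Type u) [Group G] (p : ℕ) where
  q : ℕ
  x : G
  k : ℕ
  num : ℕ
  hq : q.Prime
  hqp : q ≠ p
  hx : orderOf x = q
  hk : p ^ k ∣ Nat.card (Subgroup.centralizer ({x} : Set G))
  hnum : num ≤ (Subgroup.normalizer ((Subgroup.zpowers x : Subgroup G) : Set G)).index

/-- **Degree bound in defect zero.** -/
theorem defectZero_bound (χ : IrrCharacter G) {p a r m : ℕ} (hp : p.Prime)
    (hG : Nat.card G = p ^ a * r) (hr : ¬ p ∣ r) (hd : charDegree (χ : G → ℂ) = p ^ a * m)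
    (hne : p ^ a * m ≠ 1) {ι : Type*} [Fintype ι] (D : ι → PrimeData G p)
    (hinj : Function.Injective fun i => (D i).q) (R : ι → ℕ)
    (hR : ∀ i, (p ^ (D i).k * R i) % (D i).q = (p ^ a * m) % (D i).q ∧ R i < (D i).q) :
    ((p ^ a * m : ℕ) : ℤ) ^ 2 + ∑ i, ((D i).num : ℤ) * (((p : ℤ) ^ (D i).k) ^ 2 *
        ((R i : ℤ) * ((D i).q - R i))) ≤ Nat.card G ∧
    (((p ^ a * m : ℕ) : ℤ) ^ 2 + ∑ i, ((D i).num : ℤ) * (((p : ℤ) ^ (D i).k) ^ 2 *
        ((R i : ℤ) * ((D i).q - R i))) = Nat.card G → (∀ i, 0 < R i) →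
      ∃ t : ι → ℤ, (∀ i, t i = 0 ∨ t i = 1) ∧ ((p ^ a * m : ℕ) : ℤ) + ∑ i, ((D i).num : ℤ) *
        ((p : ℤ) ^ (D i).k * ((D i).q * t i - R i)) = 0) := by
  classical
  set d := p ^ a * m with hdd
  have hd1 : (χ : G → ℂ) 1 = (d : ℂ) := by rw [← charDegree_eq χ, hd]
  have key : ∀ i, ∃ N : ℤ, (R i : ℤ) ≤ N ∧
      (∑ y ∈ conjElems (Subgroup.zpowers (D i).x), (χ : G → ℂ) y * conj ((χ : G → ℂ) y)) =
        (((Subgroup.normalizer ((Subgroup.zpowers (D i).x : Subgroup G) : Set G)).index : ℤ) *
          (((p : ℤ) ^ (D i).k) ^ 2 * ((D i).q * N - (R i : ℤ) ^ 2)) : ℤ) ∧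
      (N = R i → ∃ t : ℤ, (t = 0 ∨ t = 1) ∧
        (∑ y ∈ conjElems (Subgroup.zpowers (D i).x), (χ : G → ℂ) y) =
          (((Subgroup.normalizer ((Subgroup.zpowers (D i).x : Subgroup G) : Set G)).index : ℤ) *
            ((p : ℤ) ^ (D i).k * ((D i).q * t - R i)) : ℤ)) := by
    intro i
    have hint : ∀ y ∈ Subgroup.zpowers (D i).x, y ≠ 1 →
        IsIntegral ℤ ((χ : G → ℂ) y / ((p ^ (D i).k : ℕ) : ℂ)) := fun y hy _ => by
      refine isIntegral_div_prime_pow χ hp hG hr hd ((D i).hk.trans (Subgroup.card_dvd_of_le ?_))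
      obtain ⟨j, rfl⟩ := Subgroup.mem_zpowers_iff.mp hy
      intro g hg
      rw [Subgroup.mem_centralizer_iff] at hg ⊢
      rintro _ rfl
      exact (Commute.zpow_left (hg (D i).x rfl) j).eq
    obtain ⟨N, hN, h1, h2⟩ := cyclic_bound (χ : G → ℂ) (IsIrrCharacter.isCharacter χ.2) hd1
      (D i).hq (D i).hx (pow_pos hp.pos _)
      (((Nat.coprime_primes (D i).hq hp).mpr (D i).hqp).pow_right _) (hR i).1 (hR i).2 hint
    have hcl := irr_isClassFunction χ
    refine ⟨N, hN, ?_, fun he => ?_⟩
    · rw [sum_conjElems (D i).hq (D i).hx (fun y => (χ : G → ℂ) y * conj ((χ : G → ℂ) y))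
        (fun g h => by rw [hcl g h]), h1, nsmul_eq_mul]
      push_cast; ring
    · obtain ⟨t, ht, h3⟩ := h2 he
      refine ⟨t, ht, ?_⟩
      rw [sum_conjElems (D i).hq (D i).hx (fun y => (χ : G → ℂ) y) (fun g h => hcl g h), h3,
        nsmul_eq_mul]
      push_cast; ring
  choose N hN hsq hlin using key
  set U : Finset G := insert 1 (Finset.univ.biUnion fun i => conjElems (Subgroup.zpowers (D i).x))
    with hU
  have h1U : (1 : G) ∉ Finset.univ.biUnion fun i => conjElems (Subgroup.zpowers (D i).x) := by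
    simp only [Finset.mem_biUnion, Finset.mem_univ, true_and, not_exists]
    intro i hi
    have := orderOf_of_mem_conjElems (D i).hq (D i).hx hi
    rw [orderOf_one] at this
    exact (D i).hq.ne_one this.symm
  have hdisj : ((Finset.univ : Finset ι) : Set ι).PairwiseDisjoint
      fun i => conjElems (Subgroup.zpowers (D i).x) := by
    intro i _ j _ hij
    simp only [Function.onFun, Finset.disjoint_left]
    intro y hy hy'
    exact hij (hinj ((orderOf_of_mem_conjElems (D i).hq (D i).hx hy).symm.trans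
      (orderOf_of_mem_conjElems (D j).hq (D j).hx hy')))
  have htot : ∑ y : G, (χ : G → ℂ) y * conj ((χ : G → ℂ) y) = (Nat.card G : ℂ) := by
    have h := IsIrrCharacter.classInner_self χ.2
    rwa [classInner, inv_mul_eq_one₀ natCard_ne_zero_complex, eq_comm] at h
  have hUsum : ∑ y ∈ U, (χ : G → ℂ) y * conj ((χ : G → ℂ) y) = (((d : ℤ) ^ 2 + ∑ i,
      ((Subgroup.normalizer ((Subgroup.zpowers (D i).x : Subgroup G) : Set G)).index : ℤ) *
        (((p : ℤ) ^ (D i).k) ^ 2 * ((D i).q * N i - (R i : ℤ) ^ 2)) : ℤ) : ℂ) := by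
    rw [hU, Finset.sum_insert h1U, Finset.sum_biUnion hdisj, hd1, map_natCast]
    simp only [hsq]
    push_cast
    ring
  have hrest : ∀ y, ((χ : G → ℂ) y * conj ((χ : G → ℂ) y)) =
      ((Complex.normSq ((χ : G → ℂ) y) : ℝ) : ℂ) := fun y => Complex.mul_conj _
  have hle : ((d : ℤ) ^ 2 + ∑ i,
      ((Subgroup.normalizer ((Subgroup.zpowers (D i).x : Subgroup G) : Set G)).index : ℤ) *
        (((p : ℤ) ^ (D i).k) ^ 2 * ((D i).q * N i - (R i : ℤ) ^ 2))) +
      0 ≤ (Nat.card G : ℤ) ∧ ((d : ℤ) ^ 2 + ∑ i,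
      ((Subgroup.normalizer ((Subgroup.zpowers (D i).x : Subgroup G) : Set G)).index : ℤ) *
        (((p : ℤ) ^ (D i).k) ^ 2 * ((D i).q * N i - (R i : ℤ) ^ 2)) = Nat.card G →
      ∀ y ∉ U, (χ : G → ℂ) y = 0) := by
    rw [← Finset.sum_add_sum_compl U, hUsum] at htot
    simp only [hrest] at htot
    rw [← Complex.ofReal_sum] at htot
    have h := congrArg Complex.re htot
    simp only [Complex.add_re, Complex.intCast_re, Complex.ofReal_re, Complex.natCast_re] at h
    set s := ∑ y ∈ Uᶜ, Complex.normSq ((χ : G → ℂ) y) with hs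
    have hs0 : 0 ≤ s := Finset.sum_nonneg fun y _ => Complex.normSq_nonneg _
    generalize ((d : ℤ) ^ 2 + ∑ i,
      ((Subgroup.normalizer ((Subgroup.zpowers (D i).x : Subgroup G) : Set G)).index : ℤ) *
        (((p : ℤ) ^ (D i).k) ^ 2 * ((D i).q * N i - (R i : ℤ) ^ 2))) = B at h ⊢
    constructor
    · rw [add_zero]
      have hB : ((B : ℤ) : ℝ) ≤ ((Nat.card G : ℤ) : ℝ) := by push_cast; linarith
      exact Int.cast_le.mp hB
    · intro he y hy
      rw [he] at h
      push_cast at h
      have hz : s = 0 := by linarith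
      exact Complex.normSq_eq_zero.mp
        ((Finset.sum_eq_zero_iff_of_nonneg fun y _ => Complex.normSq_nonneg _).mp hz y
          (Finset.mem_compl.mpr hy))
  have hterm : ∀ i, ((D i).num : ℤ) * (((p : ℤ) ^ (D i).k) ^ 2 *
        ((R i : ℤ) * ((D i).q - R i))) ≤
      ((Subgroup.normalizer ((Subgroup.zpowers (D i).x : Subgroup G) : Set G)).index : ℤ) *
        (((p : ℤ) ^ (D i).k) ^ 2 * ((D i).q * N i - (R i : ℤ) ^ 2)) := by
    intro i
    refine mul_le_mul (by exact_mod_cast (D i).hnum)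
      (mul_le_mul_of_nonneg_left ?_ (sq_nonneg _)) ?_ (Nat.cast_nonneg _)
    · nlinarith [hN i, Int.natCast_nonneg (D i).q]
    · exact mul_nonneg (sq_nonneg _) (mul_nonneg (Nat.cast_nonneg _)
        (by have := (hR i).2; omega))
  have hsumle := Finset.sum_le_sum (s := Finset.univ) fun i _ => hterm i
  refine ⟨by linarith [hle.1], fun he hpos => ?_⟩
  have heq := (Finset.sum_eq_sum_iff_of_le fun i _ => hterm i).mp
    (le_antisymm hsumle (by linarith [hle.1]))
  have hNR : ∀ i, N i = R i ∧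
      ((Subgroup.normalizer ((Subgroup.zpowers (D i).x : Subgroup G) : Set G)).index : ℤ) =
        (D i).num := by
    intro i
    have h := heq i (Finset.mem_univ i)
    have hp2 : (0 : ℤ) < ((p : ℤ) ^ (D i).k) ^ 2 := by
      have : (0 : ℤ) < p := by exact_mod_cast hp.pos
      positivity
    have hA : (0 : ℤ) < (R i : ℤ) * ((D i).q - R i) :=
      mul_pos (by exact_mod_cast hpos i) (by have := (hR i).2; omega)
    have hB : (R i : ℤ) * ((D i).q - R i) ≤ (D i).q * N i - (R i : ℤ) ^ 2 := by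
      nlinarith [hN i, Int.natCast_nonneg (D i).q]
    have hn : ((D i).num : ℤ) ≤
        ((Subgroup.normalizer ((Subgroup.zpowers (D i).x : Subgroup G) : Set G)).index : ℤ) := by
      exact_mod_cast (D i).hnum
    have hidx : (0 : ℤ) <
        ((Subgroup.normalizer ((Subgroup.zpowers (D i).x : Subgroup G) : Set G)).index : ℤ) := by
      exact_mod_cast Nat.pos_of_ne_zero Subgroup.index_ne_zero_of_finite
    have h1 : ((Subgroup.normalizer
        ((Subgroup.zpowers (D i).x : Subgroup G) : Set G)).index : ℤ) = (D i).num := by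
      nlinarith [mul_le_mul_of_nonneg_left hB (mul_nonneg hidx.le hp2.le), mul_pos hp2 hA]
    refine ⟨?_, h1⟩
    rw [h1] at h
    have h2 := mul_left_cancel₀ (by linarith) h
    have h3 := mul_left_cancel₀ hp2.ne' h2
    have hq0 : ((D i).q : ℤ) ≠ 0 := by exact_mod_cast (D i).hq.ne_zero
    exact mul_left_cancel₀ hq0 (by linarith)
  choose t ht hlin' using fun i => hlin i (hNR i).1
  refine ⟨t, ht, ?_⟩
  have hz := hle.2 (le_antisymm (by linarith [hle.1]) (by linarith))
  have hne' : (χ : G → ℂ) ≠ (fun _ => 1) := by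
    intro h
    have := congrFun h 1
    rw [hd1] at this
    exact hne (by exact_mod_cast this)
  have hsum0 : ∑ y : G, (χ : G → ℂ) y = 0 := by
    have h := IsIrrCharacter.classInner_ne χ.2 (trivIrr G).2 hne'
    rw [classInner, mul_eq_zero, or_iff_right (inv_ne_zero natCard_ne_zero_complex)] at h
    simpa using h
  rw [← Finset.sum_subset (Finset.subset_univ U) fun y _ hy => hz y hy, hU,
    Finset.sum_insert h1U, Finset.sum_biUnion hdisj, hd1] at hsum0
  simp only [hlin', (hNR _).2] at hsum0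
  exact_mod_cast hsum0

end Cfsg.Agent.Lib.Compute
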