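import Cfsg.Agent.Lib.Compute.CommBound
import Cfsg.Agent.Lib.Compute.DefectZeroBound
import Cfsg.Agent.Lib.Compute.SingleBlock

/-!
# The hypotheses of `sameBlock_of_constrained` from certificates
-/

set_option autoImplicit false
set_option linter.unusedSectionVars false

namespace Cfsg.Agent.Lib.Compute

open Cfsg Equiv Cfsg.Agent.Lib.Characters

variable {n : ℕ}

/-- A representative of the elements of order `p`, its centraliser, a normal `p`-subgroup of that
and the centraliser of the latter there. -/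
structure RepData where
  t : ℕ
  cH : List Lvl
  witH : List (List ℕ)
  cQ : List Lvl
  witQ : List (List ℕ)
  cZ : List Lvl
  witZ : List (List ℕ)
  normWit : List (List ℕ)
  m : ℕ

/-- The first generators of a certificate. -/
def gensOf : List Lvl → List ℕ
  | [] => []
  | L :: _ => L.gens.map fun g => g.1

/-- Every generator of `c` commutes with every permutation of the list. -/
def gensComm (n : ℕ) (Ps : List ℕ) (c : List Lvl) : Bool :=
  (gensOf c).all fun g => commLeaf n Ps (app g)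

/-- Every generator of `cH` conjugates every generator of `cQ` into it. -/
def gensNorm (n : ℕ) (cH cQ : List Lvl) (wit : List (List ℕ)) : Bool :=
  (gensOf cH).all fun h => (gensOf cQ).all fun g => wit.any fun js =>
    (List.range n).all fun i => app h (app g i) == sift cQ js (app h i)

/-- All the checks on one representative. -/
def repOk (n p : ℕ) (c : List Lvl) (d : RepData) : Bool :=
  powOk n p d.t && chk n d.cH && chk n d.cQ && chk n d.cZ && subOk n c d.cH d.witH &&
    subOk n d.cH d.cQ d.witQ && subOk n d.cQ d.cZ d.witZ && gensComm n [d.t] d.cH &&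
    decide (orbitBound [commRows n d.t] (commLeaf n [d.t]) c [] ≤ certOrder d.cH) &&
    decide (certOrder d.cQ = p ^ d.m) && gensNorm n d.cH d.cQ d.normWit &&
    gensComm n (gensOf d.cQ) d.cZ &&
    decide (orbitBound ((gensOf d.cQ).map (commRows n)) (commLeaf n (gensOf d.cQ)) d.cH [] ≤
      certOrder d.cZ)

theorem genOk_of_chk {c : List Lvl} (hc : chk n c = true) {P : ℕ} (hP : P ∈ gensOf c) :
    Valid n P ∧ toPerm n P ∈ grp n c := by
  cases c with
  | nil => simp [gensOf] at hP
  | cons L rest =>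
    simp only [chk, Bool.and_eq_true] at hc
    obtain ⟨g, hg, rfl⟩ := List.mem_map.mp hP
    exact ⟨valid_of_genOk ((lvlOk_iff hc.1).2.1 g hg), gen_mem hg⟩

theorem grp_eq_closure (c : List Lvl) :
    grp n c = Subgroup.closure (toPerm n '' {P | P ∈ gensOf c}) := by
  cases c with
  | nil =>
    have : toPerm n '' {P | P ∈ gensOf ([] : List Lvl)} = ∅ := by simp [gensOf]
    rw [this, Subgroup.closure_empty]
    rfl
  | cons L rest =>
    show Subgroup.closure _ = _
    congr 1
    ext σ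
    simp only [Set.mem_image, Set.mem_setOf_eq, gensOf, List.mem_map, exists_exists_and_eq_and]

theorem comm_of_gensComm {Ps : List ℕ} (hPs : ∀ P ∈ Ps, Valid n P) {c : List Lvl}
    (hc : chk n c = true) (h : gensComm n Ps c = true) {σ : Perm (Fin n)} (hσ : σ ∈ grp n c)
    {P : ℕ} (hP : P ∈ Ps) : σ * toPerm n P = toPerm n P * σ := by
  have hle : grp n c ≤ Subgroup.centralizer {toPerm n P} := by
    rw [grp_eq_closure]
    refine (Subgroup.closure_le _).mpr ?_
    rintro _ ⟨g, hg, rfl⟩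
    simp only [gensComm, commLeaf, List.all_eq_true, List.mem_range, beq_iff_eq] at h
    rw [SetLike.mem_coe, Subgroup.mem_centralizer_iff]
    rintro _ rfl
    exact (((hPs P hP).repr.mul (genOk_of_chk hc hg).1.repr).eq
      ((genOk_of_chk hc hg).1.repr.mul (hPs P hP).repr) fun i hi => (h g hg P hP i hi).symm)
  exact ((Subgroup.mem_centralizer_iff.mp (hle hσ)) _ rfl).symm

theorem norm_of_gensNorm {cH cQ : List Lvl} (hH : chk n cH = true) (hQ : chk n cQ = true)
    {wit : List (List ℕ)} (h : gensNorm n cH cQ wit = true) :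
    grp n cH ≤ Subgroup.normalizer (grp n cQ : Set (Perm (Fin n))) := by
  rw [grp_eq_closure cH]
  refine (Subgroup.closure_le _).mpr ?_
  rintro _ ⟨g, hg, rfl⟩
  obtain ⟨hgv, -⟩ := genOk_of_chk hH hg
  simp only [gensNorm, List.all_eq_true, List.any_eq_true, List.mem_range, beq_iff_eq] at h
  have hle : (grp n cQ).map (MulAut.conj (toPerm n g)).toMonoidHom ≤ grp n cQ := by
    rw [Subgroup.map_le_iff_le_comap]
    conv_lhs => rw [grp_eq_closure cQ]
    refine (Subgroup.closure_le _).mpr ?_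
    rintro _ ⟨s, hs, rfl⟩
    obtain ⟨hsv, -⟩ := genOk_of_chk hQ hs
    obtain ⟨js, -, hjs⟩ := h g hg s hs
    obtain ⟨hr, hm⟩ := sift_spec hQ js
    have e := (hgv.repr.mul hsv.repr).eq (hr.mul hgv.repr) hjs
    show toPerm n g * toPerm n s * (toPerm n g)⁻¹ ∈ grp n cQ
    rw [e, mul_inv_cancel_right]
    exact hm
  have heq := Subgroup.eq_of_le_of_card_ge hle
    (by rw [Subgroup.card_map_of_injective (MulAut.conj (toPerm n g)).injective])
  refine Subgroup.mem_normalizer_iff.mpr fun x => ⟨fun hx => ?_, fun hx => ?_⟩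
  · rw [← heq]
    exact ⟨x, hx, rfl⟩
  · rw [← heq] at hx
    obtain ⟨y, hy, hxy⟩ := hx
    exact (MulAut.conj (toPerm n g)).injective hxy ▸ hy

/-- **The constraint at a representative.** -/
theorem constrained_of_repOk {p : ℕ} [Fact p.Prime] {c : List Lvl} (hc : chk n c = true)
    {d : RepData} (h : repOk n p c d = true) :
    ∃ Q : Subgroup (Perm (Fin n)), Q ≤ grp n c ∧ IsPGroup p Q ∧
      (∀ q ∈ Q, q * toPerm n d.t = toPerm n d.t * q) ∧
      (∀ g ∈ grp n c, g * toPerm n d.t = toPerm n d.t * g → ∀ q ∈ Q, g * q * g⁻¹ ∈ Q) ∧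
      ∀ g ∈ grp n c, g * toPerm n d.t = toPerm n d.t * g → (∀ q ∈ Q, g * q = q * g) → g ∈ Q := by
  classical
  simp only [repOk, Bool.and_eq_true, decide_eq_true_eq] at h
  obtain ⟨⟨⟨⟨⟨⟨⟨⟨⟨⟨⟨⟨ht, hH⟩, hQ⟩, hZ⟩, hsH⟩, hsQ⟩, hsZ⟩, hcH⟩, hbH⟩, hordQ⟩, hn⟩, hcZ⟩, hbZ⟩ := h
  obtain ⟨htv, -⟩ := valid_of_powOk (Fact.out : p.Prime).pos ht
  have htl : ∀ P ∈ [d.t], Valid n P := by simpa using htv
  have hHle := grp_le_of_subOk hc hsH
  have hQle := grp_le_of_subOk hH hsQ
  have hZle := grp_le_of_subOk hQ hsZ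
  have hHcomm : ∀ σ ∈ grp n d.cH, σ * toPerm n d.t = toPerm n d.t * σ := fun σ hσ =>
    comm_of_gensComm htl hH hcH hσ (List.mem_singleton_self _)
  have hCeq : ∀ g ∈ grp n c, g * toPerm n d.t = toPerm n d.t * g → g ∈ grp n d.cH := by
    intro g hg hgt
    have hle : grp n d.cH ≤ Subgroup.centralizer {toPerm n d.t} ⊓ grp n c := le_inf
      (fun σ hσ => Subgroup.mem_centralizer_iff.mpr (by rintro _ rfl; exact (hHcomm σ hσ).symm))
      hHle
    have heq := Subgroup.eq_of_le_of_card_ge hle (by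
      rw [card_grp hH]
      refine le_trans (card_commuting_le (Ps := [d.t]) hc htl inf_le_right ?_) hbH
      intro σ hσ P hP
      rw [List.mem_singleton] at hP
      subst hP
      exact ((Subgroup.mem_centralizer_iff.mp hσ.1) _ rfl).symm)
    rw [heq]
    exact ⟨Subgroup.mem_centralizer_iff.mpr (by rintro _ rfl; exact hgt.symm), hg⟩
  refine ⟨grp n d.cQ, hQle.trans hHle, IsPGroup.of_card (by rw [card_grp hQ, hordQ]),
    fun q hq => hHcomm q (hQle hq),
    fun g hg hgt q hq => (Subgroup.mem_normalizer_iff.mp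
      (norm_of_gensNorm hH hQ hn (hCeq g hg hgt)) q).mp hq,
    fun g hg hgt hcomm => ?_⟩
  have hgl : ∀ P ∈ gensOf d.cQ, Valid n P := fun P hP => (genOk_of_chk hQ hP).1
  let C : Subgroup (Perm (Fin n)) :=
    Subgroup.centralizer (grp n d.cQ : Set (Perm (Fin n))) ⊓ grp n d.cH
  have hle : grp n d.cZ ≤ C := by
    refine le_inf (fun σ hσ => Subgroup.mem_centralizer_iff.mpr fun q hq => ?_) (hZle.trans hQle)
    have hq' : q ∈ Subgroup.centralizer {σ} := by
      have : grp n d.cQ ≤ Subgroup.centralizer {σ} := by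
        rw [grp_eq_closure]
        refine (Subgroup.closure_le _).mpr ?_
        rintro _ ⟨P, hP, rfl⟩
        refine Subgroup.mem_centralizer_iff.mpr ?_
        rintro _ rfl
        exact comm_of_gensComm hgl hZ hcZ hσ hP
      exact this hq
    exact ((Subgroup.mem_centralizer_iff.mp hq') _ rfl).symm
  have heq := Subgroup.eq_of_le_of_card_ge hle (by
    rw [card_grp hZ]
    refine le_trans (card_commuting_le hH hgl inf_le_right ?_) hbZ
    intro σ hσ P hP
    exact (Subgroup.mem_centralizer_iff.mp hσ.1 _ (genOk_of_chk hQ hP).2).symm)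
  refine hZle ?_
  rw [heq]
  exact ⟨Subgroup.mem_centralizer_iff.mpr fun q hq => (hcomm q hq).symm, hCeq g hg hgt⟩

/-- Every element of order `p` of the Sylow subgroup is conjugate to a representative. -/
def sylRepsOk (n p : ℕ) (c cS : List Lvl) (ts : List ℕ) (wit : List (ℕ × List ℕ)) : Bool :=
  (wit.length == (idxLists cS).length) && ((idxLists cS).zip wit).all fun a =>
    ((List.range n).all fun i => sift cS a.1 i == i) ||
    ((List.range n).any fun i => (sift cS a.1)^[p] i != i) ||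
    (decide (a.2.1 < ts.length) && (List.range n).all fun i =>
      sift c a.2.2 (sift cS a.1 i) == app (ts.getD a.2.1 0) (sift c a.2.2 i))

theorem exists_conj_rep {c cS : List Lvl} (hc : chk n c = true) (hS : chk n cS = true)
    (hle : grp n cS ≤ grp n c) {p a : ℕ} [Fact p.Prime] (hord : certOrder cS = p ^ a)
    (hfull : (certOrder c).factorization p = a) {ts : List ℕ} {wit : List (ℕ × List ℕ)}
    (hts : ∀ P ∈ ts, Valid n P) (h : sylRepsOk n p c cS ts wit = true)
    {x : grp n c} (hx : orderOf x = p) :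
    ∃ t ∈ ts, ∃ g : grp n c, ((g * x * g⁻¹ : grp n c) : Perm (Fin n)) = toPerm n t := by
  classical
  have hcard : Nat.card ((grp n cS).subgroupOf (grp n c)) = p ^ a := by
    rw [Nat.card_congr (Subgroup.subgroupOfEquivOfLe hle).toEquiv, card_grp hS, hord]
  let S₀ : Sylow p (grp n c) := Sylow.ofCard ((grp n cS).subgroupOf (grp n c))
    (by rw [hcard, card_grp hc, hfull])
  have hZ : IsPGroup p (Subgroup.zpowers x) :=
    IsPGroup.of_card (n := 1) (by rw [Nat.card_zpowers, hx, pow_one])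
  obtain ⟨S, hS'⟩ := hZ.exists_le_sylow
  obtain ⟨g, hg⟩ := MulAction.exists_smul_eq (grp n c) S S₀
  have hmem : g * x * g⁻¹ ∈ (S₀ : Subgroup (grp n c)) := by
    rw [← hg]
    exact ⟨x, hS' (Subgroup.mem_zpowers x), rfl⟩
  obtain ⟨js, hjs, hjx⟩ := exists_idx hS (Subgroup.mem_subgroupOf.mp hmem)
  have hr : Repr ((g * x * g⁻¹ : grp n c) : Perm (Fin n)) (sift cS js) :=
    hjx ▸ (sift_spec hS js).1
  simp only [sylRepsOk, Bool.and_eq_true, beq_iff_eq, List.all_eq_true, Bool.or_eq_true,
    List.any_eq_true, List.mem_range, bne_iff_ne, decide_eq_true_eq] at h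
  obtain ⟨hlen, hall⟩ := h
  obtain ⟨k, hk, rfl⟩ := List.getElem_of_mem hjs
  have hk' : k < wit.length := by omega
  have hord' : orderOf ((g * x * g⁻¹ : grp n c) : Perm (Fin n)) = p := by
    rw [Subgroup.orderOf_coe, ← MulAut.conj_apply, MulEquiv.orderOf_eq, hx]
  rcases hall _ (List.mem_iff_getElem.mpr ⟨k, by simp; omega, by simp⟩ :
    ((idxLists cS)[k], wit[k]) ∈ (idxLists cS).zip wit) with (h1 | ⟨i, hi, h2⟩) | ⟨h3, h4⟩
  · rw [hr.eq Repr.one h1, orderOf_one] at hord'
    exact absurd hord'.symm (Fact.out : p.Prime).ne_one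
  · have e := repr_pow hr p ⟨i, hi⟩
    rw [← hord', pow_orderOf_eq_one, hord'] at e
    exact absurd e.symm h2
  · obtain ⟨hr2, hm2⟩ := sift_spec hc (wit[k]).2
    have htm : ts.getD (wit[k]).1 0 ∈ ts := by
      rw [List.getD_eq_getElem _ _ h3]; exact List.getElem_mem _
    refine ⟨_, htm, ⟨_, hm2⟩ * g, ?_⟩
    have e := (hr2.mul hr).eq ((hts _ htm).repr.mul hr2) h4
    rw [show (⟨_, hm2⟩ : grp n c) * g * x * ((⟨_, hm2⟩ : grp n c) * g)⁻¹ =
      ⟨_, hm2⟩ * (g * x * g⁻¹) * (⟨_, hm2⟩ : grp n c)⁻¹ by group]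
    rw [Subgroup.coe_mul, Subgroup.coe_mul, Subgroup.coe_inv]
    exact mul_inv_eq_iff_eq_mul.mpr e

/-- **The constraint at every element of order `p`.** -/
theorem hcon_of_cert {H : Type*} [Group H] [Finite H] {p a : ℕ} [Fact p.Prime]
    {c cS : List Lvl} (e : grp n c ≃* H) (hc : chk n c = true) (hS : chk n cS = true)
    {witS : List (List ℕ)} (hsub : subOk n c cS witS = true)
    (hord : certOrder cS = p ^ a) (hfull : (certOrder c).factorization p = a)
    (ds : List RepData) (hds : ds.all (repOk n p c) = true) {wit : List (ℕ × List ℕ)}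
    (h : sylRepsOk n p c cS (ds.map RepData.t) wit = true) (y : H) (hy : orderOf y = p) :
    ∃ Q : Subgroup H, IsPGroup p Q ∧
      Q ≤ Subgroup.centralizer ({y} : Set H) ∧
      (∀ g ∈ Subgroup.centralizer ({y} : Set H), ∀ q ∈ Q, g * q * g⁻¹ ∈ Q) ∧
      ∀ g ∈ Subgroup.centralizer ({y} : Set H), (∀ q ∈ Q, g * q = q * g) → g ∈ Q := by
  have hle := grp_le_of_subOk hc hsub
  have hts : ∀ P ∈ ds.map RepData.t, Valid n P := by
    intro P hP
    obtain ⟨d, hd, rfl⟩ := List.mem_map.mp hP
    have := List.all_eq_true.mp hds d hd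
    simp only [repOk, Bool.and_eq_true] at this
    exact (valid_of_powOk (Fact.out : p.Prime).pos this.1.1.1.1.1.1.1.1.1.1.1.1).1
  obtain ⟨t, ht, g, hg⟩ := exists_conj_rep hc hS hle hord hfull hts h
    (x := e.symm y) (by rw [MulEquiv.orderOf_eq, hy])
  obtain ⟨d, hd, rfl⟩ := List.mem_map.mp ht
  obtain ⟨Q, hQle, hQp, hQc, hQn, hQs⟩ :=
    constrained_of_repOk hc (List.all_eq_true.mp hds d hd)
  -- transport by `f : grp n c → H`, `z ↦ e (g⁻¹ z g)`
  let f : grp n c ≃* H := (MulAut.conj g⁻¹).trans e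
  have hft : ∀ z : H, f ((f.symm : H → grp n c) z) = z := f.apply_symm_apply
  have hfy : (((f.symm y : grp n c)) : Perm (Fin n)) = toPerm n d.t := by
    rw [← hg]
    congr 1
  have hmemC : ∀ z : H, z ∈ Subgroup.centralizer ({y} : Set H) ↔
      (f.symm z : Perm (Fin n)) * toPerm n d.t = toPerm n d.t * (f.symm z : Perm (Fin n)) := by
    intro z
    rw [← hfy, ← Subgroup.coe_mul, ← Subgroup.coe_mul, Subtype.coe_inj, ← map_mul, ← map_mul,
      EmbeddingLike.apply_eq_iff_eq, Subgroup.mem_centralizer_iff]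
    exact ⟨fun h => (h y rfl).symm, fun h => by rintro _ rfl; exact h.symm⟩
  refine ⟨(Q.subgroupOf (grp n c)).comap f.symm.toMonoidHom, ?_, ?_, ?_, ?_⟩
  · exact (hQp.of_equiv (Subgroup.subgroupOfEquivOfLe hQle).symm).comap_of_injective _
      f.symm.injective
  · intro z hz
    exact (hmemC z).mpr (hQc _ (Subgroup.mem_subgroupOf.mp hz))
  · intro z hz q hq
    have h1 := hQn _ (f.symm z).2 ((hmemC z).mp hz) _ (Subgroup.mem_subgroupOf.mp hq)
    show f.symm (z * q * z⁻¹) ∈ Q.subgroupOf (grp n c)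
    rw [Subgroup.mem_subgroupOf, map_mul, map_mul, map_inv]
    exact h1
  · intro z hz hcomm
    refine Subgroup.mem_subgroupOf.mpr (hQs _ (f.symm z).2 ((hmemC z).mp hz) fun q hq => ?_)
    have h1 := hcomm (f ⟨q, hQle hq⟩) (by
      show f.symm (f ⟨q, hQle hq⟩) ∈ Q.subgroupOf (grp n c)
      rw [f.symm_apply_apply, Subgroup.mem_subgroupOf]
      exact hq)
    have h2 := congrArg (fun u => ((f.symm u : grp n c) : Perm (Fin n))) h1
    simpa using h2

/-- Data for one prime. -/
structure CycData where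
  q : ℕ
  P : ℕ
  wP : List ℕ
  pw : List ℕ
  k : ℕ
  cK : List Lvl
  witK : List (List ℕ)
  num : ℕ

/-- All the checks on one prime. -/
def cycOk (n p : ℕ) (c : List Lvl) (d : CycData) : Bool :=
  powOk n d.q d.P && memOk n c d.P d.wP && ((List.range n).any fun i => app d.P i != i) &&
    powsOk n d.q d.P d.pw && chk n d.cK && subOk n c d.cK d.witK &&
    gensComm n [d.P] d.cK && decide (certOrder d.cK = p ^ d.k) && decide (d.q ≠ p) &&
    decide (d.num * (orbitBound [commRows n d.P] (commLeaf n [d.P]) c [] *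
      (d.pw.filter fun B => conjEx n d.P B c (fun i => i) []).length) ≤ certOrder c)

theorem exists_primeData {H : Type*} [Group H] [Finite H] {p : ℕ} {c : List Lvl}
    (e : grp n c ≃* H) (hc : chk n c = true) (d : CycData) (hq : d.q.Prime)
    (h : cycOk n p c d = true) :
    ∃ D : PrimeData H p, D.q = d.q ∧ D.k = d.k ∧ D.num = d.num := by
  classical
  simp only [cycOk, Bool.and_eq_true, decide_eq_true_eq, List.any_eq_true, List.mem_range,
    bne_iff_ne] at h
  obtain ⟨⟨⟨⟨⟨⟨⟨⟨⟨hpow, hmem⟩, hne⟩, hpw⟩, hK⟩, hsK⟩, hcK⟩, hordK⟩, hqp⟩, hnum⟩ := h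
  obtain ⟨hv, hpowq⟩ := valid_of_powOk hq.pos hpow
  have hm := (mem_grp_of_memOk hc hmem).2
  have hne1 : toPerm n d.P ≠ 1 := by
    obtain ⟨i, hi, hne⟩ := hne
    intro h1
    have := hv.repr ⟨i, hi⟩
    rw [h1] at this
    exact hne this.symm
  haveI := Fact.mk hq
  set x : grp n c := ⟨toPerm n d.P, hm⟩ with hxdef
  have hx : orderOf (e x) = d.q := by
    rw [MulEquiv.orderOf_eq, ← Subgroup.orderOf_coe]
    exact orderOf_eq_prime hpowq hne1
  refine ⟨⟨d.q, e x, d.k, d.num, hq, hqp, hx, ?_, ?_⟩, rfl, rfl, rfl⟩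
  · have hKle := grp_le_of_subOk hc hsK
    have hle : ((grp n d.cK).subgroupOf (grp n c)).map e.toMonoidHom ≤
        Subgroup.centralizer {e x} := by
      rintro _ ⟨z, hz, rfl⟩
      refine Subgroup.mem_centralizer_iff.mpr ?_
      rintro _ rfl
      show e x * e z = e z * e x
      rw [← map_mul, ← map_mul]
      congr 1
      exact Subtype.ext (comm_of_gensComm (Ps := [d.P]) (by simpa using hv) hK hcK
        (Subgroup.mem_subgroupOf.mp hz) (List.mem_singleton_self _)).symm
    have h2 := Subgroup.card_dvd_of_le hle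
    rwa [Subgroup.card_map_of_injective (f := e.toMonoidHom) e.injective,
      Nat.card_congr (Subgroup.subgroupOfEquivOfLe hKle).toEquiv, card_grp hK, hordK] at h2
  · set N := Subgroup.normalizer ((Subgroup.zpowers (e x) : Subgroup H) : Set H) with hN
    have hb := card_normalizer_cyclic_le hc hq hpow hne1 hpw
      (N := (N.comap e.toMonoidHom).map (grp n c).subtype) (Subgroup.map_subtype_le _) (by
        rintro _ ⟨g, hg, rfl⟩
        obtain ⟨j, hj⟩ := Subgroup.mem_zpowers_iff.mp
          ((Subgroup.mem_normalizer_iff.mp hg (e x)).mp (Subgroup.mem_zpowers (e x)))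
        refine Subgroup.mem_zpowers_iff.mpr ⟨j, ?_⟩
        have h1 : x ^ j = g * x * g⁻¹ := e.injective (by simpa using hj)
        simpa [hxdef] using congrArg Subtype.val h1)
    rw [Subgroup.card_map_of_injective (Subgroup.subtype_injective _)] at hb
    have hcN : Nat.card (N.comap e.toMonoidHom) = Nat.card N :=
      Nat.card_congr ((e.toEquiv.subtypeEquiv fun a => Iff.rfl))
    have hidx := Subgroup.index_mul_card N
    rw [← Nat.card_congr e.toEquiv, card_grp hc] at hidx
    refine Nat.le_of_mul_le_mul_right ?_ (Nat.card_pos (α := N))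
    calc d.num * Nat.card N ≤ _ := Nat.mul_le_mul_left _ (hcN ▸ hb)
      _ ≤ certOrder c := hnum
      _ = _ := hidx.symm

/-- The residue with `P * R ≡ d (mod q)`. -/
def residue (q P d : ℕ) : ℕ := ((List.range q).find? fun R => (P * R) % q == d % q).getD 0

/-- A degree `p ^ a * m` is impossible. -/
def badDeg (p a o : ℕ) {l : ℕ} (qs : Fin l → ℕ × ℕ × ℕ) (m : ℕ) : Bool :=
  let d := p ^ a * m
  let R := fun i => residue (qs i).1 (p ^ (qs i).2.1) d
  let tot : ℤ := (d : ℤ) ^ 2 + ∑ i, ((qs i).2.2 : ℤ) *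
    (((p : ℤ) ^ (qs i).2.1) ^ 2 * ((R i : ℤ) * ((qs i).1 - R i)))
  decide (o < d * d) || ((decide (∀ i, (p ^ (qs i).2.1 * R i) % (qs i).1 = d % (qs i).1 ∧
      R i < (qs i).1)) &&
    (decide ((o : ℤ) < tot) || (decide (tot = o) && decide (∀ i, 0 < R i) &&
      decide (∀ t : Fin l → Bool, (d : ℤ) + ∑ i, ((qs i).2.2 : ℤ) * ((p : ℤ) ^ (qs i).2.1 *
        ((qs i).1 * (bif t i then 1 else 0) - R i)) ≠ 0))))

/-- **No character has defect zero.** -/
theorem factorization_charDegree_lt {H : Type*} [Group H] [Fintype H] {p a r : ℕ} (hp : p.Prime)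
    (hcard : Nat.card H = p ^ a * r) (hr : ¬ p ∣ r) {l : ℕ} (D : Fin l → PrimeData H p)
    (qs : Fin l → ℕ × ℕ × ℕ)
    (hqs : ∀ i, (D i).q = (qs i).1 ∧ (D i).k = (qs i).2.1 ∧ (D i).num = (qs i).2.2)
    (hinj : Function.Injective fun i => (qs i).1) (ha : 0 < a) {B : ℕ}
    (hB : p ^ a * r < (p ^ a * B) * (p ^ a * B))
    (hbad : ((List.range B).filter fun m => r % m == 0).all (badDeg p a (p ^ a * r) qs) = true)
    (χ : IrrCharacter H) :
    (charDegree (χ : H → ℂ)).factorization p < (Nat.card H).factorization p := by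
  classical
  have hr0 : r ≠ 0 := fun h0 => hr (h0 ▸ dvd_zero p)
  have hfact : (Nat.card H).factorization p = a := by
    rw [hcard, Nat.factorization_mul (pow_ne_zero _ hp.ne_zero) hr0, Finsupp.add_apply,
      Nat.factorization_eq_zero_of_not_dvd hr, hp.factorization_pow, Finsupp.single_eq_same,
      add_zero]
  by_contra hlt
  rw [not_lt, hfact] at hlt
  set d := charDegree (χ : H → ℂ) with hddef
  have hdpos : 0 < d := Cfsg.Agent.Lib.Blocks.charDegree_pos χ
  have hdvd : d ∣ p ^ a * r := by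
    rw [← hcard]
    have h := IsIrrCharacter.degree_dvd_index_of_abelian χ.2 (⊥ : Subgroup H)
      (fun a ha b hb => by rw [Subgroup.mem_bot.mp ha, Subgroup.mem_bot.mp hb])
      (Cfsg.Agent.Lib.Blocks.charDegree_eq χ).symm
    rwa [Subgroup.index_bot] at h
  obtain ⟨m, hm⟩ : p ^ a ∣ d := (hp.pow_dvd_iff_le_factorization hdpos.ne').mpr hlt
  rw [hm] at hdvd
  have hne : p ^ a * m ≠ 1 := by
    have h2 : 2 ≤ p ^ a := le_trans hp.two_le (Nat.le_self_pow ha.ne' p)
    have : 0 < m := Nat.pos_of_ne_zero fun h0 => by simp [h0] at hm; omega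
    nlinarith
  have hsq : (p ^ a * m) * (p ^ a * m) ≤ p ^ a * r := by
    have h := defectZero_bound χ hp hcard hr hm hne (ι := Fin 0) Fin.elim0
      (fun i => i.elim0) (fun i => i.elim0) (fun i => i.elim0)
    have h1 := h.1
    simp only [Finset.univ_eq_empty, Finset.sum_empty, add_zero, hcard, sq] at h1
    exact_mod_cast h1
  have hmB : m < B := by
    by_contra hge
    have := Nat.mul_le_mul (Nat.mul_le_mul_left (p ^ a) (not_lt.mp hge))
      (Nat.mul_le_mul_left (p ^ a) (not_lt.mp hge))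
    omega
  have hbad' := List.all_eq_true.mp hbad m (List.mem_filter.mpr ⟨List.mem_range.mpr hmB, by
    simpa using Nat.mod_eq_zero_of_dvd (Nat.dvd_of_mul_dvd_mul_left (pow_pos hp.pos a) hdvd)⟩)
  simp only [badDeg, Bool.or_eq_true, Bool.and_eq_true, decide_eq_true_eq] at hbad'
  rcases hbad' with hbig | ⟨hR, hbad'⟩
  · omega
  have hb := defectZero_bound χ hp hcard hr hm hne D
    (fun i j hij => hinj (by simpa only [(hqs _).1] using hij))
    (fun i => residue (qs i).1 (p ^ (qs i).2.1) (p ^ a * m))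
    (fun i => by
      obtain ⟨e1, e2, -⟩ := hqs i
      rw [e1, e2]; exact hR i)
  simp only [fun i => (hqs i).1, fun i => (hqs i).2.1, fun i => (hqs i).2.2, hcard] at hb
  rcases hbad' with hgt | ⟨⟨heq, hpos⟩, hnz⟩
  · exact absurd hb.1 (not_le.mpr hgt)
  · obtain ⟨t, ht, h0⟩ := hb.2 heq hpos
    apply hnz fun i => decide (t i = 1)
    refine Eq.trans ?_ h0
    congr 1
    refine Finset.sum_congr rfl fun i _ => ?_
    rcases ht i with h | h <;> simp [h]

end Cfsg.Agent.Lib.Compute
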