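import Mathlib

/-!
# Simplicity criteria for finite permutation groups
-/

namespace Cfsg.Agent.Lib.Compute

open MulAction

variable {G α : Type*} [Group G] [Finite G] [MulAction G α]

/-- A nontrivial normal subgroup of a faithful primitive group is transitive. -/
theorem isPretransitive_of_normal_ne_bot [FaithfulSMul G α] [IsPreprimitive G α]
    {N : Subgroup G} [N.Normal] (hN : N ≠ ⊥) : IsPretransitive N α := by
  refine IsQuasiPreprimitive.isPretransitive_of_normal (G := G) ?_
  intro h
  apply hN
  rw [Subgroup.eq_bot_iff_forall]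
  intro g hg
  refine eq_of_smul_eq_smul (α := α) fun x => ?_
  have hx : x ∈ fixedPoints N α := h ▸ Set.mem_univ x
  rw [one_smul]
  exact hx ⟨g, hg⟩

/-- The degree of a transitive normal subgroup divides its order. -/
theorem card_dvd_card_of_isPretransitive [Nonempty α] (N : Subgroup G) [IsPretransitive N α] :
    Nat.card α ∣ Nat.card N := by
  obtain ⟨a⟩ := (inferInstance : Nonempty α)
  rw [← MulAction.index_stabilizer_of_transitive N a]
  exact Subgroup.index_dvd_card _

/-- A faithful primitive group whose degree contains the full `p`-part `p ^ a` of the group order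
and which is generated by `p`-elements is simple. -/
theorem isSimpleGroup_of_pElements [FaithfulSMul G α] [IsPreprimitive G α] [Nonempty α]
    [Nontrivial G] {p a : ℕ} (hp : p.Prime) (hdvd : p ^ a ∣ Nat.card α)
    (hG : ¬ p ^ (a + 1) ∣ Nat.card G) {S : Set G} (hS : ∀ s ∈ S, ∃ k, orderOf s ∣ p ^ k)
    (hgen : Subgroup.closure S = ⊤) : IsSimpleGroup G := by
  refine ⟨fun N hN => ?_⟩
  rcases eq_or_ne N ⊥ with h | h
  · exact Or.inl h
  refine Or.inr (eq_top_iff.mpr (hgen ▸ (Subgroup.closure_le N).mpr fun s hs => ?_))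
  haveI := hN
  haveI := isPretransitive_of_normal_ne_bot (α := α) h
  have hc : p ^ a ∣ Nat.card N := hdvd.trans (card_dvd_card_of_isPretransitive N)
  have hco : ¬ p ∣ N.index := by
    intro hi
    apply hG
    rw [← N.card_mul_index, pow_succ]
    exact Nat.mul_dvd_mul hc hi
  obtain ⟨k, hk⟩ := hS s hs
  have h1 : orderOf (QuotientGroup.mk' N s) ∣ p ^ k := (orderOf_map_dvd _ s).trans hk
  have h2 : orderOf (QuotientGroup.mk' N s) ∣ N.index := orderOf_dvd_natCard _
  have h3 : Nat.Coprime (p ^ k) N.index := ((hp.coprime_iff_not_dvd.mpr hco).pow_left k)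
  have h4 : orderOf (QuotientGroup.mk' N s) = 1 := Nat.eq_one_of_dvd_coprimes h3 h1 h2
  exact (QuotientGroup.eq_one_iff s).mp (orderOf_eq_one_iff.mp h4)

/-- A faithful two-transitive group with simple point stabiliser, of degree not a prime power,
is simple. -/
theorem isSimpleGroup_of_stabilizer [Finite α] [FaithfulSMul G α] [Nontrivial G]
    (h2 : IsMultiplyPretransitive G α 2) (a : α) (hsimple : IsSimpleGroup (stabilizer G a))
    (hn : ¬ IsPrimePow (Nat.card α)) (hn1 : 1 < Nat.card α) : IsSimpleGroup G := by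
  haveI : IsPreprimitive G α := isPreprimitive_of_is_two_pretransitive h2
  haveI : Nonempty α := ⟨a⟩
  refine ⟨fun N hN => ?_⟩
  rcases eq_or_ne N ⊥ with h | h
  · exact Or.inl h
  haveI := hN
  haveI := isPretransitive_of_normal_ne_bot (α := α) h
  rcases hsimple.eq_bot_or_eq_top_of_normal (N.subgroupOf (stabilizer G a))
      inferInstance with hb | ht
  · exfalso
    have hfix : ∀ m ∈ N, m • a = a → m = 1 := by
      intro m hm hma
      have : (⟨m, hma⟩ : stabilizer G a) ∈ (⊥ : Subgroup (stabilizer G a)) :=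
        hb ▸ Subgroup.mem_subgroupOf.mpr hm
      simpa using congrArg Subtype.val (Subgroup.mem_bot.mp this)
    have hcard : Nat.card N = Nat.card α := by
      refine Nat.card_eq_of_bijective (fun m : N => (m : G) • a) ⟨?_, ?_⟩
      · intro m₁ m₂ he
        have := hfix _ (N.mul_mem (N.inv_mem m₂.2) m₁.2)
          (by simp only [mul_smul]; rw [show (m₁ : G) • a = (m₂ : G) • a from he, inv_smul_smul])
        exact Subtype.ext (inv_mul_eq_one.mp this).symm
      · intro x
        obtain ⟨m, hm⟩ := exists_smul_eq N a x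
        exact ⟨m, hm⟩
    have hsame : ∀ x y : N, x ≠ 1 → y ≠ 1 → orderOf x = orderOf y := by
      intro x y hx hy
      have hxa : (x : G) • a ≠ a := fun e => hx (Subtype.ext (hfix _ x.2 e))
      have hya : (y : G) • a ≠ a := fun e => hy (Subtype.ext (hfix _ y.2 e))
      obtain ⟨g, hga, hgx⟩ := is_two_pretransitive_iff.mp h2 hxa.symm hya.symm
      have key : g * x * g⁻¹ = y := by
        have hmem : (y : G)⁻¹ * (g * x * g⁻¹) ∈ N :=
          N.mul_mem (N.inv_mem y.2) (hN.conj_mem _ x.2 g)
        have hia : g⁻¹ • a = a := inv_smul_eq_iff.mpr hga.symm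
        have := hfix _ hmem (by simp only [mul_smul, hia, hgx, inv_smul_smul])
        exact (inv_mul_eq_one.mp this).symm
      rw [← Subgroup.orderOf_coe x, ← Subgroup.orderOf_coe y, ← key]
      exact SemiconjBy.orderOf_eq g (show g * (x : G) = (g * x * g⁻¹) * g by group)
    obtain ⟨q, hq, hqd⟩ := Nat.exists_prime_and_dvd (n := Nat.card N) (by omega)
    haveI : Fact q.Prime := ⟨hq⟩
    obtain ⟨x, hx⟩ := exists_prime_orderOf_dvd_card' (G := N) q hqd
    have hx1 : x ≠ 1 := fun e => hq.one_lt.ne' (by rw [← hx, e, orderOf_one])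
    have hpg : IsPGroup q N := fun y => by
      refine ⟨1, ?_⟩
      rcases eq_or_ne y 1 with rfl | hy
      · simp
      · rw [pow_one, ← hx, hsame x y hx1 hy, pow_orderOf_eq_one]
    obtain ⟨k, hk⟩ := IsPGroup.iff_card.mp hpg
    refine hn ⟨q, k, hq.prime, Nat.pos_of_ne_zero ?_, hcard ▸ hk.symm⟩
    rintro rfl
    rw [hcard, pow_zero] at hk
    omega
  · refine Or.inr (eq_top_iff.mpr fun g _ => ?_)
    obtain ⟨m, hm⟩ := exists_smul_eq N a (g • a)
    have hs : (m : G)⁻¹ * g ∈ stabilizer G a := by
      rw [mem_stabilizer_iff, mul_smul, ← hm]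
      exact inv_smul_smul (m : G) a
    have : (⟨_, hs⟩ : stabilizer G a) ∈ N.subgroupOf (stabilizer G a) := ht ▸ Subgroup.mem_top _
    simpa using N.mul_mem m.2 (Subgroup.mem_subgroupOf.mp this)

end Cfsg.Agent.Lib.Compute
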