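import Cfsg.Agent.Lib.Compute.Cert
import Cfsg.Agent.Lib.Compute.Simple

/-!
# Consequences of certificates: straight-line programs, transitivity, simplicity
-/

namespace Cfsg.Agent.Lib.Compute

open Equiv MulAction

variable {n : ℕ}

/-! ### straight-line programs -/

/-- Check one step `(r, a, b, isInv)` against the list `full`. -/
def slpStep (n : ℕ) (full : List ℕ) (pos : ℕ) (st : ℕ × ℕ × ℕ × Bool) : Bool :=
  match full[st.2.1]?, full[st.2.2.1]? with
  | some A, some B => decide (st.2.1 < pos) && decide (st.2.2.1 < pos) &&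
      (List.range n).all fun i =>
        bif st.2.2.2 then app st.1 (app A i) == i else app st.1 i == app A (app B i)
  | _, _ => false

/-- The list of all elements of a straight-line program. -/
def slpFull (base : List ℕ) (steps : List (ℕ × ℕ × ℕ × Bool)) : List ℕ :=
  base ++ steps.map fun s => s.1

/-- `g.1` is checked to be a permutation of exponent dividing `p`. -/
def powOk (n p : ℕ) (P : ℕ) : Bool :=
  (List.range n).all fun i => decide (app P i < n) && ((app P)^[p] i == i)

/-- All steps of a straight-line program are right. -/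
def slpOk (n : ℕ) (base : List ℕ) (steps : List (ℕ × ℕ × ℕ × Bool)) : Bool :=
  (List.range steps.length).all fun k =>
    match steps[k]? with
    | some st => slpStep n (slpFull base steps) (base.length + k) st
    | none => false

/-- `P` packs a permutation of `Fin n`. -/
def Valid (n P : ℕ) : Prop := ∃ σ : Perm (Fin n), Repr σ (app P)

theorem Valid.repr {P : ℕ} (h : Valid n P) : Repr (toPerm n P) (app P) := by
  obtain ⟨σ, hσ⟩ := h
  rwa [repr_toPerm_of_repr hσ]

theorem valid_of_genOk {g : ℕ × ℕ} (h : genOk n g = true) : Valid n g.1 :=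
  ⟨_, repr_toPerm_of_genOk h⟩

theorem valid_of_powOk {p P : ℕ} (hp : 0 < p) (h : powOk n p P = true) :
    Valid n P ∧ toPerm n P ^ p = 1 := by
  simp only [powOk, List.all_eq_true, List.mem_range, Bool.and_eq_true, decide_eq_true_eq,
    beq_iff_eq] at h
  obtain ⟨q, rfl⟩ : ∃ q, p = q + 1 := ⟨p - 1, by omega⟩
  have hinj : Function.Injective (fun i : Fin n => (⟨app P i, (h i i.isLt).1⟩ : Fin n)) := by
    intro a b hab
    have e : app P a = app P b := congrArg Fin.val hab
    have := congrArg (app P)^[q] e
    rw [← Function.iterate_succ_apply, ← Function.iterate_succ_apply, (h a a.isLt).2,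
      (h b b.isLt).2] at this
    exact Fin.ext this
  have hv : Valid n P := ⟨Equiv.ofBijective _ (Finite.injective_iff_bijective.mp hinj), fun i => rfl⟩
  refine ⟨hv, ?_⟩
  have hk : ∀ k, Repr (toPerm n P ^ k) ((app P)^[k]) := by
    intro k
    induction k with
    | zero => exact fun i => rfl
    | succ k ih =>
      rw [pow_succ, Function.iterate_succ]
      exact ih.mul hv.repr
  exact (hk _).eq Repr.one fun i hi => (h i hi).2

theorem slp_spec {base : List ℕ} {steps : List (ℕ × ℕ × ℕ × Bool)}
    (hb : ∀ b ∈ base, Valid n b) (h : slpOk n base steps = true) :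
    ∀ P ∈ slpFull base steps,
      Valid n P ∧ toPerm n P ∈ Subgroup.closure (toPerm n '' {b | b ∈ base}) := by
  suffices ∀ i P, (slpFull base steps)[i]? = some P →
      Valid n P ∧ toPerm n P ∈ Subgroup.closure (toPerm n '' {b | b ∈ base}) by
    intro P hP
    obtain ⟨i, hi, rfl⟩ := List.getElem_of_mem hP
    exact this i _ (List.getElem?_eq_getElem hi)
  intro i
  induction i using Nat.strong_induction_on with
  | _ i ih =>
    intro P hP
    by_cases hi : i < base.length
    · rw [slpFull, List.getElem?_append_left hi] at hP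
      have hm := List.mem_of_getElem? hP
      exact ⟨hb P hm, Subgroup.subset_closure ⟨P, hm, rfl⟩⟩
    · rw [slpFull, List.getElem?_append_right (by omega), List.getElem?_map,
        Option.map_eq_some_iff] at hP
      obtain ⟨st, hst, rfl⟩ := hP
      obtain ⟨hlt, -⟩ := List.getElem?_eq_some_iff.mp hst
      have h0 := List.all_eq_true.mp h _ (List.mem_range.mpr hlt)
      simp only [hst, slpStep] at h0
      cases hA : (slpFull base steps)[st.2.1]? with
      | none => simp [hA] at h0
      | some A =>
        cases hB : (slpFull base steps)[st.2.2.1]? with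
        | none => simp [hB] at h0
        | some B =>
          simp only [hA, hB, Bool.and_eq_true, decide_eq_true_eq, List.all_eq_true,
            List.mem_range] at h0
          obtain ⟨⟨ha, hb'⟩, hp⟩ := h0
          have e : base.length + (i - base.length) = i := by omega
          rw [e] at ha hb'
          obtain ⟨hAv, hAm⟩ := ih _ ha A hA
          obtain ⟨hBv, hBm⟩ := ih _ hb' B hB
          cases hinv : st.2.2.2 with
          | false =>
            simp only [hinv, cond_false, beq_iff_eq] at hp
            have hr : Repr (toPerm n A * toPerm n B) (app st.1) := fun j => by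
              rw [(hAv.repr.mul hBv.repr) j, hp j j.isLt]
            exact ⟨⟨_, hr⟩, repr_toPerm_of_repr hr ▸ mul_mem hAm hBm⟩
          | true =>
            simp only [hinv, cond_true, beq_iff_eq] at hp
            have hr : Repr (toPerm n A)⁻¹ (app st.1) := fun j => by
              conv_rhs => rw [show (j : ℕ) = ((toPerm n A ((toPerm n A)⁻¹ j) : Fin n) : ℕ) by simp]
              rw [hAv.repr, hp _ ((toPerm n A)⁻¹ j).isLt]
            exact ⟨⟨_, hr⟩, repr_toPerm_of_repr hr ▸ inv_mem hAm⟩

/-- The first-level generators occur in the straight-line program. -/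
def slpCovers (base : List ℕ) (steps : List (ℕ × ℕ × ℕ × Bool)) : List Lvl → Bool
  | [] => true
  | L :: _ => L.gens.all fun g => (slpFull base steps).contains g.1

theorem grp_le_closure {base : List ℕ} {steps : List (ℕ × ℕ × ℕ × Bool)} {c : List Lvl}
    (hb : ∀ b ∈ base, Valid n b) (h : slpOk n base steps = true)
    (hcov : slpCovers base steps c = true) :
    grp n c ≤ Subgroup.closure (toPerm n '' {b | b ∈ base}) := by
  cases c with
  | nil => simp [grp]
  | cons L rest =>
    refine (Subgroup.closure_le _).mpr ?_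
    rintro _ ⟨g, hg, rfl⟩
    have := List.all_eq_true.mp hcov g hg
    exact (slp_spec hb h _ (List.contains_iff_mem.mp this)).2

/-! ### action of a certified group on the first orbit -/

/-- Every point of the first orbit other than the base point lies in the second orbit. -/
def secondFull : List Lvl → Bool
  | L :: L' :: _ => (orbit L).all fun q => q == L.base || (orbit L').contains q
  | _ => false

/-- All the base points lie in the first orbit. -/
def basesInOrbit : List Lvl → Bool
  | [] => true
  | L :: rest => (L :: rest).all fun M => (orbit L).contains M.base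

theorem eq_one_of_fix_bases : ∀ {c : List Lvl}, chk n c = true → ∀ {σ : Perm (Fin n)},
    σ ∈ grp n c → (∀ L ∈ c, ∀ b : Fin n, (b : ℕ) = L.base → σ b = b) → σ = 1 := by
  intro c
  induction c with
  | nil => intro _ σ hσ _; simpa [grp] using hσ
  | cons L rest ih =>
    intro h σ hσ hfix
    have hb : L.base < n := by
      simp only [chk, Bool.and_eq_true] at h
      exact (lvlOk_iff h.1).1
    have := (mem_grp_rest_iff h ⟨L.base, hb⟩ rfl σ).mpr
      ⟨hσ, hfix L List.mem_cons_self _ rfl⟩
    simp only [chk, Bool.and_eq_true] at h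
    exact ih h.2 this fun M hM => hfix M (List.mem_cons_of_mem _ hM)

theorem card_orbit_eq {L : Lvl} {rest : List Lvl} (h : chk n (L :: rest) = true) (b : Fin n)
    (hb : (b : ℕ) = L.base) :
    Nat.card (MulAction.orbit (grp n (L :: rest)) b) = L.trans.length + 1 := by
  have hd : (orbit L).Nodup := by
    have h' := h
    simp only [chk, Bool.and_eq_true] at h'
    exact (lvlOk_iff h'.1).2.2.2.1
  have hlt : ∀ q ∈ orbit L, q < n := by
    intro q hq
    obtain ⟨i, hi, rfl⟩ := List.getElem_of_mem hq
    have hi' : i ≤ L.trans.length := by simp [orbit] at hi; omega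
    have h' := h
    simp only [chk, Bool.and_eq_true] at h'
    obtain ⟨-, hg, ht, -⟩ := lvlOk_iff h'.1
    rw [← tfun_base hi', ← hb, ← (trans_spec (rest := rest) hg ht i).1 b]
    exact Fin.isLt _
  let f : MulAction.orbit (grp n (L :: rest)) b → {q // q ∈ (orbit L).toFinset} := fun x =>
    ⟨((x : Fin n) : ℕ), by
      obtain ⟨⟨σ, hσ⟩, he⟩ := x.2
      exact List.mem_toFinset.mpr ((mem_orbit_iff h b _ hb).mp ⟨σ, hσ, he⟩)⟩
  have hf : Function.Bijective f := by
    constructor
    · intro x y e
      exact Subtype.ext (Fin.ext (congrArg Subtype.val e))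
    · rintro ⟨q, hq⟩
      rw [List.mem_toFinset] at hq
      obtain ⟨σ, hσ, he⟩ := (mem_orbit_iff h b ⟨q, hlt q hq⟩ hb).mpr hq
      exact ⟨⟨⟨q, hlt q hq⟩, ⟨σ, hσ⟩, he⟩, rfl⟩
  rw [Nat.card_eq_of_bijective f hf, Nat.card_eq_fintype_card, Fintype.card_coe,
    List.toFinset_card_of_nodup hd]
  simp [orbit]

theorem faithful_on_orbit {L : Lvl} {rest : List Lvl} (h : chk n (L :: rest) = true) (b : Fin n)
    (hb : (b : ℕ) = L.base) (hbi : basesInOrbit (L :: rest) = true) :
    FaithfulSMul (grp n (L :: rest)) (MulAction.orbit (grp n (L :: rest)) b) := by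
  refine ⟨fun {σ τ} he => ?_⟩
  refine inv_mul_eq_one.mp (Subtype.ext (eq_one_of_fix_bases h (τ⁻¹ * σ).2 fun M hM c hc => ?_)) |>.symm
  have hcm : (c : ℕ) ∈ orbit L := by
    rw [hc]
    exact List.contains_iff_mem.mp (List.all_eq_true.mp hbi M hM)
  obtain ⟨ρ, hρ, hρc⟩ := (mem_orbit_iff h b c hb).mpr hcm
  have h1 := he ⟨c, ⟨ρ, hρ⟩, hρc⟩
  have h2 : σ • c = τ • c := congrArg Subtype.val h1
  show ((τ⁻¹ * σ : grp n (L :: rest)) : Perm (Fin n)) c = c
  have h3 : (τ⁻¹ * σ) • c = c := by rw [mul_smul, h2, inv_smul_smul]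
  exact h3

theorem two_pretransitive_on_orbit {L L' : Lvl} {rest : List Lvl}
    (h : chk n (L :: L' :: rest) = true) (b : Fin n) (hb : (b : ℕ) = L.base)
    (hs : secondFull (L :: L' :: rest) = true) :
    IsMultiplyPretransitive (grp n (L :: L' :: rest))
      (MulAction.orbit (grp n (L :: L' :: rest)) b) 2 := by
  have h' := h
  simp only [chk, Bool.and_eq_true] at h'
  have hch : chk n (L' :: rest) = true := by simpa [chk] using h'.2
  have hb' : L'.base < n := (lvlOk_iff h'.2.1).1
  have hle := grp_rest_le h'.1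
  -- every pair of distinct orbit points is the image of the two base points
  have key : ∀ a c : MulAction.orbit (grp n (L :: L' :: rest)) b, a ≠ c →
      ∃ g : grp n (L :: L' :: rest), g • b = (a : Fin n) ∧ g • (⟨L'.base, hb'⟩ : Fin n) = c := by
    intro a c hac
    obtain ⟨g, hg⟩ := a.2
    have hg : g • b = (a : Fin n) := hg
    obtain ⟨g', hg'⟩ := c.2
    have hg' : g' • b = (c : Fin n) := hg'
    have hne : (g⁻¹ * g') • b ≠ b := by
      intro e
      rw [mul_smul, inv_smul_eq_iff, hg, hg'] at e
      exact hac (Subtype.ext e.symm)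
    have hm : (((g⁻¹ * g') • b : Fin n) : ℕ) ∈ orbit L :=
      (mem_orbit_iff h b _ hb).mp ⟨_, (g⁻¹ * g').2, rfl⟩
    have := List.all_eq_true.mp hs _ hm
    rw [Bool.or_eq_true, beq_iff_eq] at this
    rcases this with e | e
    · exact absurd (Fin.ext (by rw [e, hb])) hne
    · obtain ⟨τ, hτ, hτc⟩ :=
        (mem_orbit_iff hch ⟨L'.base, hb'⟩ ((g⁻¹ * g') • b) rfl).mpr (List.contains_iff_mem.mp e)
      refine ⟨g * ⟨τ, hle hτ⟩, ?_, ?_⟩
      · rw [mul_smul]
        have hf : (⟨τ, hle hτ⟩ : grp n (L :: L' :: rest)) • b = b :=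
          grp_rest_fixes h'.1 hch b hb hτ
        rw [hf, hg]
      · rw [mul_smul]
        have hf : (⟨τ, hle hτ⟩ : grp n (L :: L' :: rest)) • (⟨L'.base, hb'⟩ : Fin n)
            = (g⁻¹ * g') • b := hτc
        rw [hf, mul_smul, smul_inv_smul, hg']
  rw [is_two_pretransitive_iff]
  intro a c a' c' hac hac'
  obtain ⟨g, hga, hgc⟩ := key a c hac
  obtain ⟨g', hga', hgc'⟩ := key a' c' hac'
  refine ⟨g' * g⁻¹, Subtype.ext ?_, Subtype.ext ?_⟩
  · show (g' * g⁻¹) • (a : Fin n) = a'
    rw [mul_smul, ← hga, inv_smul_smul, hga']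
  · show (g' * g⁻¹) • (c : Fin n) = c'
    rw [mul_smul, ← hgc, inv_smul_smul, hgc']

theorem nontrivial_grp {L : Lvl} {rest : List Lvl} (h : chk n (L :: rest) = true)
    (ht : 0 < L.trans.length) : Nontrivial (grp n (L :: rest)) := by
  refine Finite.one_lt_card_iff_nontrivial.mp ?_
  rw [card_grp h, certOrder]
  have h' := h
  simp only [chk, Bool.and_eq_true] at h'
  have hpos : 0 < certOrder rest := by rw [← card_grp h'.2]; exact Nat.card_pos
  calc 1 < L.trans.length + 1 := by omega
    _ ≤ (L.trans.length + 1) * certOrder rest := Nat.le_mul_of_pos_right _ hpos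

/-- **Simplicity of a certified doubly transitive group generated by `p`-elements**, where the
first orbit length carries the whole `p`-part of the order. -/
theorem isSimpleGroup_grp_of_pElements {L L' : Lvl} {rest : List Lvl} {p a : ℕ} {base : List ℕ}
    {steps : List (ℕ × ℕ × ℕ × Bool)} (h : chk n (L :: L' :: rest) = true) (hp : p.Prime)
    (hbi : basesInOrbit (L :: L' :: rest) = true) (hs : secondFull (L :: L' :: rest) = true)
    (ht : 0 < L.trans.length) (hdvd : p ^ a ∣ L.trans.length + 1)
    (hord : ¬ p ^ (a + 1) ∣ certOrder (L :: L' :: rest))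
    (hpow : base.all (powOk n p) = true) (hslp : slpOk n base steps = true)
    (hcov : slpCovers base steps (L :: L' :: rest) = true)
    (hmem : ∀ b ∈ base, toPerm n b ∈ grp n (L :: L' :: rest)) :
    IsSimpleGroup (grp n (L :: L' :: rest)) := by
  have hb : L.base < n := by
    have h' := h
    simp only [chk, Bool.and_eq_true] at h'
    exact (lvlOk_iff h'.1).1
  let b : Fin n := ⟨L.base, hb⟩
  let G := grp n (L :: L' :: rest)
  haveI := faithful_on_orbit h b rfl hbi
  haveI := isPreprimitive_of_is_two_pretransitive (two_pretransitive_on_orbit h b rfl hs)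
  haveI : Nonempty (MulAction.orbit G b) := ⟨⟨b, mem_orbit_self b⟩⟩
  haveI := nontrivial_grp h ht
  refine isSimpleGroup_of_pElements (α := MulAction.orbit G b) hp (a := a)
    (by rw [card_orbit_eq h b rfl]; exact hdvd) (by rw [card_grp h]; exact hord)
    (S := {g : G | ∃ x ∈ base, (g : Perm (Fin n)) = toPerm n x}) ?_ ?_
  · rintro g ⟨x, hx, hg⟩
    refine ⟨1, ?_⟩
    rw [pow_one, ← Subgroup.orderOf_coe g, hg]
    exact orderOf_dvd_of_pow_eq_one
      (valid_of_powOk hp.pos (List.all_eq_true.mp hpow x hx)).2
  · have hle := grp_le_closure (fun x hx => (valid_of_powOk hp.pos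
      (List.all_eq_true.mp hpow x hx)).1) hslp hcov
    have himg : toPerm n '' {x | x ∈ base}
        = G.subtype '' {g : G | ∃ x ∈ base, (g : Perm (Fin n)) = toPerm n x} := by
      ext σ
      constructor
      · rintro ⟨x, hx, rfl⟩
        exact ⟨⟨_, hmem x hx⟩, ⟨x, hx, rfl⟩, rfl⟩
      · rintro ⟨g, ⟨x, hx, hg⟩, rfl⟩
        exact ⟨x, hx, hg.symm⟩
    rw [himg, ← MonoidHom.map_closure] at hle
    refine eq_top_iff.mpr fun g _ => ?_
    obtain ⟨g', hg', he⟩ := hle g.2
    rwa [← G.subtype_injective he]

/-! ### membership -/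

/-- `js` is a witness that the packed permutation `P` is the product of transversal elements. -/
def memOk (n : ℕ) (c : List Lvl) (P : ℕ) (js : List ℕ) : Bool :=
  (List.range n).all fun i => app P i == sift c js i

theorem mem_grp_of_memOk {c : List Lvl} (h : chk n c = true) {P : ℕ} {js : List ℕ}
    (hm : memOk n c P js = true) : Valid n P ∧ toPerm n P ∈ grp n c := by
  obtain ⟨hr, hmem⟩ := sift_spec h js
  have hr' : Repr (siftPerm n c js) (app P) := fun i => by
    rw [hr i]
    have := List.all_eq_true.mp hm i (List.mem_range.mpr i.isLt)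
    exact (beq_iff_eq.mp this).symm
  exact ⟨⟨_, hr'⟩, repr_toPerm_of_repr hr' ▸ hmem⟩

end Cfsg.Agent.Lib.Compute
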