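import Cfsg.Agent.Lib.Compute.MathieuDodec
import Cfsg.Agent.Lib.Fusion.GroupSystem
import Cfsg.Agent.Lib.Solvable.Nilpotent

/-!
# Simple fusion systems from certificates

If a Sylow subgroup `S` of a finite group is its own normaliser and the only non-trivial subgroup
of `S` closed under fusion is `S`, then the fusion system on `S` is simple: a normal subsystem
lives on `S`, and by the Frattini condition it contains every map.  Both conditions are decided
here from certificates for a group of permutations.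
-/

set_option autoImplicit false

namespace Cfsg.Agent.Lib.Compute

open Cfsg Equiv
open Cfsg.Agent.Lib.Fusion (group_isSaturated autGroup_group mem_autInducedBy)

section Criterion

variable {G : Type*} [Group G]

/-- Every non-trivial subgroup of `S` closed under the fusion of `G` is `S`. -/
def FusionClosedTrivial (S : Subgroup G) : Prop :=
  ∀ T : Subgroup G, T ≤ S → T ≠ ⊥ → (∀ x ∈ T, ∀ g : G, g * x * g⁻¹ ∈ S → g * x * g⁻¹ ∈ T) → T = S

theorem stronglyClosed_closed {S T : Subgroup G} (h : (groupFusionSystem S).StronglyClosed T) :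
    ∀ x ∈ T, ∀ g : G, g * x * g⁻¹ ∈ S → g * x * g⁻¹ ∈ T := by
  intro x hx g hg
  have hle : Subgroup.zpowers x ≤ T := (Subgroup.zpowers_le).mpr hx
  have hmem : conjHom (Subgroup.zpowers x) g ∈ (groupFusionSystem S).Hom (Subgroup.zpowers x) := by
    refine ⟨hle.trans h.1, fun y => ?_, g, fun y => rfl⟩
    obtain ⟨k, hk⟩ := Subgroup.mem_zpowers_iff.mp y.2
    show g * (y : G) * g⁻¹ ∈ S
    rw [← hk, ← conj_zpow]
    exact zpow_mem hg k
  exact h.2 _ hle _ hmem ⟨x, Subgroup.mem_zpowers x⟩

/-- A fusion system on a self-normalising Sylow subgroup without proper closed subgroups is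
simple. -/
theorem isSimple_of_closed [Finite G] {p : ℕ} [Fact p.Prime] (S : Sylow p G)
    (hS : (S : Subgroup G) ≠ ⊥) (hN : Subgroup.normalizer ((S : Subgroup G) : Set G) ≤ S)
    (hcl : FusionClosedTrivial (S : Subgroup G)) :
    (groupFusionSystem (S : Subgroup G)).IsSimple p := by
  refine ⟨group_isSaturated S, hS, fun T E hE => ?_⟩
  obtain ⟨⟨-, -, hsub, hT, -, hfr⟩, -⟩ := hE
  by_cases hT0 : T = ⊥
  · exact Or.inl hT0
  have hTS : T = S := hcl T hT.1 hT0 (stronglyClosed_closed hT)
  subst hTS
  refine Or.inr ⟨rfl, fun P => Set.Subset.antisymm (hsub P) fun φ hφ => ?_⟩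
  obtain ⟨α, hα, φ₀, hφ₀, h0⟩ := hfr P hφ.1 φ hφ
  rw [autGroup_group le_rfl, mem_autInducedBy] at hα
  obtain ⟨g, -, hg⟩ := hα
  have hgS : g ∈ (S : Subgroup G) := by
    refine hN (Subgroup.mem_normalizer_iff.mpr fun x => ⟨fun hx => ?_, fun hx => ?_⟩)
    · rw [← hg ⟨x, hx⟩]
      exact (α ⟨x, hx⟩).2
    · obtain ⟨y, hy⟩ := α.surjective ⟨_, hx⟩
      have e : g * (y : G) * g⁻¹ = g * x * g⁻¹ := by rw [← hg y, hy]
      rw [← mul_left_cancel (mul_right_cancel e)]
      exact y.2
  have hr : φ₀.range ≤ S := by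
    rintro _ ⟨x, rfl⟩
    exact (E.le_of_mem hφ₀).2 x
  have hc := E.comp_mem hφ₀ (E.conj_mem hr hgS) fun x => ⟨x, rfl⟩
  convert hc using 1
  ext x
  rw [h0 x ((E.le_of_mem hφ₀).2 x), hg]
  rfl

theorem normalizer_le_of_conj [Finite G] {S : Subgroup G}
    (hN : Subgroup.normalizer (S : Set G) ≤ S) (g : G) :
    Subgroup.normalizer ((S.map (MulAut.conj g).toMonoidHom : Subgroup G) : Set G) ≤
      S.map (MulAut.conj g).toMonoidHom := by
  rw [← Subgroup.map_equiv_normalizer_eq S (MulAut.conj g)]
  exact Subgroup.map_mono hN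

theorem closedTrivial_map {H : Type*} [Group H] {S : Subgroup G} (h : FusionClosedTrivial S)
    (f : G ≃* H) : FusionClosedTrivial (S.map f.toMonoidHom) := by
  intro T hTS hT0 hcl
  have e : T = (T.comap f.toMonoidHom).map f.toMonoidHom :=
    (Subgroup.map_comap_eq_self_of_surjective f.surjective T).symm
  rw [e, h (T.comap f.toMonoidHom) ?_ ?_ ?_]
  · intro x hx
    obtain ⟨y, hy, hyx⟩ := hTS hx
    rwa [← f.injective hyx]
  · intro h0
    apply hT0
    rw [e, h0, Subgroup.map_bot]
  · intro x hx g hg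
    show f (g * x * g⁻¹) ∈ T
    rw [map_mul, map_mul, map_inv]
    exact hcl _ hx (f g) ⟨g * x * g⁻¹, hg, by simp⟩

/-- Transfer of both conditions to every Sylow subgroup of an isomorphic group. -/
theorem isSimple_of_equiv {H : Type*} [Group H] [Finite H] {p : ℕ} [Fact p.Prime] (e : G ≃* H)
    (S₀ : Sylow p G) (hS : (S₀ : Subgroup G) ≠ ⊥)
    (hN : Subgroup.normalizer ((S₀ : Subgroup G) : Set G) ≤ S₀)
    (hcl : FusionClosedTrivial (S₀ : Subgroup G)) (S : Sylow p H) :
    (groupFusionSystem (S : Subgroup H)).IsSimple p := by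
  haveI : Finite G := Finite.of_equiv H e.symm.toEquiv
  obtain ⟨h, hh⟩ := MulAction.exists_smul_eq H
    (S₀.mapSurjective (f := e.toMonoidHom) e.surjective) S
  have key : (S : Subgroup H) =
      ((S₀ : Subgroup G).map e.toMonoidHom).map (MulAut.conj h).toMonoidHom := by
    rw [← hh]
    rfl
  refine isSimple_of_closed S ?_ ?_ ?_
  · rw [key, Ne, Subgroup.map_eq_bot_iff_of_injective _ (MulAut.conj h).injective,
      Subgroup.map_eq_bot_iff_of_injective _ e.injective]
    exact hS
  · rw [key]
    refine normalizer_le_of_conj ?_ h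
    rw [← Subgroup.map_equiv_normalizer_eq (S₀ : Subgroup G) e]
    exact Subgroup.map_mono hN
  · rw [key]
    exact closedTrivial_map (closedTrivial_map hcl e) (MulAut.conj h)

end Criterion

/-! ### certificates -/

variable {n : ℕ}

/-- `M` related `i` and `j`: bit `j` of row `i`. -/
def rowBit (M : List ℕ) (i j : ℕ) : Bool := (M.getD i 0).testBit j

/-- Row `i` of the relation "`f i = j` for some `f` in the list". -/
def rowOf (fs : List (ℕ → ℕ)) (i : ℕ) : ℕ := fs.foldl (fun m f => m ||| 1 <<< f i) 0

theorem testBit_foldl_lor {β : Type*} (l : List β) (f : β → ℕ) (m j : ℕ) :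
    (l.foldl (fun m a => m ||| 1 <<< f a) m).testBit j =
      (m.testBit j || l.any fun a => f a == j) := by
  induction l generalizing m with
  | nil => simp
  | cons a l ih =>
    rw [List.foldl_cons, ih, testBit_lor_one_shiftLeft, List.any_cons, Bool.or_assoc]
    congr 2

/-- The relation of the `k`-th powers of the elements of a certified group. -/
def powRows (n : ℕ) (cS : List Lvl) (k : ℕ) : List ℕ :=
  (List.range n).map fun i => rowOf ((idxLists cS).map fun js => (sift cS js)^[k]) i

theorem repr_pow {σ : Perm (Fin n)} {f : ℕ → ℕ} (h : Repr σ f) : ∀ k, Repr (σ ^ k) (f^[k])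
  | 0 => fun _ => rfl
  | k + 1 => by
    rw [pow_succ, Function.iterate_succ]
    exact (repr_pow h k).mul h

theorem rowBit_powRows {cS : List Lvl} (hS : chk n cS = true) (k : ℕ) (i j : Fin n) :
    rowBit (powRows n cS k) i j = true ↔ ∃ σ ∈ grp n cS, (σ ^ k) i = j := by
  rw [rowBit, powRows, List.getD_eq_getElem _ _ (by simp), List.getElem_map,
    List.getElem_range, rowOf, testBit_foldl_lor, Nat.zero_testBit, Bool.false_or,
    List.any_eq_true]
  simp only [List.mem_map, beq_iff_eq]
  constructor
  · rintro ⟨f, ⟨js, -, rfl⟩, hf⟩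
    obtain ⟨hr, hm⟩ := sift_spec hS js
    exact ⟨_, hm, Fin.ext ((repr_pow hr k i).trans hf)⟩
  · rintro ⟨σ, hσ, hij⟩
    obtain ⟨js, hjs, rfl⟩ := exists_idx hS hσ
    refine ⟨_, ⟨js, hjs, rfl⟩, ?_⟩
    rw [← repr_pow (sift_spec hS js).1 k i, hij]

/-- Compatibility of a new pair with the pairs found so far. -/
def relOk (Ms : List (List ℕ)) (b y : ℕ) (done : List (ℕ × ℕ)) : Bool :=
  Ms.all fun M => (rowBit M b b == rowBit M y y) &&
    done.all fun d => (rowBit M d.1 b == rowBit M d.2 y) && (rowBit M b d.1 == rowBit M y d.2)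

/-- Candidates, as index lists of `c`, for the relation-preserving elements passing `leaf`. -/
def collect (Ms : List (List ℕ)) (leaf : (ℕ → ℕ) → Bool) :
    List Lvl → (ℕ → ℕ) → List (ℕ × ℕ) → List (List ℕ)
  | [], π, _ => bif leaf π then [[]] else []
  | L :: rest, π, done => (List.range (L.trans.length + 1)).flatMap fun q =>
      bif relOk Ms L.base (π (tfun L q L.base)) done then
        (collect Ms leaf rest (fun i => π (tfun L q i))
          ((L.base, π (tfun L q L.base)) :: done)).map (q :: ·)
      else []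

theorem collect_spec {Ms : List (List ℕ)} {leaf : (ℕ → ℕ) → Bool}
    (Q : Perm (Fin n) → Prop)
    (hQ : ∀ σ, Q σ → ∀ M ∈ Ms, ∀ i j : Fin n, rowBit M (σ i) (σ j) = rowBit M i j)
    (hleaf : ∀ σ π, Q σ → Repr σ π → leaf π = true) :
    ∀ {c : List Lvl}, chk n c = true → ∀ (π₀ : Perm (Fin n)) (π : ℕ → ℕ) (done : List (ℕ × ℕ)),
      Repr π₀ π → ∀ ρ ∈ grp n c, Q (π₀ * ρ) →
      (∀ d ∈ done, ∃ i : Fin n, (i : ℕ) = d.1 ∧ ((π₀ * ρ) i : ℕ) = d.2) →
      ∃ js ∈ collect Ms leaf c π done, ρ = siftPerm n c js := by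
  intro c
  induction c with
  | nil =>
    intro _ π₀ π done hπ ρ hρ hQρ _
    have hρ1 : ρ = 1 := by simpa [grp] using hρ
    subst hρ1
    rw [mul_one] at hQρ
    refine ⟨[], ?_, by simp [siftPerm]⟩
    simp [collect, hleaf _ _ hQρ hπ]
  | cons L rest ih =>
    intro hc π₀ π done hπ ρ hρ hQρ hdone
    obtain ⟨q, hq, τ, hτ, rfl⟩ := exists_decomp hc hρ
    have hc' := hc
    simp only [chk, Bool.and_eq_true] at hc'
    obtain ⟨hb, hg, ht, -, -, -⟩ := lvlOk_iff hc'.1
    let b : Fin n := ⟨L.base, hb⟩
    have hr : Repr (π₀ * tperm n L q) (fun i => π (tfun L q i)) :=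
      hπ.mul (trans_spec (rest := rest) hg ht q).1
    have himg : (((π₀ * (tperm n L q * τ)) b : Fin n) : ℕ) = π (tfun L q L.base) := by
      rw [← mul_assoc, Perm.mul_apply, grp_rest_fixes hc'.1 hc'.2 b rfl hτ, hr b]
    have hrel : relOk Ms L.base (π (tfun L q L.base)) done = true := by
      simp only [relOk, List.all_eq_true, Bool.and_eq_true, beq_iff_eq]
      intro M hM
      refine ⟨?_, fun d hd => ?_⟩
      · rw [← himg]
        exact (hQ _ hQρ M hM b b).symm
      · obtain ⟨i, hi, hi'⟩ := hdone d hd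
        rw [← himg, ← hi, ← hi']
        exact ⟨(hQ _ hQρ M hM i b).symm, (hQ _ hQρ M hM b i).symm⟩
    obtain ⟨js, hjs, rfl⟩ := ih hc'.2 (π₀ * tperm n L q) _
      ((L.base, π (tfun L q L.base)) :: done) hr τ hτ (by rwa [mul_assoc]) (by
        intro d hd
        rw [List.mem_cons] at hd
        rw [mul_assoc]
        rcases hd with rfl | hd
        · exact ⟨b, rfl, himg⟩
        · exact hdone d hd)
    refine ⟨q :: js, ?_, rfl⟩
    simp only [collect, List.mem_flatMap, List.mem_range]
    exact ⟨q, Nat.lt_succ_of_le hq, by rw [hrel, cond_true]; exact List.mem_map_of_mem hjs⟩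

/-- Is `π ∘ s ∘ π⁻¹` in the certified group?  `ρ` is the part of the product found so far. -/
def conjIn (n : ℕ) (π s : ℕ → ℕ) : List Lvl → (ℕ → ℕ) → Bool
  | [], ρ => (List.range n).all fun x => ρ (π x) == π (s x)
  | L :: rest, ρ =>
    match (List.range n).find? (fun x => π x == L.base) with
    | none => false
    | some x =>
      match (List.range (L.trans.length + 1)).find? (fun q => ρ (tfun L q L.base) == π (s x)) with
      | none => false
      | some q => conjIn n π s rest fun i => ρ (tfun L q i)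

theorem conjIn_spec {σ t : Perm (Fin n)} {π s : ℕ → ℕ} (hπ : Repr σ π) (hs : Repr t s) :
    ∀ {cS : List Lvl}, chk n cS = true → ∀ (ρ₀ : Perm (Fin n)) (ρ : ℕ → ℕ), Repr ρ₀ ρ →
      ∀ τ ∈ grp n cS, σ * t * σ⁻¹ = ρ₀ * τ → conjIn n π s cS ρ = true := by
  intro cS
  induction cS with
  | nil =>
    intro _ ρ₀ ρ hρ τ hτ he
    have hτ1 : τ = 1 := by simpa [grp] using hτ
    subst hτ1
    rw [mul_one] at he
    simp only [conjIn, List.all_eq_true, List.mem_range, beq_iff_eq]
    intro x hx
    have h2 := congrArg (fun u : Perm (Fin n) => ((u (σ ⟨x, hx⟩) : Fin n) : ℕ)) he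
    simp only [Perm.mul_apply, Perm.coe_inv, Equiv.symm_apply_apply] at h2
    rw [hρ, hπ, hπ, hs] at h2
    exact h2.symm
  | cons L rest ih =>
    intro hc ρ₀ ρ hρ τ hτ he
    obtain ⟨q, hq, υ, hυ, rfl⟩ := exists_decomp hc hτ
    have hc' := hc
    simp only [chk, Bool.and_eq_true] at hc'
    obtain ⟨hb, hg, ht, -, -, -⟩ := lvlOk_iff hc'.1
    let b : Fin n := ⟨L.base, hb⟩
    simp only [conjIn]
    have hx0 : π (σ⁻¹ b : Fin n) = L.base := by
      rw [← hπ, Perm.coe_inv, Equiv.apply_symm_apply]
    obtain ⟨x, hx⟩ := Option.isSome_iff_exists.mp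
      (List.find?_isSome (p := fun x => π x == L.base) (xs := List.range n) |>.mpr
        ⟨((σ⁻¹ b : Fin n) : ℕ), List.mem_range.mpr (σ⁻¹ b).isLt, by simpa using hx0⟩)
    rw [hx]
    have hxlt : x < n := List.mem_range.mp (List.mem_of_find?_eq_some hx)
    have hxb : σ ⟨x, hxlt⟩ = b := Fin.ext (by
      rw [hπ]; simpa using List.find?_some hx)
    have key : ρ (tfun L q L.base) = π (s x) := by
      have h2 := congrArg (fun u : Perm (Fin n) => ((u (σ ⟨x, hxlt⟩) : Fin n) : ℕ)) he
      simp only [Perm.mul_apply, Perm.coe_inv, Equiv.symm_apply_apply] at h2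
      rw [hπ, hs, hxb, grp_rest_fixes hc'.1 hc'.2 b rfl hυ, hρ,
        (trans_spec (rest := rest) hg ht q).1] at h2
      exact h2.symm
    obtain ⟨q', hq'⟩ := Option.isSome_iff_exists.mp
      (List.find?_isSome (p := fun q => ρ (tfun L q L.base) == π (s x))
        (xs := List.range (L.trans.length + 1)) |>.mpr
        ⟨q, List.mem_range.mpr (Nat.lt_succ_of_le hq), by simpa using key⟩)
    simp only [hq']
    have hqq : q' = q := by
      have e1 : ρ (tfun L q' L.base) = π (s x) := by simpa using List.find?_some hq'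
      have hq'le : q' ≤ L.trans.length :=
        Nat.lt_succ_iff.mp (List.mem_range.mp (List.mem_of_find?_eq_some hq'))
      have h1 := (trans_spec (rest := rest) hg ht q').1 b
      have h2 := (trans_spec (rest := rest) hg ht q).1 b
      have e2 : ρ₀ (tperm n L q' b) = ρ₀ (tperm n L q b) := Fin.ext (by
        rw [hρ, hρ, h1, h2, e1, key])
      have e3 : tfun L q' L.base = tfun L q L.base := by
        rw [← h1, ρ₀.injective e2, h2]
      rw [tfun_base hq'le, tfun_base hq] at e3
      obtain ⟨-, -, -, hd, -, -⟩ := lvlOk_iff hc'.1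
      exact (List.Nodup.getElem_inj_iff hd).mp e3
    subst hqq
    exact ih hc'.2 (ρ₀ * tperm n L q') _ (hρ.mul (trans_spec (rest := rest) hg ht q').1) υ hυ
      (by rw [he, mul_assoc])

/-- The test done at the leaves: `π` conjugates every generator of `cS` into it. -/
def normLeaf (n : ℕ) (cS : List Lvl) (π : ℕ → ℕ) : Bool :=
  match cS with
  | [] => true
  | L :: _ => L.gens.all fun g => conjIn n π (app g.1) cS fun i => i

/-- A step of the closure: a product of earlier elements (`false`), or the conjugate of an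
earlier one by an element of the big group (`true`). -/
def closeStep (n : ℕ) (c cS : List Lvl) (full : List (List ℕ)) (pos : ℕ)
    (st : List ℕ × ℕ × ℕ × Bool × List ℕ) : Bool :=
  decide (st.2.1 < pos) && decide (st.2.2.1 < pos) &&
    (List.range n).all fun i => bif st.2.2.2.1
      then sift cS st.1 (sift c st.2.2.2.2 i) ==
        sift c st.2.2.2.2 (sift cS (full.getD st.2.1 []) i)
      else sift cS st.1 i ==
        sift cS (full.getD st.2.1 []) (sift cS (full.getD st.2.2.1 []) i)

/-- All closure steps are right and the generators of `cS` are reached. -/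
def closeOk (n : ℕ) (c cS : List Lvl) (zjs : List ℕ)
    (steps : List (List ℕ × ℕ × ℕ × Bool × List ℕ)) : Bool :=
  let full := zjs :: steps.map fun s => s.1
  ((List.range steps.length).all fun k =>
    match steps[k]? with
    | some st => closeStep n c cS full (k + 1) st
    | none => false) &&
  match cS with
  | [] => true
  | L :: _ => L.gens.all fun g => full.any fun js =>
      (List.range n).all fun i => app g.1 i == sift cS js i

/-- The only elements commuting with the generators are the identity and `z`. -/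
def centreOk (n : ℕ) (cS : List Lvl) (zjs : List ℕ) : Bool :=
  match cS with
  | [] => true
  | L :: _ => (idxLists cS).all fun js =>
      (L.gens.any fun g => (List.range n).any fun i =>
        app g.1 (sift cS js i) != sift cS js (app g.1 i)) ||
      ((List.range n).all fun i => sift cS js i == i) ||
      ((List.range n).all fun i => sift cS js i == sift cS zjs i)

/-- Data identifying `cS` as a subgroup of `c`. -/
def subOk (n : ℕ) (c cS : List Lvl) (wit : List (List ℕ)) : Bool :=
  match cS with
  | [] => true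
  | L :: _ => L.gens.all fun g => wit.any fun js => memOk n c g.1 js

theorem grp_le_of_subOk {c cS : List Lvl} (hc : chk n c = true) {wit : List (List ℕ)}
    (h : subOk n c cS wit = true) : grp n cS ≤ grp n c := by
  cases cS with
  | nil => simp [grp]
  | cons L rest =>
    refine (Subgroup.closure_le _).mpr ?_
    rintro _ ⟨g, hg, rfl⟩
    simp only [subOk, List.all_eq_true, List.any_eq_true] at h
    obtain ⟨js, -, hjs⟩ := h g hg
    exact (mem_grp_of_memOk hc hjs).2

theorem closedTrivial_grp {c cS : List Lvl} (hc : chk n c = true) (hS : chk n cS = true)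
    {p : ℕ} [Fact p.Prime] (hp : IsPGroup p (grp n cS)) {zjs : List ℕ}
    {steps : List (List ℕ × ℕ × ℕ × Bool × List ℕ)}
    (hcl : closeOk n c cS zjs steps = true) (hz : centreOk n cS zjs = true)
    {T : Subgroup (Perm (Fin n))} (hT : T ≤ grp n cS) (hT0 : T ≠ ⊥)
    (h : ∀ x ∈ T, ∀ g ∈ grp n c, g * x * g⁻¹ ∈ grp n cS → g * x * g⁻¹ ∈ T) (hle : grp n cS ≤ grp n c) :
    T = grp n cS := by
  cases cS with
  | nil =>
    rw [show grp n ([] : List Lvl) = ⊥ from rfl] at hT
    exact absurd (le_bot_iff.mp hT) hT0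
  | cons L rest =>
  set S := grp n (L :: rest) with hSdef
  haveI hnormal : (T.subgroupOf S).Normal :=
    ⟨fun x hx g => Subgroup.mem_subgroupOf.mpr (h _ (Subgroup.mem_subgroupOf.mp hx) g (hle g.2)
      (mul_mem (mul_mem g.2 x.2) (inv_mem g.2)))⟩
  haveI : Nontrivial ↥(T.subgroupOf S) := by
    rw [Subgroup.nontrivial_iff_ne_bot, Ne, Subgroup.subgroupOf_eq_bot]
    intro hd
    exact hT0 ((disjoint_self.mp (hd.mono_right hT)))
  obtain ⟨x, hx, hx1⟩ : ∃ x ∈ T.subgroupOf S ⊓ Subgroup.center S, x ≠ 1 := by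
    by_contra hne
    push_neg at hne
    haveI := hp.isNilpotent
    apply Cfsg.Agent.Lib.Solvable.inf_center_ne_bot (N := T.subgroupOf S)
      ((Subgroup.nontrivial_iff_ne_bot _).mp ‹_›)
    rw [eq_bot_iff]
    exact fun x hx => hne x hx
  obtain ⟨hxT, hxC⟩ := Subgroup.mem_inf.mp hx
  have hxz : (x : Perm (Fin n)) = siftPerm n (L :: rest) zjs := by
    obtain ⟨js, hjs, hjx⟩ := exists_idx hS x.2
    simp only [centreOk, List.all_eq_true, Bool.or_eq_true, List.any_eq_true, List.mem_range,
      bne_iff_ne, beq_iff_eq] at hz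
    have hr : Repr (x : Perm (Fin n)) (sift (L :: rest) js) := hjx ▸ (sift_spec hS js).1
    rcases hz js hjs with (⟨g, hg, i, hi, hne⟩ | h1) | h2
    · exfalso
      apply hne
      obtain ⟨-, hgok, -⟩ := lvlOk_iff (by simp only [chk, Bool.and_eq_true] at hS; exact hS.1)
      have hgr := repr_toPerm_of_genOk (hgok g hg)
      have e := congrArg Subtype.val (Subgroup.mem_center_iff.mp hxC ⟨_, gen_mem hg⟩)
      have e' := congrArg (fun u : Perm (Fin n) => ((u ⟨i, hi⟩ : Fin n) : ℕ)) e
      simp only [Subgroup.coe_mul, Perm.mul_apply] at e'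
      rw [hgr, hr, hr, hgr] at e'
      exact e'
    · exact absurd (Subtype.ext (hr.eq Repr.one h1)) hx1
    · exact hr.eq (sift_spec hS zjs).1 h2
  have hzT : siftPerm n (L :: rest) zjs ∈ T := hxz ▸ Subgroup.mem_subgroupOf.mp hxT
  simp only [closeOk, Bool.and_eq_true, List.all_eq_true, List.any_eq_true, List.mem_range,
    beq_iff_eq] at hcl
  obtain ⟨hsteps, hgens⟩ := hcl
  set full := zjs :: steps.map fun s => s.1 with hfull
  have hall : ∀ k < full.length, siftPerm n (L :: rest) (full.getD k []) ∈ T := by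
    intro k
    induction k using Nat.strong_induction_on with
    | _ k ih =>
      intro hk
      cases k with
      | zero => simpa [hfull] using hzT
      | succ j =>
        have hj : j < steps.length := by simpa [hfull] using hk
        have h0 := hsteps j hj
        rw [List.getElem?_eq_getElem hj] at h0
        have hget : full.getD (j + 1) [] = (steps[j]).1 := by
          simp [hfull, List.getD_eq_getElem?_getD, hj]
        rw [hget]
        simp only [closeStep, Bool.and_eq_true, decide_eq_true_eq, List.all_eq_true,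
          List.mem_range] at h0
        obtain ⟨⟨ha, hb⟩, hp'⟩ := h0
        have hlen : ∀ m, m < j + 1 → m < full.length := fun m hm => by
          simp [hfull]; omega
        have hA := ih _ ha (hlen _ ha)
        cases hst : (steps[j]).2.2.2.1 with
        | false =>
          simp only [hst, cond_false, beq_iff_eq] at hp'
          rw [(sift_spec hS _).1.eq ((sift_spec hS _).1.mul (sift_spec hS _).1) hp']
          exact mul_mem hA (ih _ hb (hlen _ hb))
        | true =>
          simp only [hst, cond_true, beq_iff_eq] at hp'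
          have e := ((sift_spec hS (steps[j]).1).1.mul (sift_spec hc (steps[j]).2.2.2.2).1).eq
            ((sift_spec hc (steps[j]).2.2.2.2).1.mul (sift_spec hS _).1) hp'
          rw [eq_mul_inv_of_mul_eq e]
          exact h _ hA _ (sift_spec hc _).2 (eq_mul_inv_of_mul_eq e ▸ (sift_spec hS _).2)
  refine le_antisymm hT ((Subgroup.closure_le _).mpr ?_)
  rintro _ ⟨g, hg, rfl⟩
  simp only [SetLike.mem_coe]
  obtain ⟨js, hjs, he⟩ := hgens g hg
  obtain ⟨-, hgok, -⟩ := lvlOk_iff (by simp only [chk, Bool.and_eq_true] at hS; exact hS.1)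
  rw [(repr_toPerm_of_genOk (hgok g hg)).eq (sift_spec hS js).1 he]
  obtain ⟨k, hk, rfl⟩ := List.getElem_of_mem hjs
  have := hall k hk
  rwa [List.getD_eq_getElem _ _ hk] at this

theorem card_normalizer_le {c cS : List Lvl} (hc : chk n c = true) (hS : chk n cS = true)
    {Ms : List (List ℕ)} {ks : List ℕ} (hMs : Ms = ks.map (powRows n cS)) {m : ℕ}
    (hm : (collect Ms (normLeaf n cS) c (fun i => i) []).length ≤ m)
    {N : Subgroup (Perm (Fin n))} (hN : N ≤ grp n c)
    (hconj : ∀ g ∈ N, ∀ s ∈ grp n cS, g * s * g⁻¹ ∈ grp n cS) : Nat.card N ≤ m := by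
  classical
  have key : ∀ σ ∈ N, ∃ js ∈ collect Ms (normLeaf n cS) c (fun i => i) [],
      σ = siftPerm n c js := by
    intro σ hσ
    refine collect_spec (fun σ => σ ∈ N) ?_ ?_ hc 1 _ [] Repr.one σ (hN hσ)
      (by rwa [one_mul]) (fun d hd => absurd hd List.not_mem_nil)
    · intro σ hσ M hM i j
      subst hMs
      obtain ⟨k, -, rfl⟩ := List.mem_map.mp hM
      have step : ∀ τ ∈ N, ∀ a b : Fin n, rowBit (powRows n cS k) a b = true →
          rowBit (powRows n cS k) (τ a) (τ b) = true := by
        intro τ hτ a b hab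
        rw [rowBit_powRows hS] at hab ⊢
        obtain ⟨s, hs, hsab⟩ := hab
        refine ⟨τ * s * τ⁻¹, hconj τ hτ s hs, ?_⟩
        rw [conj_pow, Perm.mul_apply, Perm.mul_apply, Perm.coe_inv, Equiv.symm_apply_apply, hsab]
      rw [Bool.eq_iff_iff]
      refine ⟨fun h => ?_, step σ hσ i j⟩
      simpa using step _ (inv_mem hσ) _ _ h
    · intro σ π hσ hπ
      cases cS with
      | nil => rfl
      | cons L rest =>
        simp only [normLeaf, List.all_eq_true]
        intro g hg
        have hgok := (lvlOk_iff (by simp only [chk, Bool.and_eq_true] at hS; exact hS.1)).2.1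
        exact conjIn_spec hπ (repr_toPerm_of_genOk (hgok g hg)) hS 1 _ Repr.one _
          (hconj σ hσ _ (gen_mem hg)) (one_mul _).symm
  have hsub : (N : Set (Perm (Fin n))) ⊆
      ↑((collect Ms (normLeaf n cS) c (fun i => i) []).map (siftPerm n c)).toFinset := by
    intro σ hσ
    obtain ⟨js, hjs, rfl⟩ := key σ hσ
    simp only [List.coe_toFinset, Set.mem_setOf_eq, List.mem_map]
    exact ⟨js, hjs, rfl⟩
  calc Nat.card N = Set.ncard (N : Set (Perm (Fin n))) := Nat.card_coe_set_eq _
    _ ≤ Set.ncard (↑((collect Ms (normLeaf n cS) c (fun i => i) []).map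
          (siftPerm n c)).toFinset : Set (Perm (Fin n))) :=
        Set.ncard_le_ncard hsub (Finset.finite_toSet _)
    _ ≤ _ := by
        rw [Set.ncard_coe_finset]
        exact ((List.toFinset_card_le _).trans (by rw [List.length_map])).trans hm

/-- **Simplicity of the fusion system** given a bound on the normaliser: `cS` is a Sylow subgroup of `c`,
closed under nothing smaller, and no more than its order many elements normalise it. -/
theorem isSimple_of_bound {G : Type*} [Group G] [Finite G] {c cS : List Lvl}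
    (e : grp n c ≃* G) (hc : chk n c = true) (hS : chk n cS = true)
    {p a : ℕ} [Fact p.Prime] (ha : 0 < a) (hord : certOrder cS = p ^ a)
    {r : ℕ} (hr : certOrder c = p ^ a * r)
    (hpr : ¬ p ∣ r) {wit : List (List ℕ)}
    (hsub : subOk n c cS wit = true)
    {zjs : List ℕ} {steps : List (List ℕ × ℕ × ℕ × Bool × List ℕ)}
    (hcl : closeOk n c cS zjs steps = true) (hz : centreOk n cS zjs = true)
    (hbound : ∀ N : Subgroup (Perm (Fin n)), N ≤ grp n c →
      (∀ g ∈ N, ∀ s ∈ grp n cS, g * s * g⁻¹ ∈ grp n cS) → Nat.card N ≤ certOrder cS)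
    (S : Sylow p G) : (groupFusionSystem (S : Subgroup G)).IsSimple p := by
  have hle : grp n cS ≤ grp n c := grp_le_of_subOk hc hsub
  have hfact : (certOrder c).factorization p = a := by
    have hr0 : r ≠ 0 := fun h0 => hpr (h0 ▸ dvd_zero p)
    rw [hr, Nat.factorization_mul (pow_ne_zero _ (Fact.out : p.Prime).ne_zero) hr0,
      Finsupp.add_apply, Nat.factorization_eq_zero_of_not_dvd hpr, (Fact.out : p.Prime).factorization_pow,
      Finsupp.single_eq_same, add_zero]
  have hcard : Nat.card ((grp n cS).subgroupOf (grp n c)) = p ^ a := by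
    rw [Nat.card_congr (Subgroup.subgroupOfEquivOfLe hle).toEquiv, card_grp hS, hord]
  let S₀ : Sylow p (grp n c) := Sylow.ofCard ((grp n cS).subgroupOf (grp n c))
    (by rw [hcard, card_grp hc, hfact])
  have hp : IsPGroup p (grp n cS) := IsPGroup.of_card (by rw [card_grp hS, hord])
  refine isSimple_of_equiv e S₀ ?_ ?_ ?_ S
  · intro h0
    have h2 : Nat.card ((grp n cS).subgroupOf (grp n c)) = 1 :=
      Subgroup.card_eq_one.mpr h0
    rw [hcard] at h2
    exact absurd h2 (Nat.one_lt_pow ha.ne' (Fact.out : p.Prime).one_lt).ne'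
  · show Subgroup.normalizer (((grp n cS).subgroupOf (grp n c) : Subgroup _) : Set (grp n c)) ≤
      (grp n cS).subgroupOf (grp n c)
    set N := Subgroup.normalizer (((grp n cS).subgroupOf (grp n c) : Subgroup _) : Set (grp n c))
    have h2 : Nat.card (N.map (grp n c).subtype) ≤ certOrder cS := by
      refine hbound _ (Subgroup.map_subtype_le N) ?_
      rintro _ ⟨g, hg, rfl⟩ s hs
      exact Subgroup.mem_subgroupOf.mp
        ((Subgroup.mem_normalizer_iff.mp hg ⟨s, hle hs⟩).mp (Subgroup.mem_subgroupOf.mpr hs))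
    rw [Subgroup.card_map_of_injective (Subgroup.subtype_injective _)] at h2
    exact (Subgroup.eq_of_le_of_card_ge Subgroup.le_normalizer
      (h2.trans (by rw [hcard, hord]))).ge
  · intro T hT hT0 hclosed
    have key := closedTrivial_grp hc hS hp hcl hz (T := T.map (grp n c).subtype) ?_ ?_ ?_ hle
    · apply Subgroup.map_injective (Subgroup.subtype_injective (grp n c))
      rw [key]
      exact (Subgroup.map_subgroupOf_eq_of_le hle).symm
    · rintro _ ⟨x, hx, rfl⟩
      exact Subgroup.mem_subgroupOf.mp (hT hx)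
    · rw [Ne, Subgroup.map_eq_bot_iff_of_injective _ (Subgroup.subtype_injective _)]
      exact hT0
    · rintro _ ⟨x, hx, rfl⟩ g hg hgx
      exact ⟨_, hclosed x hx ⟨g, hg⟩ (Subgroup.mem_subgroupOf.mpr hgx), rfl⟩

/-- **Simplicity of the fusion system** from certificates: `cS` is a Sylow subgroup of `c`,
closed under nothing smaller, and no more than its order many elements normalise it. -/
theorem isSimple_of_cert {G : Type*} [Group G] [Finite G] {c cS : List Lvl}
    (e : grp n c ≃* G) (hc : chk n c = true) (hS : chk n cS = true)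
    {p a : ℕ} [Fact p.Prime] (ha : 0 < a) (hord : certOrder cS = p ^ a)
    {r : ℕ} (hr : certOrder c = p ^ a * r)
    (hpr : ¬ p ∣ r) {wit : List (List ℕ)}
    (hsub : subOk n c cS wit = true)
    {zjs : List ℕ} {steps : List (List ℕ × ℕ × ℕ × Bool × List ℕ)}
    (hcl : closeOk n c cS zjs steps = true) (hz : centreOk n cS zjs = true)
    {Ms : List (List ℕ)} {ks : List ℕ} (hMs : Ms = ks.map (powRows n cS))
    (hm : (collect Ms (normLeaf n cS) c (fun i => i) []).length ≤ certOrder cS)
    (S : Sylow p G) : (groupFusionSystem (S : Subgroup G)).IsSimple p :=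
  isSimple_of_bound e hc hS ha hord hr hpr hsub hcl hz
    (fun _ hN hconj => card_normalizer_le hc hS hMs hm hN hconj) S

end Cfsg.Agent.Lib.Compute
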