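import Cfsg.Agent.Lib.Compute.CertTools
import Cfsg.Agent.Lib.Compute.MultBound

/-!
# Indices of small subgroups of certified groups
-/

set_option autoImplicit false

namespace Cfsg.Agent.Lib.Compute

open Equiv

variable {n : ℕ} {c : List Lvl}

/-- The index of a subgroup generated by two elements, from a straight-line program. -/
theorem coprime_index_of_slp {P P' : ℕ} (hP : toPerm n P ∈ grp n c) (hP' : toPerm n P' ∈ grp n c)
    {N : ℕ} (hN : Nat.card (grp n c) = N) {cS : List Lvl}
    {steps : List (ℕ × ℕ × ℕ × Bool)} (hS : chk n cS = true) (hv : Valid n P) (hv' : Valid n P')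
    (hslp : slpOk n [P, P'] steps = true) (hcov : slpCovers [P, P'] steps cS = true) {d p : ℕ}
    (hd : N = certOrder cS * d) (hcop : Nat.Coprime p d) :
    Nat.Coprime p (Subgroup.closure
      ({⟨toPerm n P, hP⟩, ⟨toPerm n P', hP'⟩} : Set (grp n c))).index := by
  set A := Subgroup.closure ({⟨toPerm n P, hP⟩, ⟨toPerm n P', hP'⟩} : Set (grp n c))
  have hle : grp n cS ≤ A.map (grp n c).subtype := by
    refine (grp_le_closure (by
      intro b hb
      simp only [List.mem_cons, List.not_mem_nil, or_false] at hb
      rcases hb with rfl | rfl <;> assumption) hslp hcov).trans ?_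
    rw [MonoidHom.map_closure]
    refine Subgroup.closure_mono ?_
    rintro _ ⟨b, hb, rfl⟩
    simp only [Set.mem_setOf_eq, List.mem_cons, List.not_mem_nil, or_false] at hb
    rcases hb with rfl | rfl
    · exact ⟨_, Or.inl rfl, rfl⟩
    · exact ⟨_, Or.inr rfl, rfl⟩
  have hdvd : certOrder cS ∣ Nat.card A := by
    rw [← card_grp hS, ← Subgroup.card_map_of_injective (Subgroup.subtype_injective (grp n c))]
    exact Subgroup.card_dvd_of_le hle
  obtain ⟨k, hk⟩ := hdvd
  have h := Subgroup.index_mul_card A
  rw [hk, hN, hd] at h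
  have hne : 0 < certOrder cS := by rw [← card_grp hS]; exact Nat.card_pos
  exact hcop.coprime_dvd_right ⟨k, by nlinarith [hne]⟩

/-- The index of a subgroup of prime order. -/
theorem coprime_index_of_prime {P : ℕ} (hP : toPerm n P ∈ grp n c) {N : ℕ}
    (hN : Nat.card (grp n c) = N) {q d p : ℕ} (hq : q.Prime) (hd : N = q * d)
    (hpow : powOk n q P = true)
    (hne : ((List.range n).any fun i => app P i != i) = true) (hcop : Nat.Coprime p d) :
    Nat.Coprime p (Subgroup.zpowers (⟨toPerm n P, hP⟩ : grp n c)).index := by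
  obtain ⟨hv, hpq⟩ := valid_of_powOk hq.pos hpow
  haveI := Fact.mk hq
  have hord : orderOf (⟨toPerm n P, hP⟩ : grp n c) = q := by
    rw [← Subgroup.orderOf_coe]
    refine orderOf_eq_prime hpq fun h => ?_
    simp only [List.any_eq_true, List.mem_range, bne_iff_ne] at hne
    obtain ⟨i, hi, hne⟩ := hne
    have := hv.repr ⟨i, hi⟩
    rw [show toPerm n P = 1 from h] at this
    exact hne this.symm
  have h := Subgroup.index_mul_card (Subgroup.zpowers (⟨toPerm n P, hP⟩ : grp n c))
  rw [Nat.card_zpowers, hord, hN, hd] at h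
  rw [show _ = d from Nat.eq_of_mul_eq_mul_right hq.pos (h.trans (mul_comm q d))]
  exact hcop

end Cfsg.Agent.Lib.Compute
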