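import Cfsg.Agent.Lib.Compute.MultReduce
import Cfsg.Agent.Lib.Compute.MultCert
import Cfsg.Agent.Lib.Compute.FusionSimple

/-!
# Schur multipliers from a certified covering group

A perfect stem extension with trivial multiplier is the universal cover, so its kernel is the
multiplier.  Here: perfection and the restriction homomorphism from certificates.
-/

set_option autoImplicit false
set_option linter.unusedSectionVars false

namespace Cfsg.Agent.Lib.Compute

open Cfsg Equiv
open scoped commutatorElement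

universe u

/-- The multiplier is the kernel of a perfect extension with trivial multiplier. -/
theorem nonempty_ker_equiv_mult {Q : Type u} [Group Q] [Finite Q] {Γ : Type u} [Group Γ] [Finite Γ]
    (hΓ : Group.IsPerfect Γ) (hΓm : HasCyclicSchurMultiplier Γ 1) (σ : Γ →* Q)
    (hs : Function.Surjective σ) (hc : σ.ker ≤ Subgroup.center Γ) :
    Nonempty (σ.ker ≃* Cfsg.Agent.Lib.SchurMultiplier.mult Q) := by
  have hQ : Group.IsPerfect Q := by
    rw [Group.isPerfect_def] at hΓ ⊢
    have h : (commutator Γ).map σ ≤ commutator Q := by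
      rw [commutator_def, Subgroup.map_commutator, commutator_def]
      exact Subgroup.commutator_mono le_top le_top
    rw [hΓ, Subgroup.map_top_of_surjective σ hs] at h
    exact top_le_iff.mp h
  obtain ⟨G, iG, iF, π, hG, hπ, hπc, ⟨e⟩, huniv⟩ :=
    Cfsg.Agent.Lib.SchurMultiplier.exists_universal_cover.{u, u, u} Q hQ
  obtain ⟨η, hη, -⟩ := huniv (MonoidHom.id Q) σ hs hc
  rw [MonoidHom.id_comp] at hη
  have hsup : η.range ⊔ σ.ker = ⊤ := by
    rw [eq_top_iff]
    intro x _
    obtain ⟨g, hg⟩ := hπ (σ x)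
    have h : (η g)⁻¹ * x ∈ σ.ker := by
      rw [MonoidHom.mem_ker, map_mul, map_inv, ← MonoidHom.comp_apply, hη, hg, inv_mul_cancel]
    have := Subgroup.mul_mem_sup (MonoidHom.mem_range.mpr ⟨g, rfl⟩ : η g ∈ η.range) h
    rwa [mul_inv_cancel_left] at this
  have hsurj : Function.Surjective η := by
    rw [← MonoidHom.range_eq_top, ← top_le_iff, ← Group.isPerfect_def.mp hΓ,
      Cfsg.Agent.Lib.SchurMultiplier.commutator_eq_of_sup_center hc hsup, Subgroup.commutator_le]
    intro a ha b hb
    exact mul_mem (mul_mem (mul_mem ha hb) (inv_mem ha)) (inv_mem hb)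
  have hker : η.ker ≤ π.ker := fun g hg => by
    rw [MonoidHom.mem_ker, ← hη, MonoidHom.comp_apply, MonoidHom.mem_ker.mp hg, map_one]
  obtain ⟨f, hf⟩ := hΓm.2 G η
    ⟨hsurj, hker.trans hπc, by rw [Group.isPerfect_def.mp hG]; exact le_top⟩
  haveI : Subsingleton (Multiplicative (ZMod 1)) := by
    haveI : Subsingleton (ZMod 1) := Subsingleton.intro (by decide)
    exact Multiplicative.toAdd.subsingleton
  haveI : Subsingleton η.ker := Function.Surjective.subsingleton hf
  have hinj : Function.Injective η :=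
    (MonoidHom.ker_eq_bot_iff η).mp (Subgroup.eq_bot_of_subsingleton _)
  let E : G ≃* Γ := MulEquiv.ofBijective η ⟨hinj, hsurj⟩
  have hmap : π.ker.map E.toMonoidHom = σ.ker := by
    ext x
    obtain ⟨g, rfl⟩ := hsurj x
    rw [MonoidHom.mem_ker, ← MonoidHom.comp_apply σ η, hη]
    constructor
    · rintro ⟨g', hg', he⟩
      have h : g' = g := hinj he
      exact h ▸ hg'
    · exact fun h => ⟨g, h, rfl⟩
  exact ⟨((MulEquiv.subgroupCongr hmap.symm).trans
    (π.ker.equivMapOfInjective E.toMonoidHom E.injective).symm).trans e⟩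

/-- A multiplier of prime order. -/
theorem hasCyclicSchurMultiplier_of_cover {Q : Type u} [Group Q] [Finite Q] {Γ : Type u}
    [Group Γ] [Finite Γ] (hΓ : Group.IsPerfect Γ) (hΓm : HasCyclicSchurMultiplier Γ 1)
    (σ : Γ →* Q) (hs : Function.Surjective σ) (hc : σ.ker ≤ Subgroup.center Γ) {p : ℕ}
    [hp : Fact p.Prime] (hk : Nat.card σ.ker = p) : HasCyclicSchurMultiplier Q p := by
  obtain ⟨e⟩ := nonempty_ker_equiv_mult hΓ hΓm σ hs hc
  haveI : NeZero p := ⟨hp.out.ne_zero⟩
  rw [Cfsg.Agent.Lib.SchurMultiplier.hasCyclicSchurMultiplier_iff]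
  have h : Nat.card (Cfsg.Agent.Lib.SchurMultiplier.mult Q) = p := by
    rw [← Nat.card_congr e.toEquiv, hk]
  exact ⟨isCyclic_of_prime_card h, h⟩

/-- A normal subgroup of order `2` is central. -/
theorem le_center_of_card_two {Γ : Type*} [Group Γ] {N : Subgroup Γ} [hN : N.Normal]
    (h : Nat.card N = 2) : N ≤ Subgroup.center Γ := by
  intro z hz
  refine Subgroup.mem_center_iff.mpr fun g => ?_
  obtain ⟨a, b, hab, huniv⟩ := Nat.card_eq_two_iff.mp h
  have key : ∀ x : N, (x : Γ) = 1 ∨ (x : Γ) ≠ 1 ∧ ∀ y : N, (y : Γ) = 1 ∨ y = x := by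
    intro x
    by_cases hx : (x : Γ) = 1
    · exact Or.inl hx
    refine Or.inr ⟨hx, fun y => ?_⟩
    by_cases hy : (y : Γ) = 1
    · exact Or.inl hy
    right
    have h1 : (1 : N) ∈ ({a, b} : Set N) := huniv ▸ Set.mem_univ _
    have hxm : x ∈ ({a, b} : Set N) := huniv ▸ Set.mem_univ _
    have hym : y ∈ ({a, b} : Set N) := huniv ▸ Set.mem_univ _
    simp only [Set.mem_insert_iff, Set.mem_singleton_iff] at h1 hxm hym
    rcases h1 with h1 | h1 <;> rcases hxm with hxm | hxm <;> rcases hym with hym | hym <;>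
      first
        | exact hym.trans hxm.symm
        | exact absurd (by rw [hxm, ← h1]; rfl : (x : Γ) = 1) hx
        | exact absurd (by rw [hym, ← h1]; rfl : (y : Γ) = 1) hy
  rcases key ⟨z, hz⟩ with h1 | ⟨hz1, hall⟩
  · rw [show z = 1 from h1, mul_one, one_mul]
  · rcases hall ⟨g * z * g⁻¹, hN.conj_mem z hz g⟩ with h2 | h2
    · exact absurd (conj_eq_one_iff.mp h2) hz1
    · exact mul_inv_eq_iff_eq_mul.mp (congrArg Subtype.val h2)

variable {n m : ℕ}

/-- `C` is the commutator of two certified elements. -/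
def commOk (n : ℕ) (c : List Lvl) (C : ℕ) (a b : List ℕ) : Bool :=
  (List.range n).all fun i => decide (app C i < n) &&
    (app C (sift c b (sift c a i)) == sift c a (sift c b i))

/-- **Perfection**: commutators generate. -/
theorem isPerfect_of_comms {c : List Lvl} (hc : chk n c = true) {Cs : List ℕ}
    {wit : List (List ℕ × List ℕ)} (h : ((List.range Cs.length).all fun k =>
      commOk n c (Cs.getD k 0) (wit.getD k ([], [])).1 (wit.getD k ([], [])).2) = true)
    {steps : List (ℕ × ℕ × ℕ × Bool)} (hslp : slpOk n Cs steps = true)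
    (hcov : slpCovers Cs steps c = true) : Group.IsPerfect (grp n c) := by
  simp only [List.all_eq_true, List.mem_range, commOk, Bool.and_eq_true, decide_eq_true_eq,
    beq_iff_eq] at h
  have key : ∀ C ∈ Cs, Valid n C ∧ ∃ x : grp n c, x ∈ commutator (grp n c) ∧
      (x : Perm (Fin n)) = toPerm n C := by
    intro C hC
    obtain ⟨k, hk, rfl⟩ := List.getElem_of_mem hC
    have hk' := h k hk
    rw [List.getD_eq_getElem _ _ hk] at hk'
    set a := (wit.getD k ([], [])).1
    set b := (wit.getD k ([], [])).2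
    let A : grp n c := ⟨_, (sift_spec hc a).2⟩
    let B : grp n c := ⟨_, (sift_spec hc b).2⟩
    have hr : Repr ((⁅A, B⁆ : grp n c) : Perm (Fin n)) (app Cs[k]) := by
      intro i
      have e : ((⁅A, B⁆ : grp n c) : Perm (Fin n)) * ((B : Perm (Fin n)) * A) = A * B := by
        simp only [commutatorElement_def, Subgroup.coe_mul, Subgroup.coe_inv]
        group
      set u : Perm (Fin n) := (B : Perm (Fin n)) * A
      have h1 := congrArg (fun v : Perm (Fin n) => ((v (u⁻¹ i) : Fin n) : ℕ)) e
      simp only [Perm.mul_apply, Perm.coe_inv, Equiv.apply_symm_apply] at h1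
      have h2 := (hk' _ (u⁻¹ i).isLt).2
      have hu : sift c b (sift c a ((u⁻¹ i : Fin n) : ℕ)) = (i : ℕ) := by
        rw [← (sift_spec hc a).1, ← (sift_spec hc b).1]
        show (((B : Perm (Fin n)) * A) (u⁻¹ i) : Fin n).val = i
        rw [Perm.coe_inv, Equiv.apply_symm_apply]
      rw [h1, ← hu, (sift_spec hc a).1, (sift_spec hc b).1]
      exact h2.symm
    exact ⟨⟨_, hr⟩, ⁅A, B⁆,
      Subgroup.commutator_mem_commutator (Subgroup.mem_top A) (Subgroup.mem_top B),
      (repr_toPerm_of_repr hr).symm⟩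
  rw [Group.isPerfect_def, eq_top_iff]
  intro x _
  have hle : grp n c ≤ (commutator (grp n c)).map (grp n c).subtype := by
    refine (grp_le_closure (fun b hb => (key b hb).1) hslp hcov).trans ((Subgroup.closure_le _).mpr ?_)
    rintro _ ⟨b, hb, rfl⟩
    obtain ⟨y, hy, hyb⟩ := (key b hb).2
    exact ⟨y, hy, hyb⟩
  obtain ⟨y, hy, hyx⟩ := hle x.2
  rwa [← (grp n c).subtype_injective hyx]

/-- The generators map the first `m` points to themselves. -/
def keepOk (m : ℕ) : List Lvl → Bool
  | [] => true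
  | L :: _ => L.gens.all fun g => (List.range m).all fun i => decide (app g.1 i < m)

/-- The images of the generators are in `c'`, and generate it. -/
def imgOk (m : ℕ) (c c' : List Lvl) (Bs : List ℕ) (wit : List (List ℕ)) : Bool :=
  match c with
  | [] => true
  | L :: _ => (L.gens.length == Bs.length) && (List.range Bs.length).all fun k =>
      memOk m c' (Bs.getD k 0) (wit.getD k []) &&
        (List.range m).all fun i => app (Bs.getD k 0) i == app (L.gens.getD k (0, 0)).1 i

/-- **Restriction to an invariant block of points.** -/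
theorem exists_restrict (hmn : m ≤ n) {L : Lvl} {rest : List Lvl}
    (hc : chk n (L :: rest) = true) {c' : List Lvl} (hc' : chk m c' = true)
    (hkeep : keepOk m (L :: rest) = true) {Bs : List ℕ} {wit : List (List ℕ)}
    (himg : imgOk m (L :: rest) c' Bs wit = true) {steps : List (ℕ × ℕ × ℕ × Bool)}
    (hslp : slpOk m Bs steps = true) (hcov : slpCovers Bs steps c' = true) :
    ∃ σ : grp n (L :: rest) →* grp m c', Function.Surjective σ := by
  classical
  simp only [keepOk, List.all_eq_true, List.mem_range, decide_eq_true_eq] at hkeep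
  simp only [imgOk, Bool.and_eq_true, beq_iff_eq, List.all_eq_true, List.mem_range] at himg
  obtain ⟨hlen, himg⟩ := himg
  obtain ⟨-, hgok, -⟩ := lvlOk_iff (by simp only [chk, Bool.and_eq_true] at hc; exact hc.1)
  have hinv : ∀ σ ∈ grp n (L :: rest), ∀ i : Fin n, (i : ℕ) < m → ((σ i : Fin n) : ℕ) < m := by
    intro σ hσ
    have hfin : σ ∈ Submonoid.closure ((fun g => toPerm n g.1) '' {g | g ∈ L.gens}) := by
      rw [← Subgroup.closure_toSubmonoid_of_finite]
      exact hσ
    induction hfin using Submonoid.closure_induction_left with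
    | one => intro i hi; simpa using hi
    | mul_left x hx y hy ih =>
      obtain ⟨g, hg, rfl⟩ := hx
      intro i hi
      have hy' : y ∈ grp n (L :: rest) := by
        show y ∈ (Subgroup.closure _).toSubmonoid
        rw [Subgroup.closure_toSubmonoid_of_finite]
        exact hy
      rw [Perm.mul_apply, repr_toPerm_of_genOk (hgok g hg)]
      exact hkeep g hg _ (ih hy' i hi)
  let f : grp n (L :: rest) → Perm (Fin m) := fun σ =>
    { toFun := fun i => ⟨((σ : Perm (Fin n)) (i.castLE hmn) : ℕ), hinv _ σ.2 _ i.isLt⟩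
      invFun := fun i => ⟨((σ : Perm (Fin n))⁻¹ (i.castLE hmn) : ℕ), hinv _ (inv_mem σ.2) _ i.isLt⟩
      left_inv := fun i => by
        apply Fin.ext
        have e : Fin.castLE hmn ⟨((σ : Perm (Fin n)) (i.castLE hmn) : ℕ), hinv _ σ.2 _ i.isLt⟩ =
            (σ : Perm (Fin n)) (i.castLE hmn) := Fin.ext rfl
        simp [e]
      right_inv := fun i => by
        apply Fin.ext
        have e : Fin.castLE hmn ⟨((σ : Perm (Fin n))⁻¹ (i.castLE hmn) : ℕ),
            hinv _ (inv_mem σ.2) _ i.isLt⟩ = (σ : Perm (Fin n))⁻¹ (i.castLE hmn) := Fin.ext rfl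
        simp [e] }
  let F : grp n (L :: rest) →* Perm (Fin m) :=
    { toFun := f
      map_one' := by apply Equiv.ext; intro i; apply Fin.ext; simp [f]
      map_mul' := fun a b => by
        apply Equiv.ext; intro i; apply Fin.ext
        simp only [f, Perm.mul_apply, Equiv.coe_fn_mk, Subgroup.coe_mul]
        rfl }
  have hgen : ∀ k (hk : k < Bs.length), Valid m Bs[k] ∧ ∃ g : grp n (L :: rest),
      F g = toPerm m Bs[k] := by
    intro k hk
    have hkL : k < L.gens.length := hlen ▸ hk
    obtain ⟨hm, heq⟩ := himg k hk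
    rw [List.getD_eq_getElem _ _ hk] at hm heq
    rw [List.getD_eq_getElem _ _ hkL] at heq
    have hv := (mem_grp_of_memOk hc' hm).1
    refine ⟨hv, ⟨_, gen_mem (List.getElem_mem hkL)⟩, ?_⟩
    refine (Repr.eq ?_ hv.repr fun _ _ => rfl)
    intro i
    show ((toPerm n L.gens[k].1) (i.castLE hmn) : ℕ) = app Bs[k] i
    rw [repr_toPerm_of_genOk (hgok _ (List.getElem_mem hkL)), heq i i.isLt]
    rfl
  have hrange : ∀ σ, F σ ∈ grp m c' := by
    have : (⊤ : Subgroup (grp n (L :: rest))) ≤ (grp m c').comap F := by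
      have htop : Subgroup.closure (((↑) : grp n (L :: rest) → Perm (Fin n)) ⁻¹'
          ((fun g => toPerm n g.1) '' {g | g ∈ L.gens})) = ⊤ :=
        Subgroup.closure_closure_coe_preimage
      rw [← htop, Subgroup.closure_le]
      rintro g ⟨g', hg', he⟩
      obtain ⟨k, hk, rfl⟩ := List.getElem_of_mem hg'
      have hkB : k < Bs.length := hlen ▸ hk
      obtain ⟨hm, heq⟩ := himg k hkB
      rw [List.getD_eq_getElem _ _ hkB] at hm heq
      rw [List.getD_eq_getElem _ _ hk] at heq
      obtain ⟨hv, hmem⟩ := mem_grp_of_memOk hc' hm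
      show F g ∈ grp m c'
      rw [show F g = toPerm m Bs[k] from Repr.eq (fun i => ?_) hv.repr fun _ _ => rfl]
      · exact hmem
      · show (((g : Perm (Fin n)) (i.castLE hmn) : Fin n) : ℕ) = app Bs[k] i
        rw [← he, repr_toPerm_of_genOk (hgok _ (List.getElem_mem hk)), heq i i.isLt]
        rfl
    exact fun σ => this (Subgroup.mem_top σ)
  refine ⟨F.codRestrict (grp m c') hrange, fun y => ?_⟩
  have hle : grp m c' ≤ F.range := by
    refine (grp_le_closure (fun b hb => ?_) hslp hcov).trans ((Subgroup.closure_le _).mpr ?_)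
    · obtain ⟨k, hk, rfl⟩ := List.getElem_of_mem hb
      exact (hgen k hk).1
    · rintro _ ⟨b, hb, rfl⟩
      obtain ⟨k, hk, rfl⟩ := List.getElem_of_mem hb
      obtain ⟨g, hg⟩ := (hgen k hk).2
      exact ⟨g, hg⟩
  obtain ⟨g, hg⟩ := hle y.2
  exact ⟨g, Subtype.ext hg⟩

end Cfsg.Agent.Lib.Compute
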