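import Cfsg.Prelude.Def_Sporadic_a

/-!
# The length-24 code of `Def_Sporadic_a` as a list of bit masks

`enc` numbers the points (`some x ↦ x`, `none ↦ 23`); `wordOf m` is the word whose support is
the set of bits of `m`.
-/

namespace Cfsg.Agent.Lib.Compute

open Cfsg
open scoped Pointwise

/-- Numbering of the 24 points: a residue is its value, the extra point is 23. -/
def enc : GolayPt ≃ Fin 24 := (finSuccEquivLast (n := 23)).symm

/-- The word with support the bits of `m`. -/
def wordOf (m : ℕ) : GolayPt → ZMod 2 := fun p => if m.testBit (enc p) then 1 else 0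

/-- The support of `wordOf m`. -/
def setOf24 (m : ℕ) : Finset GolayPt := Finset.univ.filter fun p => m.testBit (enc p)

/-- Number of bits below 24. -/
def pop (m : ℕ) : ℕ := (List.range 24).countP fun i => m.testBit i

/-- All sums of sub-lists. -/
def spanList : List ℕ → List ℕ
  | [] => [0]
  | b :: B => spanList B ++ (spanList B).map (fun x => b ^^^ x)

/-- Basis of the code with its pivots, in echelon form; every member has weight 8. -/
def golayBasis : List (ℕ × ℕ) :=
  [(0x800c75, 23), (0x400a4f, 22), (0x200f68, 21), (0x1007b4, 20), (0x803da, 19), (0x401ed, 18),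
   (0x20ab9, 17), (0x10f13, 16), (0x8dc6, 15), (0x46e3, 14), (0x293e, 13), (0x149f, 12)]

/-- The 4096 code words as masks, in increasing order. -/
def codeList : List ℕ := spanList ((golayBasis.reverse.map Prod.fst).reverse)

/-- Echelon reduction. -/
def red : List (ℕ × ℕ) → ℕ → ℕ
  | [], m => m
  | (b, p) :: l, m => red l (if m.testBit p then b ^^^ m else m)

/-- Syntactic membership test. -/
def inCode (m : ℕ) : Bool := red golayBasis m == 0

theorem red_eq_zero : ∀ (l : List (ℕ × ℕ)) {m : ℕ}, red l m = 0 → m ∈ spanList (l.map Prod.fst) := by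
  intro l
  induction l with
  | nil => intro m h; simpa [red, spanList] using h
  | cons x l ih =>
    obtain ⟨b, p⟩ := x
    intro m h
    simp only [red] at h
    simp only [List.map_cons, spanList, List.mem_append, List.mem_map]
    split at h
    · exact Or.inr ⟨b ^^^ m, ih h, by rw [← Nat.xor_assoc, Nat.xor_self, Nat.zero_xor]⟩
    · exact Or.inl (ih h)

theorem mem_codeList_of_inCode {m : ℕ} (h : inCode m = true) : m ∈ codeList := by
  simp only [inCode, beq_iff_eq] at h
  simpa [codeList] using red_eq_zero _ h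

theorem wordOf_xor (a b : ℕ) : wordOf (a ^^^ b) = wordOf a + wordOf b := by
  funext p
  simp only [wordOf, Pi.add_apply, Nat.testBit_xor]
  cases a.testBit (enc p) <;> cases b.testBit (enc p) <;> decide

theorem wordOf_zero : wordOf 0 = 0 := by
  funext p; simp [wordOf]

theorem zmod2_cases (a : ZMod 2) : a = 0 ∨ a = 1 := by decide +revert

theorem span_wordOf (B : List ℕ) (w : GolayPt → ZMod 2) :
    w ∈ Submodule.span (ZMod 2) (wordOf '' {b | b ∈ B}) ↔ ∃ m ∈ spanList B, w = wordOf m := by
  induction B generalizing w with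
  | nil => simp [spanList, wordOf_zero]
  | cons b B ih =>
    have : wordOf '' {x | x ∈ b :: B} = insert (wordOf b) (wordOf '' {x | x ∈ B}) := by
      rw [← Set.image_insert_eq]; congr 1; ext x; simp
    rw [this, Submodule.mem_span_insert]
    simp only [spanList, List.mem_append, List.mem_map]
    constructor
    · rintro ⟨a, z, hz, rfl⟩
      obtain ⟨m, hm, rfl⟩ := (ih _).mp hz
      rcases zmod2_cases a with rfl | rfl
      · exact ⟨m, Or.inl hm, by simp⟩
      · exact ⟨b ^^^ m, Or.inr ⟨m, hm, rfl⟩, by rw [wordOf_xor]; simp⟩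
    · rintro ⟨m, hm | ⟨m', hm', rfl⟩, rfl⟩
      · exact ⟨0, wordOf m, (ih _).mpr ⟨m, hm, rfl⟩, by simp⟩
      · exact ⟨1, wordOf m', (ih _).mpr ⟨m', hm', rfl⟩, by rw [wordOf_xor]; simp⟩

/-- Masks of the generators `qrWord 0, …, qrWord 22, 1`. -/
def genMasks : List ℕ :=
  [0x5335f, 0xa66be, 0x14cd7c, 0x299af8, 0x5335f0, 0x266be1, 0x4cd7c2, 0x19af85, 0x335f0a,
   0x66be14, 0x4d7c29, 0x1af853, 0x35f0a6, 0x6be14c, 0x57c299, 0x2f8533, 0x5f0a66, 0x3e14cd,
   0x7c299a, 0x785335, 0x70a66b, 0x614cd7, 0x4299af, 0xffffff]

/-- How the basis is made from the generators. -/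
def basisFromGens : List (List ℕ) :=
  [[1, 2, 4, 7, 9, 10, 23], [0, 2, 3, 4, 6, 7, 8, 10], [1, 6, 9], [0, 5, 8], [0, 5, 6, 7, 8, 10],
   [0, 7, 8, 9, 10], [2, 3, 5, 6, 8, 9], [0, 1, 3, 5, 6, 10], [0, 3, 4, 7, 9], [0, 2, 3, 4, 5, 10],
   [1, 4, 5, 7, 9], [0, 3, 4, 6, 8]]

theorem qrWord_eq : ∀ t : ZMod 23, qrWord t = wordOf (genMasks.getD t.val 0) := by
  have h : ∀ (t : ZMod 23) (p : GolayPt), qrWord t p = wordOf (genMasks.getD t.val 0) p := by
    decide +kernel
  exact fun t => funext (h t)

theorem one_eq : (1 : GolayPt → ZMod 2) = wordOf 0xffffff := by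
  have h : ∀ p : GolayPt, (1 : ZMod 2) = wordOf 0xffffff p := by decide +kernel
  exact funext h

theorem genMasks_inCode : genMasks.all inCode = true := by decide +kernel

theorem basis_from_gens :
    (basisFromGens.map fun l => l.foldr (fun i acc => genMasks.getD i 0 ^^^ acc) 0)
      = golayBasis.map Prod.fst := by decide +kernel

theorem codeList_eq : codeList = spanList (golayBasis.map Prod.fst) := by simp [codeList]

theorem golayCode_eq_span :
    golayCode = Submodule.span (ZMod 2) (wordOf '' {b | b ∈ golayBasis.map Prod.fst}) := by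
  apply le_antisymm
  · refine Submodule.span_le.mpr ?_
    intro w hw
    have key : ∀ g ∈ genMasks, wordOf g ∈
        Submodule.span (ZMod 2) (wordOf '' {b | b ∈ golayBasis.map Prod.fst}) := fun g hg =>
      (span_wordOf _ _).mpr ⟨g, codeList_eq ▸
        mem_codeList_of_inCode (List.all_eq_true.mp genMasks_inCode g hg), rfl⟩
    rcases hw with ⟨t, rfl⟩ | hw
    · rw [qrWord_eq]
      refine key _ ?_
      have hlt : t.val < genMasks.length := lt_trans t.val_lt (by decide)
      rw [← List.getElem_eq_getD (h := hlt) 0]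
      exact List.getElem_mem _
    · rw [Set.mem_singleton_iff] at hw
      subst hw
      rw [one_eq]
      exact key _ (by decide)
  · refine Submodule.span_le.mpr ?_
    rintro _ ⟨b, hb, rfl⟩
    have hg : ∀ i, wordOf (genMasks.getD i 0) ∈ golayCode := by
      intro i
      rcases lt_trichotomy i 23 with h | rfl | h
      · have := qrWord_eq (i : ZMod 23)
        rw [ZMod.val_natCast_of_lt h] at this
        rw [← this]
        exact Submodule.subset_span (Or.inl ⟨_, rfl⟩)
      · show wordOf 0xffffff ∈ golayCode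
        rw [← one_eq]
        exact Submodule.subset_span (Or.inr rfl)
      · rw [List.getD_eq_default _ _ (by simp [genMasks]; omega), wordOf_zero]
        exact zero_mem _
    have hb' : b ∈ basisFromGens.map fun l => l.foldr (fun i acc => genMasks.getD i 0 ^^^ acc) 0 := by
      rw [basis_from_gens]; exact hb
    obtain ⟨l, -, rfl⟩ := List.mem_map.mp hb'
    show wordOf (l.foldr (fun i acc => genMasks.getD i 0 ^^^ acc) 0) ∈ golayCode
    clear hb hb'
    induction l with
    | nil => simp [wordOf_zero]
    | cons i l ih => rw [List.foldr_cons, wordOf_xor]; exact add_mem (hg i) ih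

theorem mem_golayCode_iff {w : GolayPt → ZMod 2} :
    w ∈ golayCode ↔ ∃ m ∈ codeList, w = wordOf m := by
  rw [golayCode_eq_span, span_wordOf, codeList_eq]

theorem wordOf_mem_of_inCode {m : ℕ} (h : inCode m = true) : wordOf m ∈ golayCode :=
  mem_golayCode_iff.mpr ⟨m, mem_codeList_of_inCode h, rfl⟩

theorem support₂_wordOf (m : ℕ) : support₂ (wordOf m) = setOf24 m := by
  ext p
  simp [support₂, setOf24, wordOf]

theorem mem_setOf24 {m : ℕ} {p : GolayPt} : p ∈ setOf24 m ↔ m.testBit (enc p) := by
  simp [setOf24]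

theorem card_setOf24 (m : ℕ) : (setOf24 m).card = pop m := by
  have h1 : (setOf24 m).map enc.toEmbedding = Finset.univ.filter fun i : Fin 24 => m.testBit i := by
    ext i
    simp [setOf24]
  rw [← Finset.card_map enc.toEmbedding, h1, pop, List.countP_eq_length_filter]
  have h2 : ((Finset.univ.filter fun i : Fin 24 => m.testBit i).map Fin.valEmbedding).val
      = (((List.range 24).filter fun i => m.testBit i : List ℕ) : Multiset ℕ) := by
    refine (Multiset.Nodup.ext (Finset.nodup _)
      (Multiset.coe_nodup.mpr (List.nodup_range.filter _))).mpr fun i => ?_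
    simp only [Finset.mem_val, Finset.mem_map, Finset.mem_filter, Finset.mem_univ, true_and,
      Fin.valEmbedding_apply, Multiset.mem_coe, List.mem_filter, List.mem_range]
    constructor
    · rintro ⟨j, hj, rfl⟩; exact ⟨j.isLt, hj⟩
    · rintro ⟨hi, hb⟩; exact ⟨⟨i, hi⟩, hb, rfl⟩
  have h3 := congrArg Multiset.card h2
  rw [Finset.card_val, Finset.card_map, Multiset.coe_card] at h3
  exact h3

theorem hammingNorm_wordOf (m : ℕ) : hammingNorm (wordOf m) = pop m := by
  rw [← card_setOf24, ← support₂_wordOf]
  rfl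

theorem setOf24_injOn {a b : ℕ} (ha : a < 2 ^ 24) (hb : b < 2 ^ 24)
    (h : setOf24 a = setOf24 b) : a = b := by
  refine Nat.eq_of_testBit_eq fun i => ?_
  by_cases hi : i < 24
  · have := congrArg (fun s => enc.symm ⟨i, hi⟩ ∈ s) h
    simpa [mem_setOf24] using this
  · have hle : (2 : ℕ) ^ 24 ≤ 2 ^ i := Nat.pow_le_pow_right (by decide) (by omega)
    rw [Nat.testBit_lt_two_pow (lt_of_lt_of_le ha hle), Nat.testBit_lt_two_pow (lt_of_lt_of_le hb hle)]

theorem support₂_injective {α : Type*} [Fintype α] :
    Function.Injective (support₂ (α := α)) := by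
  intro v w h
  funext a
  have := congrArg (fun s => a ∈ s) h
  simp only [support₂, Finset.mem_filter, Finset.mem_univ, true_and, eq_iff_iff] at this
  rcases zmod2_cases (v a) with h1 | h1 <;> rcases zmod2_cases (w a) with h2 | h2 <;>
    simp_all

theorem supports_golayCode :
    supports (golayCode : Set (GolayPt → ZMod 2)) = setOf24 '' {m | m ∈ codeList} := by
  ext s
  simp only [supports, Set.mem_image, SetLike.mem_coe, Set.mem_ofPred_eq]
  constructor
  · rintro ⟨w, hw, rfl⟩
    obtain ⟨m, hm, rfl⟩ := mem_golayCode_iff.mp hw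
    exact ⟨m, hm, (support₂_wordOf m).symm⟩
  · rintro ⟨m, hm, rfl⟩
    exact ⟨wordOf m, mem_golayCode_iff.mpr ⟨m, hm, rfl⟩, support₂_wordOf m⟩

/-- A linear-time check that a list increases strictly. -/
def incr : List ℕ → Bool
  | a :: b :: l => decide (a < b) && incr (b :: l)
  | _ => true

theorem nodup_of_incr : ∀ {l : List ℕ}, incr l = true → l.Nodup := by
  intro l h
  have hc : List.Pairwise (· < ·) l := by
    refine List.isChain_iff_pairwise.mp ?_
    induction l with
    | nil => exact List.IsChain.nil
    | cons a l ih =>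
      cases l with
      | nil => exact List.IsChain.singleton a
      | cons b l =>
        simp only [incr, Bool.and_eq_true, decide_eq_true_eq] at h
        exact List.IsChain.cons_cons h.1 (ih h.2)
  exact hc.imp Nat.ne_of_lt

theorem codeList_incr : incr codeList = true := by decide +kernel

theorem codeList_all : codeList.all (fun m => decide (m < 2 ^ 24) &&
    [0, 8, 12, 16, 24].contains (pop m)) = true := by decide +kernel

theorem lt_of_mem_codeList {m : ℕ} (h : m ∈ codeList) : m < 2 ^ 24 := by
  have := List.all_eq_true.mp codeList_all m h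
  simp only [Bool.and_eq_true, decide_eq_true_eq] at this
  exact this.1

theorem pop_of_mem_codeList {m : ℕ} (h : m ∈ codeList) :
    pop m = 0 ∨ pop m = 8 ∨ pop m = 12 ∨ pop m = 16 ∨ pop m = 24 := by
  have h' := List.all_eq_true.mp codeList_all m h
  rw [Bool.and_eq_true] at h'
  simpa using h'.2

theorem wordsOfWeight_eq (k : ℕ) :
    wordsOfWeight (golayCode : Set (GolayPt → ZMod 2)) k
      = setOf24 '' {m | m ∈ codeList.filter fun m => pop m == k} := by
  ext s
  simp only [wordsOfWeight, supports_golayCode, Set.mem_ofPred_eq, Set.mem_image, List.mem_filter,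
    beq_iff_eq]
  constructor
  · rintro ⟨⟨m, hm, rfl⟩, hc⟩
    exact ⟨m, ⟨hm, by rw [← card_setOf24]; exact hc⟩, rfl⟩
  · rintro ⟨m, ⟨hm, hc⟩, rfl⟩
    exact ⟨⟨m, hm, rfl⟩, by rw [card_setOf24]; exact hc⟩

theorem ncard_wordsOfWeight (k : ℕ) :
    (wordsOfWeight (golayCode : Set (GolayPt → ZMod 2)) k).ncard
      = (codeList.filter fun m => pop m == k).length := by
  rw [wordsOfWeight_eq, Set.InjOn.ncard_image]
  · rw [← List.coe_toFinset, Set.ncard_coe_finset,
      List.toFinset_card_of_nodup ((nodup_of_incr codeList_incr).filter _)]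
  · intro a ha b hb h
    exact setOf24_injOn (lt_of_mem_codeList (List.mem_of_mem_filter ha))
      (lt_of_mem_codeList (List.mem_of_mem_filter hb)) h

theorem ncard_octads : octads.ncard = 759 := by
  rw [octads, ncard_wordsOfWeight]; decide +kernel

theorem ncard_dodecads : dodecads.ncard = 2576 := by
  rw [dodecads, ncard_wordsOfWeight]; decide +kernel

theorem card_golayCode : Nat.card golayCode = 4096 := by
  have h : (golayCode : Set (GolayPt → ZMod 2)) = wordOf '' {m | m ∈ codeList} := by
    ext w
    simp only [SetLike.mem_coe, mem_golayCode_iff, Set.mem_image, Set.mem_ofPred_eq, eq_comm]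
  have hl : codeList.length = 4096 := by decide +kernel
  show Nat.card (golayCode : Set (GolayPt → ZMod 2)) = 4096
  rw [Nat.card_coe_set_eq, h, Set.InjOn.ncard_image, ← List.coe_toFinset, Set.ncard_coe_finset,
    List.toFinset_card_of_nodup (nodup_of_incr codeList_incr), hl]
  intro a ha b hb e
  exact setOf24_injOn (lt_of_mem_codeList ha) (lt_of_mem_codeList hb)
    (by rw [← support₂_wordOf, e, support₂_wordOf])

theorem finrank_golayCode : Module.finrank (ZMod 2) golayCode = 12 := by
  have h := Module.natCard_eq_pow_finrank (K := ZMod 2) (V := golayCode)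
  rw [card_golayCode, Nat.card_zmod] at h
  have h' : (2 : ℕ) ^ 12 = 2 ^ Module.finrank (ZMod 2) golayCode := by rw [← h]; norm_num
  exact (Nat.pow_right_injective le_rfl h').symm

theorem hammingNorm_mem_golayCode {w : GolayPt → ZMod 2} (hw : w ∈ golayCode) :
    hammingNorm w = 0 ∨ hammingNorm w = 8 ∨ hammingNorm w = 12 ∨ hammingNorm w = 16
      ∨ hammingNorm w = 24 := by
  obtain ⟨m, hm, rfl⟩ := mem_golayCode_iff.mp hw
  rw [hammingNorm_wordOf]
  exact pop_of_mem_codeList hm

theorem basis_orth : ∀ a ∈ golayBasis.map Prod.fst, ∀ b ∈ golayBasis.map Prod.fst,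
    ∑ i, wordOf a i * wordOf b i = 0 := by decide +kernel

theorem golayCode_orth {v w : GolayPt → ZMod 2} (hv : v ∈ golayCode) (hw : w ∈ golayCode) :
    ∑ i, v i * w i = 0 := by
  rw [golayCode_eq_span] at hv hw
  induction hv using Submodule.span_induction with
  | mem x hx =>
    obtain ⟨a, ha, rfl⟩ := hx
    induction hw using Submodule.span_induction with
    | mem y hy => obtain ⟨b, hb, rfl⟩ := hy; exact basis_orth a ha b hb
    | zero => simp
    | add y z _ _ h1 h2 => simp [mul_add, Finset.sum_add_distrib, h1, h2]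
    | smul c y _ h1 => simp [mul_left_comm _ c, ← Finset.mul_sum, h1]
  | zero => simp
  | add y z _ _ h1 h2 => simp [add_mul, Finset.sum_add_distrib, h1, h2]
  | smul c y _ h1 => simp [mul_assoc, ← Finset.mul_sum, h1]

end Cfsg.Agent.Lib.Compute
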