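import Cfsg.Agent.Lib.Compute.M24Action

/-!
# Octads: Steiner property, transitivity, automorphism group; named elements of `M24`
-/

namespace Cfsg.Agent.Lib.Compute

open Cfsg Equiv
open scoped Pointwise

theorem card_of_mem_octads {o : Finset GolayPt} (ho : o ∈ octads) : o.card = 8 := ho.2

/-- The octads form a Steiner system S(5,8,24). -/
theorem isSteinerSystem_octads : IsSteinerSystem 5 8 octads := by
  refine ⟨fun b hb => card_of_mem_octads hb, fun s hs => ?_⟩
  classical
  have huniq : ∀ o o', o ∈ octads → o' ∈ octads → s ⊆ o → s ⊆ o' → o = o' :=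
    fun o o' ho ho' h h' => octad_eq_of_five ho ho'
      (hs ▸ Finset.card_le_card (Finset.subset_inter h h'))
  suffices hex : ∃ o ∈ octads, s ⊆ o by
    obtain ⟨o, ho, hso⟩ := hex
    exact ⟨o, ⟨ho, hso⟩, fun o' ho' => huniq o' o ho'.1 ho ho'.2 hso⟩
  have hfin : octads.Finite := Set.toFinite _
  let O := hfin.toFinset
  have hOc : O.card = 759 := by
    rw [← Set.ncard_eq_toFinset_card octads hfin]; exact ncard_octads
  have hdisj : ∀ o ∈ O, ∀ o' ∈ O, o ≠ o' →
      Disjoint (o.powersetCard 5) (o'.powersetCard 5) := by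
    intro o ho o' ho' hne
    rw [Finset.disjoint_left]
    intro t ht ht'
    rw [Finset.mem_powersetCard] at ht ht'
    exact hne (octad_eq_of_five (hfin.mem_toFinset.mp ho) (hfin.mem_toFinset.mp ho')
      (ht.2 ▸ Finset.card_le_card (Finset.subset_inter ht.1 ht'.1)))
  have hcard : (O.biUnion fun o => o.powersetCard 5).card = 759 * 56 := by
    rw [Finset.card_biUnion hdisj, Finset.sum_congr rfl (g := fun _ => 56), Finset.sum_const,
      hOc, smul_eq_mul]
    intro o ho
    rw [Finset.card_powersetCard, card_of_mem_octads (hfin.mem_toFinset.mp ho)]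
    decide
  have hall : (O.biUnion fun o => o.powersetCard 5) = Finset.univ.powersetCard 5 := by
    refine Finset.eq_of_subset_of_card_le ?_ ?_
    · intro t ht
      obtain ⟨o, -, ht⟩ := Finset.mem_biUnion.mp ht
      rw [Finset.mem_powersetCard] at ht ⊢
      exact ⟨Finset.subset_univ _, ht.2⟩
    · rw [hcard, Finset.card_powersetCard, Finset.card_univ]
      have : Fintype.card GolayPt = 24 := rfl
      rw [this]
      decide +kernel
  have : s ∈ O.biUnion fun o => o.powersetCard 5 := by
    rw [hall, Finset.mem_powersetCard]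
    exact ⟨Finset.subset_univ _, hs⟩
  obtain ⟨o, ho, hso⟩ := Finset.mem_biUnion.mp this
  exact ⟨o, hfin.mem_toFinset.mp ho, (Finset.mem_powersetCard.mp hso).1⟩

theorem exists_five_of_card {α : Type*} {s : Finset α} (h : 5 ≤ s.card) :
    ∃ x : Fin 5 ↪ α, ∀ j, x j ∈ s := by
  obtain ⟨t, hts, htc⟩ := Finset.exists_subset_card_eq h
  exact ⟨(t.equivFinOfCardEq htc).symm.toEmbedding.trans (Function.Embedding.subtype _),
    fun j => hts ((t.equivFinOfCardEq htc).symm j).2⟩

/-- `M24` is transitive on octads. -/
theorem exists_smul_octad {o o' : Finset GolayPt} (ho : o ∈ octads) (ho' : o' ∈ octads) :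
    ∃ g : M24, g • o = o' := by
  obtain ⟨x, hx⟩ := exists_five_of_card (s := o) (by rw [card_of_mem_octads ho]; decide)
  obtain ⟨y, hy⟩ := exists_five_of_card (s := o') (by rw [card_of_mem_octads ho']; decide)
  obtain ⟨g, hg⟩ := MulAction.isMultiplyPretransitive_iff.mp M24_multiplyPretransitive x y
  refine ⟨g, octad_eq_of_five (smul_mem_octads g.2 ho) ho' ?_⟩
  have : Finset.univ.map y ⊆ g • o ∩ o' := by
    intro p hp
    obtain ⟨j, -, rfl⟩ := Finset.mem_map.mp hp
    refine Finset.mem_inter.mpr ⟨?_, hy j⟩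
    rw [← hg]
    exact Finset.smul_mem_smul_finset (hx j)
  simpa using Finset.card_le_card this

theorem basis_octads : ∀ b ∈ golayBasis, inCode b.1 = true ∧ pop b.1 = 8 := by decide +kernel

/-- The automorphisms of the octads are the automorphisms of the code. -/
theorem setSystemAut_octads : setSystemAut octads = M24 := by
  refine le_antisymm (fun σ hσ => ?_) (fun σ hσ => ?_)
  · rw [MulAction.mem_stabilizer_iff] at hσ
    rw [mem_M24_iff]
    intro w hw
    rw [golayCode_eq_span] at hw
    induction hw using Submodule.span_induction with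
    | mem x hx =>
      obtain ⟨m, hm, rfl⟩ := hx
      obtain ⟨b, hb, rfl⟩ := List.mem_map.mp hm
      obtain ⟨hc, h8⟩ := basis_octads b hb
      have h1 : σ • setOf24 b.1 ∈ σ • octads :=
        Set.smul_mem_smul_set (setOf24_mem_octads hc h8)
      rw [hσ] at h1
      obtain ⟨⟨v, hv, he⟩, -⟩ := h1
      rw [← support₂_wordOf, ← support₂_comp_symm] at he
      rwa [← support₂_injective he]
    | zero => exact zero_mem _
    | add x y _ _ hx hy => exact add_mem hx hy
    | smul c x _ hx => exact Submodule.smul_mem _ c hx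
  · rw [MulAction.mem_stabilizer_iff]
    refine Set.eq_of_subset_of_ncard_le ?_ (by rw [Set.ncard_smul_set]) (Set.toFinite _)
    rintro _ ⟨o, ho, rfl⟩
    exact smul_mem_octads hσ ho

theorem mem_M24_of_app {σ : Perm GolayPt} {P : ℕ} (hP : presOk P = true)
    (h : ∀ p, ((enc (σ p) : Fin 24) : ℕ) = app P (enc p)) : σ ∈ M24 := by
  have hr : Repr (toGP.symm σ) (app P) := fun i => by
    have := h (enc.symm i)
    rw [Equiv.apply_symm_apply] at this
    exact this
  have := toGP_mem_M24_of_presOk hr hP
  rwa [MulEquiv.apply_symm_apply] at this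

theorem toGP_toPerm_eq {σ : Perm GolayPt} {P : ℕ}
    (h : ∀ p, ((enc (σ p) : Fin 24) : ℕ) = app P (enc p)) : toGP (toPerm 24 P) = σ := by
  have hr : Repr (toGP.symm σ) (app P) := fun i => by
    have := h (enc.symm i)
    rw [Equiv.apply_symm_apply] at this
    exact this
  rw [repr_toPerm_of_repr hr, MulEquiv.apply_symm_apply]

end Cfsg.Agent.Lib.Compute
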