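import Cfsg.Agent.Lib.Compute.CertTools
import Cfsg.Agent.Lib.Compute.Golay
import Cfsg.Agent.Lib.Compute.M24Cert

/-!
# The group of the Golay code as a certified permutation group
-/

namespace Cfsg.Agent.Lib.Compute

open Cfsg Equiv
open scoped Pointwise

/-- Relabelling of permutations of `Fin 24` as permutations of the 24 points. -/
def toGP : Perm (Fin 24) ≃* Perm GolayPt := enc.symm.permCongrHom

theorem toGP_apply (σ : Perm (Fin 24)) (p : GolayPt) : toGP σ p = enc.symm (σ (enc p)) := rfl

theorem enc_toGP (σ : Perm (Fin 24)) (p : GolayPt) : enc (toGP σ p) = σ (enc p) := by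
  rw [toGP_apply, Equiv.apply_symm_apply]

theorem smul_finset_eq_image (σ : Perm GolayPt) (s : Finset GolayPt) :
    σ • s = s.image σ := rfl

theorem mem_smul_finset_iff (σ : Perm GolayPt) (s : Finset GolayPt) (p : GolayPt) :
    p ∈ σ • s ↔ σ.symm p ∈ s := by
  rw [smul_finset_eq_image, Finset.mem_image]
  constructor
  · rintro ⟨q, hq, rfl⟩; simpa using hq
  · exact fun h => ⟨_, h, by simp⟩

theorem support₂_comp_symm (w : GolayPt → ZMod 2) (σ : Perm GolayPt) :
    support₂ (w ∘ σ.symm) = σ • support₂ w := by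
  ext p
  simp [mem_smul_finset_iff, support₂]

theorem mem_M24_iff (σ : Perm GolayPt) :
    σ ∈ M24 ↔ ∀ w ∈ golayCode, w ∘ σ.symm ∈ golayCode := by
  rw [MulAction.mem_stabilizer_iff]
  constructor
  · intro h w hw
    have : σ • support₂ w ∈ σ • supports (golayCode : Set (GolayPt → ZMod 2)) :=
      Set.smul_mem_smul_set ⟨w, hw, rfl⟩
    rw [h, ← support₂_comp_symm] at this
    obtain ⟨v, hv, he⟩ := this
    rwa [← support₂_injective he]
  · intro h
    refine Set.eq_of_subset_of_ncard_le ?_ ?_ (Set.toFinite _)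
    · rintro _ ⟨_, ⟨w, hw, rfl⟩, rfl⟩
      exact ⟨_, h w hw, support₂_comp_symm w σ⟩
    · rw [Set.ncard_smul_set]

/-- Image of a mask. -/
def imgMask (P m : ℕ) : ℕ :=
  (List.range 24).foldl (fun r i => bif m.testBit i then r ||| (1 <<< app P i) else r) 0

/-- The permutation packed in `P` maps every basis word into the code. -/
def presOk (P : ℕ) : Bool :=
  golayBasis.all fun b => inCode (imgMask P b.1) &&
    (List.range 24).all fun i => (imgMask P b.1).testBit (app P i) == b.1.testBit i

theorem toGP_mem_M24_of_presOk {P : ℕ} {σ : Perm (Fin 24)} (hr : Repr σ (app P))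
    (h : presOk P = true) : toGP σ ∈ M24 := by
  rw [mem_M24_iff]
  intro w hw
  rw [golayCode_eq_span] at hw
  induction hw using Submodule.span_induction with
  | mem x hx =>
    obtain ⟨m, hm, rfl⟩ := hx
    obtain ⟨b, hb, rfl⟩ := List.mem_map.mp hm
    have h0 := List.all_eq_true.mp h b hb
    rw [Bool.and_eq_true] at h0
    have he : wordOf b.1 ∘ (toGP σ).symm = wordOf (imgMask P b.1) := by
      funext p
      obtain ⟨q, rfl⟩ := (toGP σ).surjective p
      have := List.all_eq_true.mp h0.2 (enc q) (List.mem_range.mpr (enc q).isLt)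
      rw [beq_iff_eq] at this
      simp only [Function.comp, Equiv.symm_apply_apply, wordOf, enc_toGP, hr (enc q), this]
    rw [he]
    exact wordOf_mem_of_inCode h0.1
  | zero => exact zero_mem _
  | add x y _ _ hx hy => exact add_mem hx hy
  | smul c x _ hx => exact Submodule.smul_mem _ c hx

/-- The group of the code, on `Fin 24`. -/
def K24 : Subgroup (Perm (Fin 24)) := M24.comap toGP.toMonoidHom

theorem mem_K24 {σ : Perm (Fin 24)} : σ ∈ K24 ↔ toGP σ ∈ M24 := Iff.rfl

/-- The generators of the first level preserve the code. -/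
def presGens : List Lvl → Bool
  | [] => true
  | L :: _ => L.gens.all fun g => genOk 24 g && presOk g.1

theorem grp_le_K24 {c : List Lvl} (h : presGens c = true) : grp 24 c ≤ K24 := by
  cases c with
  | nil => simp [grp]
  | cons L rest =>
    refine (Subgroup.closure_le _).mpr ?_
    rintro _ ⟨g, hg, rfl⟩
    have := List.all_eq_true.mp h g hg
    rw [Bool.and_eq_true] at this
    exact toGP_mem_M24_of_presOk (repr_toPerm_of_genOk this.1) this.2

theorem card_support₂_add {α : Type*} [Fintype α] [DecidableEq α] (v w : α → ZMod 2) :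
    (support₂ (v + w)).card + 2 * (support₂ v ∩ support₂ w).card
      = (support₂ v).card + (support₂ w).card := by
  have : support₂ (v + w) = symmDiff (support₂ v) (support₂ w) := by
    ext a
    simp only [support₂, Finset.mem_symmDiff, Finset.mem_filter, Finset.mem_univ, true_and,
      Pi.add_apply]
    rcases zmod2_cases (v a) with h1 | h1 <;> rcases zmod2_cases (w a) with h2 | h2 <;>
      simp [h1, h2] <;> decide
  rw [this, symmDiff_def]
  have hd : Disjoint (support₂ v \ support₂ w) (support₂ w \ support₂ v) :=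
    disjoint_sdiff_sdiff
  rw [Finset.sup_eq_union, Finset.card_union_of_disjoint hd]
  have h1 := Finset.card_sdiff_add_card_inter (support₂ v) (support₂ w)
  have h2 := Finset.card_sdiff_add_card_inter (support₂ w) (support₂ v)
  rw [Finset.inter_comm (support₂ w)] at h2
  omega

theorem octad_eq_of_five {o o' : Finset GolayPt} (ho : o ∈ octads) (ho' : o' ∈ octads)
    (h : 5 ≤ (o ∩ o').card) : o = o' := by
  obtain ⟨⟨v, hv, rfl⟩, hv8⟩ := ho
  obtain ⟨⟨w, hw, rfl⟩, hw8⟩ := ho'
  have hc := card_support₂_add v w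
  rw [hv8, hw8] at hc
  have hn : hammingNorm (v + w) = (support₂ (v + w)).card := rfl
  have h0 : hammingNorm (v + w) = 0 := by
    rcases hammingNorm_mem_golayCode (add_mem hv hw) with e | e | e | e | e <;> omega
  have : v + w = 0 := hammingNorm_eq_zero.mp h0
  have hvw : v = w := funext fun a => by
    have ha := congrFun this a
    revert ha
    rw [Pi.add_apply, Pi.zero_apply]
    rcases zmod2_cases (v a) with e | e <;> rcases zmod2_cases (w a) with e' | e' <;>
      rw [e, e'] <;> decide
  rw [hvw]

theorem setOf24_mem_octads {m : ℕ} (hc : inCode m = true) (h8 : pop m = 8) : setOf24 m ∈ octads :=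
  ⟨⟨_, wordOf_mem_of_inCode hc, support₂_wordOf m⟩, by rw [card_setOf24]; exact h8⟩

theorem smul_mem_octads {σ : Perm GolayPt} (hσ : σ ∈ M24) {o : Finset GolayPt}
    (ho : o ∈ octads) : σ • o ∈ octads := by
  obtain ⟨⟨w, hw, rfl⟩, h8⟩ := ho
  exact ⟨⟨_, (mem_M24_iff σ).mp hσ w hw, support₂_comp_symm w σ⟩, by
    rw [Finset.card_smul_finset]; exact h8⟩

theorem smul_mem_dodecads {σ : Perm GolayPt} (hσ : σ ∈ M24) {o : Finset GolayPt}
    (ho : o ∈ dodecads) : σ • o ∈ dodecads := by
  obtain ⟨⟨w, hw, rfl⟩, h8⟩ := ho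
  exact ⟨⟨_, (mem_M24_iff σ).mp hσ w hw, support₂_comp_symm w σ⟩, by
    rw [Finset.card_smul_finset]; exact h8⟩

/-- `σ` fixes every position set in `F`. -/
def FixMask (σ : Perm (Fin 24)) (F : ℕ) : Prop := ∀ i : Fin 24, F.testBit i → σ i = i

/-- `o` is an octad with at least five positions in `F`. -/
def isFixedOctad (F o : ℕ) : Bool := inCode o && (pop o == 8) && decide (5 ≤ pop (o &&& F))

theorem testBit_image_of_fixed {σ : Perm (Fin 24)} (hσ : σ ∈ K24) {F o : ℕ} (hF : FixMask σ F)
    (h : isFixedOctad F o = true) (i : Fin 24) : o.testBit (σ i) = o.testBit i := by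
  simp only [isFixedOctad, Bool.and_eq_true, beq_iff_eq, decide_eq_true_eq] at h
  obtain ⟨⟨hc, h8⟩, h5⟩ := h
  have hs := setOf24_mem_octads hc h8
  have hsub : setOf24 (o &&& F) ⊆ setOf24 o ∩ toGP σ • setOf24 o := by
    intro p hp
    rw [mem_setOf24, Nat.testBit_land, Bool.and_eq_true] at hp
    rw [Finset.mem_inter, mem_setOf24, mem_smul_finset_iff, mem_setOf24]
    refine ⟨hp.1, ?_⟩
    have : (toGP σ).symm p = p := by
      rw [Equiv.symm_apply_eq, toGP_apply, hF _ hp.2, Equiv.symm_apply_apply]
    rw [this]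
    exact hp.1
  have he := octad_eq_of_five hs (smul_mem_octads (mem_K24.mp hσ) hs)
    (le_trans (by rw [card_setOf24]; exact h5) (Finset.card_le_card hsub))
  have := congrArg (fun s => enc.symm (σ i) ∈ s) he
  simp only [mem_setOf24, Equiv.apply_symm_apply, mem_smul_finset_iff, eq_iff_iff] at this
  have h2 : (toGP σ).symm (enc.symm (σ i)) = enc.symm i := by
    rw [Equiv.symm_apply_eq, toGP_apply, Equiv.apply_symm_apply]
  rw [h2, Equiv.apply_symm_apply] at this
  exact Bool.eq_iff_iff.mpr this

theorem testBit_lor_one_shiftLeft (F b i : ℕ) :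
    (F ||| 1 <<< b).testBit i = (F.testBit i || decide (b = i)) := by
  rw [Nat.testBit_lor, Nat.one_shiftLeft, Nat.testBit_two_pow]

/-- Propagation of fixed points by fixed octads. -/
def stepsOk : ℕ → List (ℕ × List ℕ) → Bool
  | F, [] => (List.range 24).all fun q => F.testBit q
  | F, (p, os) :: rest => os.all (isFixedOctad F) &&
      ((List.range 24).all fun q => q == p || F.testBit q ||
        os.any fun o => o.testBit q != o.testBit p) && stepsOk (F ||| 1 <<< p) rest

theorem eq_one_of_stepsOk : ∀ {steps : List (ℕ × List ℕ)} {F : ℕ}, stepsOk F steps = true →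
    ∀ {σ : Perm (Fin 24)}, σ ∈ K24 → FixMask σ F → σ = 1 := by
  intro steps
  induction steps with
  | nil =>
    intro F h σ _ hF
    exact Equiv.ext fun i => hF i (List.all_eq_true.mp h i (List.mem_range.mpr i.isLt))
  | cons st rest ih =>
    obtain ⟨p, os⟩ := st
    intro F h σ hσ hF
    simp only [stepsOk, Bool.and_eq_true, List.all_eq_true, List.mem_range, Bool.or_eq_true,
      beq_iff_eq, List.any_eq_true, bne_iff_ne] at h
    obtain ⟨⟨ho, hsep⟩, hrest⟩ := h
    refine ih hrest hσ fun i hi => ?_
    rw [testBit_lor_one_shiftLeft, Bool.or_eq_true, decide_eq_true_eq] at hi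
    rcases hi with hi | rfl
    · exact hF i hi
    · rcases hsep (σ i) (σ i).isLt with (e | e) | ⟨o, ho', e⟩
      · exact Fin.ext e
      · have : σ (σ i) = σ i := hF _ e
        exact σ.injective this
      · exact absurd (testBit_image_of_fixed hσ hF (ho o ho') i) e

/-- Every point allowed by the fixed octads and the invariant masks `ext` lies in the orbit. -/
def upperOk (ext : List ℕ) : ℕ → List Lvl → List (List ℕ) → Bool
  | _, [], _ => true
  | F, L :: rest, oss => (oss.headD []).all (isFixedOctad F) &&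
      ((List.range 24).all fun q => (orbit L).contains q || F.testBit q ||
        (ext ++ oss.headD []).any fun o => o.testBit q != o.testBit L.base) &&
      upperOk ext (F ||| 1 <<< L.base) rest oss.tail

/-- The base points, as a mask, added to `F`. -/
def finalMask : ℕ → List Lvl → ℕ
  | F, [] => F
  | F, L :: rest => finalMask (F ||| 1 <<< L.base) rest

theorem le_grp_of_upperOk {ext : List ℕ} {K : Subgroup (Perm (Fin 24))} (hK : K ≤ K24)
    (hext : ∀ σ ∈ K, ∀ o ∈ ext, ∀ i : Fin 24, o.testBit (σ i) = o.testBit i) :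
    ∀ {c : List Lvl} {F : ℕ} {oss : List (List ℕ)}, chk 24 c = true → upperOk ext F c oss = true →
      grp 24 c ≤ K → (∀ τ ∈ grp 24 c, FixMask τ F) →
      (∀ σ ∈ K, FixMask σ (finalMask F c) → σ = 1) →
      ∀ σ ∈ K, FixMask σ F → σ ∈ grp 24 c := by
  intro c
  induction c with
  | nil =>
    intro F oss _ _ _ _ hend σ hσ hF
    rw [hend σ hσ hF]
    exact one_mem _
  | cons L rest ih =>
    intro F oss hc h hle hfix hend σ hσ hF
    have hc' := hc
    simp only [chk, Bool.and_eq_true] at hc'
    have hb : L.base < 24 := (lvlOk_iff hc'.1).1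
    let b : Fin 24 := ⟨L.base, hb⟩
    simp only [upperOk, Bool.and_eq_true, List.all_eq_true, List.mem_range, Bool.or_eq_true,
      List.any_eq_true, bne_iff_ne, List.contains_iff_mem, List.mem_append] at h
    obtain ⟨⟨ho, hsep⟩, hrest⟩ := h
    have hin : ((σ b : Fin 24) : ℕ) ∈ orbit L := by
      rcases hsep (σ b) (σ b).isLt with (e | e) | ⟨o, ho', e⟩
      · exact e
      · have : σ b = b := σ.injective (hF _ e)
        rw [this]
        exact List.mem_cons_self
      · rcases ho' with ho' | ho'
        · exact absurd (hext σ hσ o ho' b) e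
        · exact absurd (testBit_image_of_fixed (hK hσ) hF (ho o ho') b) e
    obtain ⟨τ, hτ, hτb⟩ := (mem_orbit_iff hc b (σ b) rfl).mpr hin
    have hle' := (grp_rest_le hc'.1).trans hle
    have hfix' : ∀ ρ ∈ grp 24 rest, FixMask ρ (F ||| 1 <<< L.base) := by
      intro ρ hρ i hi
      rw [testBit_lor_one_shiftLeft, Bool.or_eq_true, decide_eq_true_eq] at hi
      rcases hi with hi | hi
      · exact hfix ρ (grp_rest_le hc'.1 hρ) i hi
      · exact grp_rest_fixes hc'.1 hc'.2 i hi.symm hρ
    have hmem : τ⁻¹ * σ ∈ grp 24 rest := by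
      refine ih hc'.2 hrest hle' hfix' hend _ (mul_mem (inv_mem (hle hτ)) hσ) fun i hi => ?_
      rw [testBit_lor_one_shiftLeft, Bool.or_eq_true, decide_eq_true_eq] at hi
      rcases hi with hi | hi
      · rw [Perm.mul_apply, hF i hi, Perm.inv_eq_iff_eq, hfix τ hτ i hi]
      · have : i = b := Fin.ext hi.symm
        subst this
        rw [Perm.mul_apply, Perm.inv_eq_iff_eq, hτb]
    simpa using mul_mem hτ (grp_rest_le hc'.1 hmem)

theorem presGens_m24Cert : presGens m24Cert = true := by decide +kernel

theorem upperOk_m24Cert :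
    upperOk [] 0 m24Cert [[], [], [], [], [], [0x149f], [0x149f]] = true := by decide +kernel

theorem stepsOk_m24Steps : stepsOk (finalMask 0 m24Cert) m24Steps = true := by decide +kernel

/-- **The group of the code is the certified group.** -/
theorem K24_eq : K24 = grp 24 m24Cert := by
  refine le_antisymm (fun σ hσ => ?_) (grp_le_K24 presGens_m24Cert)
  exact le_grp_of_upperOk le_rfl (fun _ _ o ho => absurd ho (List.not_mem_nil))
    m24Cert_ok upperOk_m24Cert (grp_le_K24 presGens_m24Cert)
    (fun τ _ i hi => by simp at hi)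
    (fun σ hσ hF => eq_one_of_stepsOk stepsOk_m24Steps hσ hF)
    σ hσ (fun i hi => by simp at hi)

/-- The isomorphism from the certified group to `M24`. -/
noncomputable def equivM24 : grp 24 m24Cert ≃* M24 :=
  ((MulEquiv.subgroupCongr K24_eq.symm).trans (toGP.subgroupMap K24)).trans
    (MulEquiv.subgroupCongr (Subgroup.map_comap_eq_self_of_surjective toGP.surjective M24))

theorem card_M24 : Nat.card M24 = 244823040 := by
  rw [← Nat.card_congr equivM24.toEquiv, card_grp m24Cert_ok]
  decide +kernel

end Cfsg.Agent.Lib.Compute
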