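import Cfsg.Agent.Lib.Compute.Golay
import Cfsg.Agent.Lib.Compute.M24

/-!
# The rank-24 lattice built from the code: membership, evenness, minimum, invariance

A vector is in the lattice exactly when it is `m + 2 w` (`m` an integer, added to every
coordinate), with `w` reducing modulo 2 into the code and coordinate sum of `w` congruent to
`2 m` modulo 4.
-/

namespace Cfsg.Agent.Lib.Compute

open Cfsg

/-- Reduction modulo 2 of an integer vector. -/
def redTwo (w : GolayPt → ℤ) : GolayPt → ZMod 2 := fun i => (w i : ZMod 2)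

/-- `x = m + 2 w` with `w` reducing into the code and sum of `w` congruent to `2 m` mod 4. -/
def LeechForm (x : GolayPt → ℤ) (m : ℤ) (w : GolayPt → ℤ) : Prop :=
  (∀ i, x i = m + 2 * w i) ∧ redTwo w ∈ golayCode ∧ (∑ i, w i) ≡ 2 * m [ZMOD 4]

theorem one_mem_golayCode : (1 : GolayPt → ZMod 2) ∈ golayCode :=
  Submodule.subset_span (Or.inr rfl)

theorem intCast_zmod2_ne_zero_iff (a : ℤ) : (a : ZMod 2) ≠ 0 ↔ a % 2 = 1 := by
  rw [Ne, ZMod.intCast_zmod_eq_zero_iff_dvd]
  omega

theorem mem_support₂ {α : Type*} [Fintype α] {v : α → ZMod 2} {i : α} :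
    i ∈ support₂ v ↔ v i ≠ 0 := by
  simp [support₂]

theorem mem_classMod {x : GolayPt → ℤ} {k : ℤ} {i : GolayPt} :
    (i ∈ Finset.univ.filter fun j => x j ≡ k [ZMOD 4]) ↔ x i ≡ k [ZMOD 4] := by
  simp

theorem sum_const_golayPt (m : ℤ) : ∑ _i : GolayPt, m = 24 * m := by
  rw [Finset.sum_const, Finset.card_univ, nsmul_eq_mul]
  rfl

theorem mem_leechSet_iff {x : GolayPt → ℤ} : x ∈ leechSet ↔ ∃ m w, LeechForm x m w := by
  constructor
  · rintro ⟨m, hpar, hsum, hcl⟩
    refine ⟨m, fun i => (x i - m) / 2, fun i => ?_, ?_, ?_⟩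
    · have := hpar i
      simp only [Int.ModEq] at this
      show x i = m + 2 * ((x i - m) / 2)
      omega
    · obtain ⟨v, hv, he⟩ := hcl (m + 2)
      have : redTwo (fun i => (x i - m) / 2) = v := by
        refine support₂_injective ?_
        rw [he]
        ext i
        rw [mem_support₂, mem_classMod, redTwo, intCast_zmod2_ne_zero_iff]
        have h := hpar i
        simp only [Int.ModEq] at h ⊢
        omega
      rw [this]
      exact hv
    · have h2 : ∑ i, x i = 24 * m + 2 * ∑ i, (x i - m) / 2 := by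
        rw [Finset.mul_sum, ← sum_const_golayPt m, ← Finset.sum_add_distrib]
        refine Finset.sum_congr rfl fun i _ => ?_
        have := hpar i
        simp only [Int.ModEq] at this
        omega
      simp only [Int.ModEq] at hsum ⊢
      omega
  · rintro ⟨m, w, hx, hw, hs⟩
    refine ⟨m, fun i => ?_, ?_, fun k => ?_⟩
    · simp only [Int.ModEq, hx i]; omega
    · simp only [Int.ModEq] at hs ⊢
      simp only [hx, Finset.sum_add_distrib, sum_const_golayPt, ← Finset.mul_sum]
      omega
    · rcases (by omega : (k - m) % 4 = 0 ∨ (k - m) % 4 = 2 ∨ (k - m) % 2 = 1) with h | h | h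
      · refine ⟨redTwo w + 1, add_mem hw one_mem_golayCode, ?_⟩
        ext i
        rw [mem_support₂, mem_classMod]
        simp only [redTwo, Pi.add_apply, Pi.one_apply, Int.ModEq, hx i]
        rw [show ((w i : ZMod 2) + 1) = ((w i + 1 : ℤ) : ZMod 2) by push_cast; ring,
          intCast_zmod2_ne_zero_iff]
        omega
      · refine ⟨redTwo w, hw, ?_⟩
        ext i
        rw [mem_support₂, mem_classMod, redTwo, intCast_zmod2_ne_zero_iff]
        simp only [Int.ModEq, hx i]
        omega
      · refine ⟨0, zero_mem _, ?_⟩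
        ext i
        rw [mem_support₂, mem_classMod]
        simp only [Pi.zero_apply, ne_eq, not_true_eq_false, false_iff, Int.ModEq, hx i]
        omega

theorem redTwo_add (v w : GolayPt → ℤ) : redTwo (v + w) = redTwo v + redTwo w := by
  funext i; simp [redTwo]

theorem redTwo_neg (w : GolayPt → ℤ) : redTwo (-w) = -redTwo w := by
  funext i; simp [redTwo]

theorem LeechForm.add {x y : GolayPt → ℤ} {m n : ℤ} {v w : GolayPt → ℤ}
    (hx : LeechForm x m v) (hy : LeechForm y n w) : LeechForm (x + y) (m + n) (v + w) := by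
  refine ⟨fun i => ?_, ?_, ?_⟩
  · simp only [Pi.add_apply, hx.1 i, hy.1 i]; ring
  · rw [redTwo_add]; exact add_mem hx.2.1 hy.2.1
  · simp only [Pi.add_apply, Finset.sum_add_distrib, mul_add]
    exact hx.2.2.add hy.2.2

theorem LeechForm.neg {x : GolayPt → ℤ} {m : ℤ} {v : GolayPt → ℤ}
    (hx : LeechForm x m v) : LeechForm (-x) (-m) (-v) := by
  refine ⟨fun i => ?_, ?_, ?_⟩
  · simp only [Pi.neg_apply, hx.1 i]; ring
  · rw [redTwo_neg]; exact neg_mem hx.2.1
  · simp only [Pi.neg_apply, Finset.sum_neg_distrib, mul_neg]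
    exact hx.2.2.neg

theorem LeechForm.zero : LeechForm 0 0 0 :=
  ⟨fun i => by simp, by
    have : redTwo 0 = 0 := funext fun i => by simp [redTwo]
    rw [this]; exact zero_mem _, by simp⟩

/-- `leechSet` as a subgroup. -/
def leechSub : AddSubgroup (GolayPt → ℤ) where
  carrier := leechSet
  zero_mem' := mem_leechSet_iff.mpr ⟨0, 0, LeechForm.zero⟩
  add_mem' := fun hx hy => by
    obtain ⟨m, v, hx⟩ := mem_leechSet_iff.mp hx
    obtain ⟨n, w, hy⟩ := mem_leechSet_iff.mp hy
    exact mem_leechSet_iff.mpr ⟨_, _, hx.add hy⟩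
  neg_mem' := fun hx => by
    obtain ⟨m, v, hx⟩ := mem_leechSet_iff.mp hx
    exact mem_leechSet_iff.mpr ⟨_, _, hx.neg⟩

theorem leechLattice_eq : leechLattice = leechSub := by
  rw [leechLattice]
  exact le_antisymm ((AddSubgroup.closure_le _).mpr fun x hx => hx)
    (fun x hx => AddSubgroup.subset_closure hx)

theorem coe_leechLattice : (leechLattice : Set (GolayPt → ℤ)) = leechSet := by
  rw [leechLattice_eq]; rfl

theorem mem_leechLattice_iff {x : GolayPt → ℤ} :
    x ∈ leechLattice ↔ ∃ m w, LeechForm x m w := by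
  rw [← SetLike.mem_coe, coe_leechLattice, mem_leechSet_iff]

theorem sqNorm_of_form {x : GolayPt → ℤ} {m : ℤ} {w : GolayPt → ℤ} (hx : ∀ i, x i = m + 2 * w i) :
    sqNorm x = 24 * m ^ 2 + 4 * m * (∑ i, w i) + 4 * ∑ i, w i ^ 2 := by
  simp only [sqNorm, hx, Finset.mul_sum]
  rw [show (24 : ℤ) * m ^ 2 = ∑ _i : GolayPt, m ^ 2 from (sum_const_golayPt _).symm,
    ← Finset.sum_add_distrib, ← Finset.sum_add_distrib]
  exact Finset.sum_congr rfl fun i _ => by ring

theorem sum_sq_mod_four {ι : Type*} [Fintype ι] (w : ι → ℤ) :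
    (∑ i, w i ^ 2) ≡ ((Finset.univ.filter fun i => (w i : ZMod 2) ≠ 0).card : ℤ) [ZMOD 4] := by
  rw [Finset.card_filter, Nat.cast_sum]
  refine Int.ModEq.sum fun i _ => ?_
  split_ifs with h
  · rw [intCast_zmod2_ne_zero_iff] at h
    obtain ⟨k, hk⟩ : ∃ k, w i = 2 * k + 1 := ⟨w i / 2, by omega⟩
    refine (Int.modEq_iff_dvd.mpr ⟨k ^ 2 + k, ?_⟩).symm
    rw [hk]; push_cast; ring
  · rw [intCast_zmod2_ne_zero_iff] at h
    obtain ⟨k, hk⟩ : ∃ k, w i = 2 * k := ⟨w i / 2, by omega⟩
    refine (Int.modEq_iff_dvd.mpr ⟨k ^ 2, ?_⟩).symm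
    rw [hk]; push_cast; ring

/-- The lattice is even in the customary scaling. -/
theorem sixteen_dvd_sqNorm {x : GolayPt → ℤ} (hx : x ∈ leechLattice) : (16 : ℤ) ∣ sqNorm x := by
  obtain ⟨m, w, hf, hw, hs⟩ := mem_leechLattice_iff.mp hx
  rw [sqNorm_of_form hf]
  have hq : (∑ i, w i ^ 2) ≡ 0 [ZMOD 4] := by
    refine (sum_sq_mod_four w).trans ?_
    have h : hammingNorm (redTwo w) = (Finset.univ.filter fun i => (w i : ZMod 2) ≠ 0).card := rfl
    rw [← h]
    rcases hammingNorm_mem_golayCode hw with e | e | e | e | e <;> rw [e] <;> decide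
  obtain ⟨a, ha⟩ := Int.modEq_iff_dvd.mp hs
  obtain ⟨b, hb⟩ := Int.modEq_iff_dvd.mp hq
  refine ⟨2 * m ^ 2 - m * a - b, ?_⟩
  have ha' : (∑ i, w i) = 2 * m - 4 * a := by linarith
  have hb' : (∑ i, w i ^ 2) = - 4 * b := by linarith
  rw [ha', hb']; ring

theorem sqNorm_add {α : Type*} [Fintype α] (x y : α → ℤ) :
    sqNorm (x + y) = sqNorm x + 2 * dotInt x y + sqNorm y := by
  simp only [sqNorm, dotInt, Pi.add_apply, Finset.mul_sum, ← Finset.sum_add_distrib]
  exact Finset.sum_congr rfl fun i _ => by ring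

theorem eight_dvd_dotInt {x y : GolayPt → ℤ} (hx : x ∈ leechLattice) (hy : y ∈ leechLattice) :
    (8 : ℤ) ∣ dotInt x y := by
  obtain ⟨a, ha⟩ := sixteen_dvd_sqNorm hx
  obtain ⟨b, hb⟩ := sixteen_dvd_sqNorm hy
  obtain ⟨c, hc⟩ := sixteen_dvd_sqNorm (add_mem hx hy)
  refine ⟨c - a - b, ?_⟩
  rw [sqNorm_add] at hc
  linarith

/-- The minimum of the lattice. -/
theorem thirtyTwo_le_sqNorm {x : GolayPt → ℤ} (hx : x ∈ leechLattice) (h0 : x ≠ 0) :
    32 ≤ sqNorm x := by
  have hpos : 0 < sqNorm x := by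
    obtain ⟨i, hi⟩ := Function.ne_iff.mp h0
    refine Finset.sum_pos' (fun j _ => sq_nonneg (x j)) ⟨i, Finset.mem_univ i, ?_⟩
    exact (sq_pos_iff).mpr hi
  obtain ⟨k, hk⟩ := sixteen_dvd_sqNorm hx
  by_contra hlt
  have hk1 : k = 1 := by omega
  subst hk1
  obtain ⟨m, w, hf, hw, hs⟩ := mem_leechLattice_iff.mp hx
  rcases Int.emod_two_eq_zero_or_one m with hm | hm
  · obtain ⟨n, rfl⟩ : ∃ n, m = 2 * n := ⟨m / 2, by omega⟩
    let u : GolayPt → ℤ := fun i => n + w i
    have hxu : ∀ i, x i = 2 * u i := fun i => by rw [hf i]; simp only [u]; ring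
    have hu4 : ∑ i, u i ^ 2 = 4 := by
      have : sqNorm x = 4 * ∑ i, u i ^ 2 := by
        rw [sqNorm, Finset.mul_sum]
        exact Finset.sum_congr rfl fun i _ => by rw [hxu i]; ring
      omega
    have hmem : redTwo u ∈ golayCode := by
      rcases Int.emod_two_eq_zero_or_one n with hn | hn
      · have : redTwo u = redTwo w := by
          funext i
          have : (n : ZMod 2) = 0 := (ZMod.intCast_zmod_eq_zero_iff_dvd n 2).mpr (by omega)
          simp [u, redTwo, this]
        rw [this]; exact hw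
      · have : redTwo u = redTwo w + 1 := by
          funext i
          obtain ⟨q, rfl⟩ : ∃ q, n = 2 * q + 1 := ⟨n / 2, by omega⟩
          have h2 : (2 : ZMod 2) = 0 := rfl
          simp [u, redTwo, h2, add_comm]
        rw [this]; exact add_mem hw one_mem_golayCode
    have hcard : hammingNorm (redTwo u) ≤ 4 := by
      have h1 : ((Finset.univ.filter fun i => (u i : ZMod 2) ≠ 0).card : ℤ) ≤ ∑ i, u i ^ 2 := by
        rw [Finset.card_filter, Nat.cast_sum]
        refine Finset.sum_le_sum fun i _ => ?_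
        split_ifs with h
        · rw [intCast_zmod2_ne_zero_iff] at h
          have : u i ≠ 0 := by omega
          have := Int.one_le_abs this
          show ((1 : ℕ) : ℤ) ≤ _
          push_cast
          nlinarith [sq_abs (u i)]
        · simpa using sq_nonneg (u i)
      rw [hu4] at h1
      exact_mod_cast h1
    have h0' : hammingNorm (redTwo u) = 0 := by
      rcases hammingNorm_mem_golayCode hmem with e | e | e | e | e <;> omega
    have heven : ∀ i, ∃ q, u i = 2 * q := fun i => by
      have := congrFun (hammingNorm_eq_zero.mp h0') i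
      simp only [redTwo, Pi.zero_apply, ZMod.intCast_zmod_eq_zero_iff_dvd] at this
      exact this
    choose q hq using heven
    have hq1 : ∑ i, q i ^ 2 = 1 := by
      have : ∑ i, u i ^ 2 = 4 * ∑ i, q i ^ 2 := by
        rw [Finset.mul_sum]
        exact Finset.sum_congr rfl fun i _ => by rw [hq i]; ring
      omega
    have hodd : (∑ i, q i) % 2 = 1 := by
      have h2 : (∑ i, q i ^ 2) ≡ (∑ i, q i) [ZMOD 2] := Int.ModEq.sum fun i _ => by
        refine Int.modEq_iff_dvd.mpr ?_
        have : q i - q i ^ 2 = - (q i * (q i - 1)) := by ring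
        rw [this]
        exact (Int.even_mul_pred_self (q i)).two_dvd.neg_right
      rw [hq1] at h2
      simp only [Int.ModEq] at h2
      omega
    have hsum : ∑ i, w i = 2 * (∑ i, q i) - 24 * n := by
      rw [Finset.mul_sum, ← sum_const_golayPt n, ← Finset.sum_sub_distrib]
      refine Finset.sum_congr rfl fun i _ => ?_
      rw [← hq i]; simp [u]
    simp only [Int.ModEq, hsum] at hs
    omega
  · have h24 : (24 : ℤ) ≤ sqNorm x := by
      rw [show (24 : ℤ) = ∑ _i : GolayPt, (1 : ℤ) by rw [sum_const_golayPt]; norm_num]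
      refine Finset.sum_le_sum fun i _ => ?_
      have : x i ≠ 0 := by rw [hf i]; omega
      have := Int.one_le_abs this
      nlinarith [sq_abs (x i)]
    omega

theorem LeechForm.comp {x : GolayPt → ℤ} {m : ℤ} {w : GolayPt → ℤ} (h : LeechForm x m w)
    {σ : Equiv.Perm GolayPt} (hσ : σ ∈ M24) :
    LeechForm (fun i => x (σ i)) m (fun i => w (σ i)) := by
  refine ⟨fun i => h.1 (σ i), ?_, ?_⟩
  · have := (mem_M24_iff σ⁻¹).mp (inv_mem hσ) _ h.2.1
    exact this
  · rw [Equiv.sum_comp σ w]; exact h.2.2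

theorem perm_mem_leechLattice {σ : Equiv.Perm GolayPt} (hσ : σ ∈ M24) {x : GolayPt → ℤ}
    (hx : x ∈ leechLattice) : (fun i => x (σ i)) ∈ leechLattice := by
  obtain ⟨m, w, h⟩ := mem_leechLattice_iff.mp hx
  exact mem_leechLattice_iff.mpr ⟨_, _, h.comp hσ⟩

theorem sign_mem_leechLattice {c : Finset GolayPt}
    (hc : c ∈ supports (golayCode : Set (GolayPt → ZMod 2))) {x : GolayPt → ℤ}
    (hx : x ∈ leechLattice) : (fun i => if i ∈ c then -x i else x i) ∈ leechLattice := by
  obtain ⟨v, hv, rfl⟩ := hc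
  obtain ⟨m, w, hf, hw, hs⟩ := mem_leechLattice_iff.mp hx
  refine mem_leechLattice_iff.mpr
    ⟨m, fun i => if i ∈ support₂ v then -w i - m else w i, fun i => ?_, ?_, ?_⟩
  · simp only [hf i]
    split_ifs <;> ring
  · have : redTwo (fun i => if i ∈ support₂ v then -w i - m else w i)
        = redTwo w + (m : ZMod 2) • v := by
      funext i
      simp only [redTwo, Pi.add_apply, Pi.smul_apply, smul_eq_mul]
      by_cases h : i ∈ support₂ v
      · have hv1 : v i = 1 := by
          simp only [support₂, Finset.mem_filter, Finset.mem_univ, true_and] at h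
          exact (zmod2_cases (v i)).resolve_left h
        rw [if_pos h, hv1]
        push_cast
        rw [sub_eq_add_neg, ZMod.neg_eq_self_mod_two, ZMod.neg_eq_self_mod_two, mul_one]
      · have hv0 : v i = 0 := by
          simp only [support₂, Finset.mem_filter, Finset.mem_univ, true_and, not_not] at h
          exact h
        rw [if_neg h, hv0, mul_zero, add_zero]
    rw [this]
    exact add_mem hw (Submodule.smul_mem _ _ hv)
  · have hsum : (∑ i, if i ∈ support₂ v then -w i - m else w i)
        = (∑ i, w i) - 2 * (∑ i ∈ support₂ v, w i) - m * (support₂ v).card := by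
      have e : ∀ i, (if i ∈ support₂ v then -w i - m else w i)
          = w i - (if i ∈ support₂ v then 2 * w i + m else 0) := fun i => by split_ifs <;> ring
      rw [Finset.sum_congr rfl fun i _ => e i, Finset.sum_sub_distrib, Finset.sum_ite_mem,
        Finset.univ_inter, Finset.sum_add_distrib, ← Finset.mul_sum, Finset.sum_const, nsmul_eq_mul]
      ring
    have heven : (2 : ℤ) ∣ ∑ i ∈ support₂ v, w i := by
      rw [← Int.modEq_zero_iff_dvd]
      have h := golayCode_orth hv hw
      have e : ((∑ i ∈ support₂ v, w i : ℤ) : ZMod 2) = ∑ i, v i * redTwo w i := by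
        push_cast
        rw [← Finset.sum_subset (Finset.subset_univ (support₂ v))
          (f := fun i => v i * redTwo w i) ?_]
        · refine Finset.sum_congr rfl fun i hi => ?_
          simp only [support₂, Finset.mem_filter, Finset.mem_univ, true_and] at hi
          rw [(zmod2_cases (v i)).resolve_left hi, one_mul]
          rfl
        · intro i _ hi
          simp only [support₂, Finset.mem_filter, Finset.mem_univ, true_and, not_not] at hi
          rw [hi, zero_mul]
      rw [h] at e
      exact Int.modEq_zero_iff_dvd.mpr ((ZMod.intCast_zmod_eq_zero_iff_dvd _ 2).mp e)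
    have h4 : ((support₂ v).card : ℤ) % 4 = 0 := by
      have h : hammingNorm v = (support₂ v).card := rfl
      rcases hammingNorm_mem_golayCode hv with e | e | e | e | e <;>
        rw [← h, e] <;> rfl
    obtain ⟨t, ht⟩ := heven
    obtain ⟨s, hs4⟩ : ∃ s : ℤ, ((support₂ v).card : ℤ) = 4 * s := Int.dvd_of_emod_eq_zero h4
    refine Int.ModEq.trans ?_ hs
    refine Int.modEq_iff_dvd.mpr ⟨t + m * s, ?_⟩
    rw [hsum, ht, hs4]; ring

end Cfsg.Agent.Lib.Compute
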