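import Cfsg.Agent.Lib.Compute.Leech

/-!
# The index of the lattice in `ℤ^24`
-/

namespace Cfsg.Agent.Lib.Compute

open Cfsg

/-- Vectors whose coordinates all have the same parity. -/
def parityHom : (GolayPt → ℤ) →+ ({i : GolayPt // i ≠ none} → ZMod 2) where
  toFun x i := ((x i - x none : ℤ) : ZMod 2)
  map_zero' := by funext i; simp
  map_add' x y := by funext i; simp only [Pi.add_apply]; push_cast; ring

theorem mem_parity_ker {x : GolayPt → ℤ} :
    x ∈ parityHom.ker ↔ ∀ i, (x i - x none) % 2 = 0 := by
  rw [AddMonoidHom.mem_ker]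
  constructor
  · intro h i
    by_cases hi : i = none
    · subst hi; simp
    · have := congrFun h ⟨i, hi⟩
      simp only [parityHom, AddMonoidHom.coe_mk, ZeroHom.coe_mk, Pi.zero_apply,
        ZMod.intCast_zmod_eq_zero_iff_dvd] at this
      omega
  · intro h
    funext i
    simp only [parityHom, AddMonoidHom.coe_mk, ZeroHom.coe_mk, Pi.zero_apply,
      ZMod.intCast_zmod_eq_zero_iff_dvd]
    have := h i
    omega

theorem index_parity : parityHom.ker.index = 2 ^ 23 := by
  rw [AddSubgroup.index_ker, AddMonoidHom.range_eq_top.mpr ?_, AddSubgroup.card_top,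
    Nat.card_fun, Nat.card_zmod]
  · congr 1
    rw [Nat.card_eq_fintype_card]
    decide
  · intro v
    refine ⟨fun i => if h : i = none then 0 else ((v ⟨i, h⟩).val : ℤ), ?_⟩
    funext i
    simp [parityHom, i.2]

/-- Half of the differences, modulo 2 and the code. -/
def classHom : parityHom.ker →+ ((GolayPt → ZMod 2) ⧸ golayCode.toAddSubgroup) where
  toFun x := QuotientAddGroup.mk (redTwo fun i => ((x : GolayPt → ℤ) i - (x : GolayPt → ℤ) none) / 2)
  map_zero' := by
    rw [← QuotientAddGroup.mk_zero]
    congr 1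
  map_add' x y := by
    rw [← QuotientAddGroup.mk_add]
    congr 1
    funext i
    have hx := mem_parity_ker.mp x.2 i
    have hy := mem_parity_ker.mp y.2 i
    simp only [redTwo, Pi.add_apply, AddSubgroup.coe_add]
    rw [← Int.cast_add]
    congr 1
    omega

theorem index_class : classHom.ker.index = 2 ^ 12 := by
  rw [AddSubgroup.index_ker, AddMonoidHom.range_eq_top.mpr ?_, AddSubgroup.card_top]
  · have h := golayCode.toAddSubgroup.card_eq_card_quotient_mul_card_addSubgroup
    have hV : Nat.card (GolayPt → ZMod 2) = 2 ^ 24 := by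
      rw [Nat.card_fun, Nat.card_zmod, Nat.card_eq_fintype_card]; rfl
    have hC : Nat.card golayCode.toAddSubgroup = 4096 := card_golayCode
    rw [hV, hC] at h
    norm_num at h ⊢
    omega
  · intro q
    induction q using QuotientAddGroup.induction_on with
    | _ v =>
      refine ⟨⟨fun i => 2 * ((v i).val : ℤ), mem_parity_ker.mpr fun i => by omega⟩, ?_⟩
      show QuotientAddGroup.mk _ = QuotientAddGroup.mk _
      rw [QuotientAddGroup.eq]
      show -_ + v ∈ golayCode
      have e : -(redTwo fun i => (2 * ((v i).val : ℤ) - 2 * ((v none).val : ℤ)) / 2) + v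
          = v none • (1 : GolayPt → ZMod 2) := by
        funext i
        simp only [Pi.add_apply, Pi.neg_apply, Pi.smul_apply, Pi.one_apply, redTwo, smul_eq_mul,
          mul_one]
        rw [← mul_sub, Int.mul_ediv_cancel_left _ (by norm_num : (2 : ℤ) ≠ 0)]
        push_cast
        rw [ZMod.natCast_rightInverse, ZMod.natCast_rightInverse]
        ring
      rw [e]
      exact Submodule.smul_mem _ _ one_mem_golayCode

theorem mem_class_ker {x : parityHom.ker} : x ∈ classHom.ker ↔
    redTwo (fun i => ((x : GolayPt → ℤ) i - (x : GolayPt → ℤ) none) / 2) ∈ golayCode := by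
  rw [AddMonoidHom.mem_ker]
  exact QuotientAddGroup.eq_zero_iff _

theorem even_sum_of_mem {w : GolayPt → ℤ} (h : redTwo w ∈ golayCode) : (∑ i, w i) % 2 = 0 := by
  have h1 := golayCode_orth one_mem_golayCode h
  simp only [Pi.one_apply, one_mul, redTwo, ← Int.cast_sum,
    ZMod.intCast_zmod_eq_zero_iff_dvd] at h1
  omega

/-- The last congruence. -/
def sumHom : classHom.ker →+ ZMod 2 where
  toFun x := ((((∑ i, ((x.1 : GolayPt → ℤ) i - (x.1 : GolayPt → ℤ) none) / 2)
    - 2 * (x.1 : GolayPt → ℤ) none) / 2 : ℤ) : ZMod 2)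
  map_zero' := by simp
  map_add' x y := by
    have hx := even_sum_of_mem (mem_class_ker.mp x.2)
    have hy := even_sum_of_mem (mem_class_ker.mp y.2)
    have hs : (∑ i, (((x + y).1 : GolayPt → ℤ) i - ((x + y).1 : GolayPt → ℤ) none) / 2)
        = (∑ i, ((x.1 : GolayPt → ℤ) i - (x.1 : GolayPt → ℤ) none) / 2)
          + ∑ i, ((y.1 : GolayPt → ℤ) i - (y.1 : GolayPt → ℤ) none) / 2 := by
      rw [← Finset.sum_add_distrib]
      refine Finset.sum_congr rfl fun i _ => ?_
      have h1 := mem_parity_ker.mp x.1.2 i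
      have h2 := mem_parity_ker.mp y.1.2 i
      simp only [AddSubgroup.coe_add, Pi.add_apply]
      omega
    rw [← Int.cast_add, hs]
    congr 1
    simp only [AddSubgroup.coe_add, Pi.add_apply]
    omega

theorem index_sum : sumHom.ker.index = 2 := by
  rw [AddSubgroup.index_ker, AddMonoidHom.range_eq_top.mpr ?_, AddSubgroup.card_top, Nat.card_zmod]
  intro q
  rcases zmod2_cases q with rfl | rfl
  · exact ⟨0, map_zero _⟩
  · -- the constant vector 1
    refine ⟨⟨⟨fun _ => 1, mem_parity_ker.mpr fun _ => by simp⟩, ?_⟩, ?_⟩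
    · rw [mem_class_ker]
      have : (redTwo fun i : GolayPt => (((fun _ : GolayPt => (1 : ℤ)) i) - 1) / 2) = 0 := by
        funext i; simp [redTwo]
      rw [this]; exact zero_mem _
    · simp [sumHom]

theorem map_sum_ker :
    (sumHom.ker.map classHom.ker.subtype).map parityHom.ker.subtype = leechLattice := by
  ext x
  constructor
  · rintro ⟨a, ⟨b, hb, rfl⟩, rfl⟩
    have hb' : sumHom b = 0 := hb
    simp only [sumHom, AddMonoidHom.coe_mk, ZeroHom.coe_mk,
      ZMod.intCast_zmod_eq_zero_iff_dvd] at hb'
    refine mem_leechLattice_iff.mpr ⟨(b.1 : GolayPt → ℤ) none,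
      fun i => ((b.1 : GolayPt → ℤ) i - (b.1 : GolayPt → ℤ) none) / 2, fun i => ?_,
      mem_class_ker.mp b.2, ?_⟩
    · have := mem_parity_ker.mp b.1.2 i
      show (b.1 : GolayPt → ℤ) i = (b.1 : GolayPt → ℤ) none
        + 2 * (((b.1 : GolayPt → ℤ) i - (b.1 : GolayPt → ℤ) none) / 2)
      omega
    · have := even_sum_of_mem (mem_class_ker.mp b.2)
      simp only [Int.ModEq]
      omega
  · intro hx
    obtain ⟨m, w, hf, hw, hs⟩ := mem_leechLattice_iff.mp hx
    have hp : x ∈ parityHom.ker := mem_parity_ker.mpr fun i => by rw [hf i, hf none]; omega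
    have hdiff : (fun i => (x i - x none) / 2) = fun i => w i - w none := by
      funext i; rw [hf i, hf none]; omega
    have hc : (⟨x, hp⟩ : parityHom.ker) ∈ classHom.ker := by
      rw [mem_class_ker]
      show redTwo (fun i => (x i - x none) / 2) ∈ golayCode
      rw [hdiff]
      have : (redTwo fun i => w i - w none) = redTwo w + (w none : ZMod 2) • 1 := by
        funext i
        simp only [redTwo, Pi.add_apply, Pi.smul_apply, Pi.one_apply, smul_eq_mul, mul_one]
        push_cast
        rw [sub_eq_add_neg, ZMod.neg_eq_self_mod_two]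
      rw [this]
      exact add_mem hw (Submodule.smul_mem _ _ one_mem_golayCode)
    refine ⟨⟨x, hp⟩, ⟨⟨⟨x, hp⟩, hc⟩, ?_, rfl⟩, rfl⟩
    show sumHom _ = 0
    simp only [sumHom, AddMonoidHom.coe_mk, ZeroHom.coe_mk, ZMod.intCast_zmod_eq_zero_iff_dvd]
    have h2 : (∑ i, (x i - x none) / 2) = (∑ i, w i) - 24 * w none := by
      rw [← sum_const_golayPt (w none), ← Finset.sum_sub_distrib]
      exact Finset.sum_congr rfl fun i _ => congrFun hdiff i
    rw [h2, hf none]
    simp only [Int.ModEq] at hs
    omega

theorem index_leechLattice : leechLattice.index = 2 ^ 36 := by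
  rw [← map_sum_ker, AddSubgroup.index_map_of_injective _ (AddSubgroup.subtype_injective _),
    AddSubgroup.index_map_of_injective _ (AddSubgroup.subtype_injective _),
    AddSubgroup.range_subtype, AddSubgroup.range_subtype, index_sum, index_class, index_parity]
  norm_num

end Cfsg.Agent.Lib.Compute
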