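import Cfsg.Agent.Lib.Compute.MathieuDodec

/-!
# A Sylow 2-subgroup of `cert11` and how fusion generates it from its central involution
-/

namespace Cfsg.Agent.Lib.Compute

/-- level 0 of `m11Syl2` -/
def m11Syl20 : Lvl where
  base := 2
  gens := [(0x110017000e0013001500120007000400050014000c0002000a000b000800100016000d000f00090003000600010000, 0x1600070013000e0014001200170008000500150006000d000a000b0004000900110002000f00100003000c00010000), (0x17000e001400150011000100130009000f0016000d0008000b00050010000c00070004000a00060003000200120000, 0x17000e001400150011000100130009000f0016000d0008000b00050010000c00070004000a00060003000200120000)]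
  trans := [(0x110017000e0013001500120007000400050014000c0002000a000b000800100016000d000f00090003000600010000, 0, 0),
    (0x7001100140015000e001200160009000f001300020006000b000a001000040017000c000500080003000d00010000, 0, 1),
    (0x130017001600110014000100070006000a0015000800020005000b000c0009000e000d000f00100003000400120000, 1, 1),
    (0x1600070013000e0014001200170008000500150006000d000a000b0004000900110002000f00100003000c00010000, 0, 2),
    (0x15001100170007001300010016000d000b000e00100006000f000a000200080014000c000500040003000900120000, 0, 3),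
    (0xe000700110016001500010017000c000a00140004000d0005000b0006001000130002000f00090003000800120000, 1, 4),
    (0x1400130017000700110012000e000d000b001600090004000f00050002000c00150008000a00060003001000010000, 1, 5)]
  wit := [[[1],[2],[4],[5],[0],[6],[7,1],[3,1]],
    [[0,1],[3],[2,1],[1],[6],[7],[4],[5]]]

/-- level 1 of `m11Syl2` -/
def m11Syl21 : Lvl where
  base := 1
  gens := [(0x17000e001400150011000100130009000f0016000d0008000b00050010000c00070004000a00060003000200120000, 0x17000e001400150011000100130009000f0016000d0008000b00050010000c00070004000a00060003000200120000)]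
  trans := [(0x17000e001400150011000100130009000f0016000d0008000b00050010000c00070004000a00060003000200120000, 0, 0)]
  wit := [[[1],[0]]]

/-- the certificate `m11Syl2`, orbit lengths [8, 2] -/
def m11Syl2 : List Lvl := [m11Syl20, m11Syl21]

/-- Index lists of the generators inside `cert11`. -/
def m11Syl2Wit : List (List ℕ) := [[0, 2, 6, 3], [5, 9, 6, 7]]

/-- The central involution. -/
def m11Syl2Z : List ℕ := [2, 0]

/-- The closure steps. -/
def m11Syl2Steps : List (List ℕ × ℕ × ℕ × Bool × List ℕ) := [
  ([0, 1], 0, 0, true, [7, 0, 5, 1]),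
  ([5, 0], 0, 0, true, [2, 0, 2, 3]),
  ([7, 0], 1, 2, false, []),
  ([3, 1], 3, 0, true, [0, 0, 5, 6]),
  ([1, 0], 3, 4, false, [])]

/-- The relations given by the powers 1, 2, 4. -/
def m11Syl2Rel : List (List ℕ) := [
  [0x1, 0x40002, 0x13354, 0x8, 0x13354, 0x8c20, 0x13354, 0xfa4080, 0x13354, 0x13354, 0x8c20, 0x8c20, 0x13354, 0x13354, 0xfa4080, 0x8c20, 0x13354, 0xfa4080, 0x40002, 0xfa4080, 0xfa4080, 0xfa4080, 0xfa4080, 0xfa4080],
  [0x1, 0x2, 0x12204, 0x8, 0x1150, 0x420, 0x1150, 0xb00080, 0x1150, 0x12204, 0x420, 0x8800, 0x1150, 0x12204, 0x4a4000, 0x8800, 0x12204, 0x4a4000, 0x40000, 0x4a4000, 0xb00080, 0xb00080, 0x4a4000, 0xb00080],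
  [0x1, 0x2, 0x2004, 0x8, 0x110, 0x20, 0x1040, 0x800080, 0x110, 0x10200, 0x400, 0x800, 0x1040, 0x2004, 0x84000, 0x8000, 0x10200, 0x420000, 0x40000, 0x84000, 0x300000, 0x300000, 0x420000, 0x800080]]

end Cfsg.Agent.Lib.Compute
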