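import Cfsg.Agent.Lib.Compute.MathieuDodec

/-!
# Elements and Sylow 3-subgroup of `cert1` for its multiplier
-/

set_option autoImplicit false

namespace Cfsg.Agent.Lib.Compute

/-- level 0 of `m23ECert` -/
def m23ECert0 : Lvl where
  base := 2
  gens := [(0x900160015000500130010000d000b0014000e000600070012000c00080017000a0011000f00020004000300010000, 0x800160015000f0013000b000600120005000e0011000a0010000700170009000c000d001400030002000400010000), (0x800010015000a0013000f000d0014000700160006000b000500100017000900120011000c000400030002000e0000, 0x9000e00150010001300070006000a0012000100110005000c001400080017000f000d000b00040003000200160000)]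
  trans := [(0x900160015000500130010000d000b0014000e000600070012000c00080017000a0011000f00020004000300010000, 0, 0),
    (0x800160015000f0013000b000600120005000e0011000a0010000700170009000c000d001400030002000400010000, 0, 1)]
  wit := [[[1],[2],[0]],
    [[0,1],[1,1],[2,1]]]

/-- level 1 of `m23ECert` -/
def m23ECert1 : Lvl where
  base := 1
  gens := [(0x800010015000a0013000f000d0014000700160006000b000500100017000900120011000c000400030002000e0000, 0x9000e00150010001300070006000a0012000100110005000c001400080017000f000d000b00040003000200160000)]
  trans := [(0x800010015000a0013000f000d0014000700160006000b000500100017000900120011000c000400030002000e0000, 0, 0),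
    (0x9000e00150010001300070006000a0012000100110005000c001400080017000f000d000b00040003000200160000, 0, 1)]
  wit := [[[1],[2],[0]]]

/-- the certificate `m23ECert`, orbit lengths [3, 3] -/
def m23ECert : List Lvl := [m23ECert0, m23ECert1]

/-- base of `m23ESteps` -/
def m23EBase : List ℕ := [0x900160015000500130010000d000b0014000e000600070012000c00080017000a0011000f00020004000300010000, 0x800010015000a0013000f000d0014000700160006000b000500100017000900120011000c000400030002000e0000]

/-- straight-line program over `m23EBase` -/
def m23ESteps : List (ℕ × ℕ × ℕ × Bool) := [
  ]

/-- An element of `cert1`. -/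
def m23Q5 : ℕ := 0x7001300090014000c0010000100040006000e000800110003000d000a001500050017000f000b0012000200160000

/-- Its index list. -/
def m23Q5Wit : List ℕ := [3, 15, 18, 8, 1, 3]

/-- An element of `cert1`. -/
def m23Q7 : ℕ := 0x6000100140013000a000e00150016000f000d00020011001000050017000800040012000c000b0007000900030000

/-- Its index list. -/
def m23Q7Wit : List ℕ := [13, 10, 12, 18, 1, 12]

/-- An element of `cert1`. -/
def m23Q11 : ℕ := 0x17000c0004000e00080011001400050015000f0001000b00020003000d0009000600120016000a0007001300100000

/-- Its index list. -/
def m23Q11Wit : List ℕ := [9, 19, 18, 0, 2, 10]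

/-- An element of `cert1`. -/
def m23Q23 : ℕ := 0xa00130004000100120015000c0007000800160010000e000f000d00170002001400090011000b0005000600030000

/-- Its index list. -/
def m23Q23Wit : List ℕ := [13, 2, 6, 10, 2, 11]

/-- An element of `cert1`. -/
def m23A3 : ℕ := 0x900160015000500130010000d000b0014000e000600070012000c00080017000a0011000f00020004000300010000

/-- Its index list. -/
def m23A3Wit : List ℕ := [0, 21, 4, 11, 1, 8]

/-- An element of `cert1`. -/
def m23B3 : ℕ := 0x800010015000a0013000f000d0014000700160006000b000500100017000900120011000c000400030002000e0000

/-- Its index list. -/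
def m23B3Wit : List ℕ := [12, 3, 4, 5, 1, 0]

/-- An element of `cert1`. -/
def m23G3 : ℕ := 0x6001600130005001500120008000b000f000e0009000a0010000c000d001100070017001400030004000200010000

/-- Its index list. -/
def m23G3Wit : List ℕ := [0, 0, 15, 2, 2, 5]

end Cfsg.Agent.Lib.Compute
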