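import Cfsg.Agent.Lib.Compute.M24BlockData
import Cfsg.Agent.Lib.Compute.M24

/-!
# The checks on the elements of odd prime order of `m24Cert`
-/

set_option autoImplicit false

namespace Cfsg.Agent.Lib.Compute

theorem cycOk_m24Cyc23 : cycOk 24 2 m24Cert m24Cyc23 = true := by decide +kernel

theorem cycOk_m24Cyc11 : cycOk 24 2 m24Cert m24Cyc11 = true := by decide +kernel

theorem cycOk_m24Cyc7 : cycOk 24 2 m24Cert m24Cyc7 = true := by decide +kernel

theorem cycOk_m24Cyc5 : cycOk 24 2 m24Cert m24Cyc5 = true := by decide +kernel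

theorem cycOk_m24Cyc3 : cycOk 24 2 m24Cert m24Cyc3 = true := by decide +kernel

end Cfsg.Agent.Lib.Compute
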