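import Cfsg.Agent.Lib.Compute.MathieuDodec

/-!
# Consequences: sharp transitivity of M₁₂, M₁₁ outside the dodecad, hexads, octad stabiliser
-/

namespace Cfsg.Agent.Lib.Compute

open Cfsg Equiv MulAction
open scoped Pointwise

theorem exists_smul_dodecad_five {d : Finset GolayPt} (hd : d ∈ dodecads)
    (x : Fin 5 ↪ GolayPt) (hx : ∀ i, x i ∈ d) :
    ∃ a : M24, a • setOf24 dodMask = d ∧
      ∀ j : Fin 5, a • enc.symm (Fin.castLE (by decide) j) = x j := by
  obtain ⟨g, rfl⟩ := exists_smul_dodecad setOf24_dodMask_mem hd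
  obtain ⟨σ, hσ, hσx⟩ := exists_map_m12 (fun j => enc (g⁻¹ • x j))
    (fun a b e => x.injective (MulAction.injective g⁻¹ (enc.injective e))) (fun j => by
      have := hx j
      rw [Finset.mem_smul_finset] at this
      obtain ⟨r, hr, he⟩ := this
      rw [← he, inv_smul_smul]
      exact mem_setOf24.mp hr)
  refine ⟨g * equivM24 ⟨σ, m12Cert_le_m24 hσ⟩, ?_, fun j => ?_⟩
  · rw [mul_smul, (mem_m12_iff ⟨σ, m12Cert_le_m24 hσ⟩).mpr hσ]
  · rw [mul_smul, equivM24_smul, Equiv.apply_symm_apply]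
    show g • enc.symm (σ _) = x j
    rw [hσx j, Equiv.symm_apply_apply, smul_inv_smul]

theorem sharp_five_dodecad {d : Finset GolayPt} (hd : d ∈ dodecads) (x y : Fin 5 ↪ GolayPt)
    (hx : ∀ i, x i ∈ d) (hy : ∀ i, y i ∈ d) :
    ∃! g : stabilizer M24 d, ∀ i, (g : M24) • x i = y i := by
  obtain ⟨a, had, hax⟩ := exists_smul_dodecad_five hd x hx
  obtain ⟨b, hbd, hby⟩ := exists_smul_dodecad_five hd y hy
  have hm : b * a⁻¹ ∈ stabilizer M24 d := by
    rw [mem_stabilizer_iff, mul_smul]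
    nth_rewrite 1 [← had]
    rw [inv_smul_smul, hbd]
  refine ⟨⟨b * a⁻¹, hm⟩, fun i => ?_, ?_⟩
  · show (b * a⁻¹) • x i = y i
    rw [mul_smul, ← hax i, inv_smul_smul, hby i]
  · rintro ⟨g, hg⟩ hgx
    apply Subtype.ext
    show g = b * a⁻¹
    have hk : b⁻¹ * g * a ∈ stabilizer M24 (setOf24 dodMask) := by
      rw [mem_stabilizer_iff, mul_smul, mul_smul, had, mem_stabilizer_iff.mp hg, inv_smul_eq_iff, hbd]
    obtain ⟨σ, hσe⟩ := equivM24.surjective (b⁻¹ * g * a)
    rw [← hσe] at hk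
    have hσ := (mem_m12_iff σ).mp hk
    have h1 : (σ : Perm (Fin 24)) = 1 := eq_one_m12 hσ fun j => by
      have e : equivM24 σ • enc.symm (Fin.castLE (by decide) j)
          = enc.symm (Fin.castLE (by decide : 5 ≤ 24) j) := by
        rw [hσe, mul_smul, mul_smul, hax j]
        have hgj : g • x j = y j := hgx j
        rw [hgj, inv_smul_eq_iff, hby j]
      rw [equivM24_smul, Equiv.apply_symm_apply] at e
      exact enc.symm.injective e
    have h2 : σ = 1 := Subtype.ext h1
    rw [h2, map_one, mul_assoc, eq_comm, inv_mul_eq_one] at hσe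
    rw [hσe, mul_inv_cancel_right]

theorem exists_smul_dodecad_three {d : Finset GolayPt} (hd : d ∈ dodecads) {p : GolayPt}
    (hp : p ∈ d) (x : Fin 3 ↪ GolayPt) (hx : ∀ i, x i ∉ d) :
    ∃ a : M24, a • setOf24 dodMask = d ∧ a • enc.symm 0 = p ∧
      ∀ j : Fin 3, a • enc.symm (![5, 7, 10] j) = x j := by
  obtain ⟨g, rfl, rfl⟩ := exists_smul_dodecad_point hd hp
  obtain ⟨σ, hσ, hσx⟩ := exists_map_m11_out (fun j => enc (g⁻¹ • x j))
    (fun a b e => x.injective (MulAction.injective g⁻¹ (enc.injective e))) (fun j hj => by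
      refine hx j ?_
      rw [Finset.mem_smul_finset]
      exact ⟨g⁻¹ • x j, mem_setOf24.mpr hj, smul_inv_smul _ _⟩)
  have hσ' := (mem_cert11 σ).mp hσ
  refine ⟨g * equivM24 ⟨σ, m12Cert_le_m24 hσ'.1⟩, ?_, ?_, fun j => ?_⟩
  · rw [mul_smul, (mem_m12_iff ⟨σ, m12Cert_le_m24 hσ'.1⟩).mpr hσ'.1]
  · rw [mul_smul, equivM24_smul, Equiv.apply_symm_apply]
    show g • enc.symm (σ 0) = _
    rw [hσ'.2]
  · rw [mul_smul, equivM24_smul, Equiv.apply_symm_apply]
    show g • enc.symm (σ _) = x j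
    rw [hσx j _ ?_, Equiv.symm_apply_apply, smul_inv_smul]
    revert j
    decide +kernel

theorem setOf24_land (a b : ℕ) : setOf24 (a &&& b) = setOf24 a ∩ setOf24 b := by
  ext p
  rw [Finset.mem_inter, mem_setOf24, mem_setOf24, mem_setOf24, Nat.testBit_land, Bool.and_eq_true]

theorem ncard_octads_inter_dodMask (k : ℕ) :
    {o : Finset GolayPt | o ∈ octads ∧ (o ∩ setOf24 dodMask).card = k}.ncard =
      ((codeList.filter fun m => pop m == 8).filter fun m => pop (m &&& dodMask) == k).length := by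
  have h : {o : Finset GolayPt | o ∈ octads ∧ (o ∩ setOf24 dodMask).card = k} =
      setOf24 '' {m | m ∈ (codeList.filter fun m => pop m == 8).filter
        fun m => pop (m &&& dodMask) == k} := by
    ext o
    simp only [Set.mem_ofPred_eq, Set.mem_image, List.mem_filter, beq_iff_eq, octads,
      wordsOfWeight_eq]
    constructor
    · rintro ⟨⟨m, hm, rfl⟩, hk⟩
      rw [← setOf24_land, card_setOf24] at hk
      exact ⟨m, ⟨hm, hk⟩, rfl⟩
    · rintro ⟨m, ⟨hm, hk⟩, rfl⟩
      exact ⟨⟨m, hm, rfl⟩, by rw [← setOf24_land, card_setOf24]; exact hk⟩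
  rw [h, Set.InjOn.ncard_image, ← List.coe_toFinset, Set.ncard_coe_finset,
    List.toFinset_card_of_nodup (((nodup_of_incr codeList_incr).filter _).filter _)]
  intro a ha b hb e
  exact setOf24_injOn (lt_of_mem_codeList (List.mem_of_mem_filter (List.mem_of_mem_filter ha)))
    (lt_of_mem_codeList (List.mem_of_mem_filter (List.mem_of_mem_filter hb))) e

theorem ncard_octads_inter {d : Finset GolayPt} (hd : d ∈ dodecads) (k : ℕ) :
    {o : Finset GolayPt | o ∈ octads ∧ (o ∩ d).card = k}.ncard =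
      ((codeList.filter fun m => pop m == 8).filter fun m => pop (m &&& dodMask) == k).length := by
  obtain ⟨g, rfl⟩ := exists_smul_dodecad setOf24_dodMask_mem hd
  rw [← ncard_octads_inter_dodMask k]
  have h : {o : Finset GolayPt | o ∈ octads ∧ (o ∩ g • setOf24 dodMask).card = k} =
      (fun o => g • o) '' {o | o ∈ octads ∧ (o ∩ setOf24 dodMask).card = k} := by
    ext o
    simp only [Set.mem_ofPred_eq, Set.mem_image]
    constructor
    · rintro ⟨ho, hk⟩
      refine ⟨g⁻¹ • o, ⟨smul_mem_octads (g⁻¹).2 ho, ?_⟩, smul_inv_smul _ _⟩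
      rw [← Finset.card_smul_finset g, Finset.smul_finset_inter, smul_inv_smul]
      exact hk
    · rintro ⟨o, ⟨ho, hk⟩, rfl⟩
      exact ⟨smul_mem_octads g.2 ho, by rw [← Finset.smul_finset_inter, Finset.card_smul_finset]; exact hk⟩
  rw [h, Set.ncard_image_of_injective _ (MulAction.injective g)]

theorem octad_dodecad_inter_dodMask {o : Finset GolayPt} (ho : o ∈ octads) :
    (o ∩ setOf24 dodMask).card = 2 ∨ (o ∩ setOf24 dodMask).card = 4 ∨
      (o ∩ setOf24 dodMask).card = 6 := by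
  have h : ((codeList.filter fun m => pop m == 8).all fun m =>
      [2, 4, 6].contains (pop (m &&& dodMask))) = true := by decide +kernel
  rw [octads, wordsOfWeight_eq] at ho
  obtain ⟨m, hm, rfl⟩ := ho
  rw [← setOf24_land, card_setOf24]
  simpa using List.all_eq_true.mp h m hm

theorem octad_dodecad_inter {o d : Finset GolayPt} (ho : o ∈ octads) (hd : d ∈ dodecads) :
    (o ∩ d).card = 2 ∨ (o ∩ d).card = 4 ∨ (o ∩ d).card = 6 := by
  obtain ⟨g, rfl⟩ := exists_smul_dodecad setOf24_dodMask_mem hd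
  have h : (o ∩ g • setOf24 dodMask).card = ((g⁻¹ • o) ∩ setOf24 dodMask).card := by
    rw [← Finset.card_smul_finset g ((g⁻¹ • o) ∩ setOf24 dodMask), Finset.smul_finset_inter,
      smul_inv_smul]
  rw [h]
  exact octad_dodecad_inter_dodMask (smul_mem_octads (g⁻¹).2 ho)

theorem setOf24_octMask_mem : setOf24 octMask ∈ octads :=
  setOf24_mem_octads (by decide +kernel) (by decide +kernel)

theorem card_cert16 : Nat.card (grp 24 cert16) = 16 := by
  rw [card_grp (by decide +kernel : chk 24 cert16 = true)]; decide +kernel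

theorem cert16_sq {σ : Perm (Fin 24)} (hσ : σ ∈ grp 24 cert16) : σ * σ = 1 := by
  have hc : chk 24 cert16 = true := by decide +kernel
  obtain ⟨js, hjs, rfl⟩ := exists_idx hc hσ
  have key : ∀ js ∈ idxLists cert16, ∀ i < 24, sift cert16 js (sift cert16 js i) = i := by
    decide +kernel
  exact ((sift_spec hc js).1.mul (sift_spec hc js).1).eq Repr.one (key js hjs)

theorem octad_fixer {o : Finset GolayPt} (ho : o ∈ octads) :
    ∃ f : Perm (Fin 24) ≃* Perm GolayPt, (M24 ⊓ fixingSubgroup (Perm GolayPt) (o : Set GolayPt))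
      = (grp 24 cert16).map f.toMonoidHom := by
  obtain ⟨g, rfl⟩ := exists_smul_octad setOf24_octMask_mem ho
  refine ⟨toGP.trans (MulAut.conj (g : Perm GolayPt)), ?_⟩
  have hfix : ∀ σ : Perm GolayPt, σ ∈ fixingSubgroup (Perm GolayPt)
      (↑(g • setOf24 octMask) : Set GolayPt) ↔
      ∀ i : Fin 24, octMask.testBit i → σ (g • enc.symm i) = g • enc.symm i := by
    intro σ
    rw [mem_fixingSubgroup_iff]
    constructor
    · intro h i hi
      exact h _ (Finset.smul_mem_smul_finset (mem_setOf24.mpr (by simpa using hi)))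
    · intro h p hp
      rw [Finset.mem_coe, Finset.mem_smul_finset] at hp
      obtain ⟨q, hq, rfl⟩ := hp
      have := h (enc q) (mem_setOf24.mp hq)
      rwa [Equiv.symm_apply_apply] at this
  ext σ
  rw [Subgroup.mem_inf, hfix, Subgroup.mem_map]
  constructor
  · rintro ⟨hσ, hf⟩
    refine ⟨toGP.symm ((g : Perm GolayPt)⁻¹ * σ * g), ?_, ?_⟩
    · rw [mem_cert16_iff, ← K24_eq, mem_K24, MulEquiv.apply_symm_apply]
      refine ⟨mul_mem (mul_mem (inv_mem g.2) hσ) g.2, fun i hi => ?_⟩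
      have e := enc_toGP (toGP.symm ((g : Perm GolayPt)⁻¹ * σ * g)) (enc.symm i)
      rw [MulEquiv.apply_symm_apply, Equiv.apply_symm_apply] at e
      rw [← e, Perm.mul_apply, Perm.mul_apply]
      have h := hf i hi
      show enc ((g : Perm GolayPt)⁻¹ (σ ((g : Perm GolayPt) (enc.symm i)))) = i
      rw [show σ ((g : Perm GolayPt) (enc.symm i)) = (g : Perm GolayPt) (enc.symm i) from h,
        Perm.coe_inv, Equiv.symm_apply_apply, Equiv.apply_symm_apply]
    · show (g : Perm GolayPt) * toGP (toGP.symm ((g : Perm GolayPt)⁻¹ * σ * g)) * (g : Perm GolayPt)⁻¹ = σ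
      rw [MulEquiv.apply_symm_apply]
      group
  · rintro ⟨τ, hτ, rfl⟩
    obtain ⟨hτm, hτf⟩ := (mem_cert16_iff τ).mp hτ
    refine ⟨mul_mem (mul_mem g.2 ?_) (inv_mem g.2), fun i hi => ?_⟩
    · rw [← K24_eq] at hτm
      exact hτm
    · show ((g : Perm GolayPt) * toGP τ * (g : Perm GolayPt)⁻¹) ((g : Perm GolayPt) (enc.symm i))
        = (g : Perm GolayPt) (enc.symm i)
      rw [Perm.mul_apply, Perm.mul_apply, Perm.coe_inv, Equiv.symm_apply_apply, toGP_apply,
        Equiv.apply_symm_apply, hτf i hi]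

end Cfsg.Agent.Lib.Compute
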