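import Cfsg.Agent.Lib.Compute.MultBound

/-!
# Kernels of prime order, and extraspecial Sylow subgroups of order 27
-/

set_option autoImplicit false
set_option linter.unusedSectionVars false

namespace Cfsg.Agent.Lib.Compute

open Cfsg
open scoped commutatorElement

universe u

/-- A finite abelian group of order divisible by `p` has a subgroup of index `p`. -/
theorem exists_index_eq_prime {K : Type*} [CommGroup K] [Finite K] {p : ℕ} [hp : Fact p.Prime]
    (h : p ∣ Nat.card K) : ∃ A : Subgroup K, A.index = p := by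
  set R : Subgroup K := (powMonoidHom p : K →* K).range with hR
  have hne : R ≠ ⊤ := by
    intro htop
    obtain ⟨x, hx⟩ := exists_prime_orderOf_dvd_card' p h
    have hinj : Function.Injective (powMonoidHom p : K →* K) :=
      Finite.injective_iff_surjective.mpr (MonoidHom.range_eq_top.mp htop)
    have h1 : x = 1 := hinj (by simp [← hx, pow_orderOf_eq_one])
    rw [h1, orderOf_one] at hx
    exact hp.out.ne_one hx.symm
  have hQ : IsPGroup p (K ⧸ R) := fun q => ⟨1, by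
    induction q using QuotientGroup.induction_on with
    | _ x =>
      rw [← QuotientGroup.mk_pow, QuotientGroup.eq_one_iff, pow_one]
      exact ⟨x, rfl⟩⟩
  obtain ⟨n, hn⟩ := IsPGroup.iff_card.mp hQ
  have hn0 : n ≠ 0 := by
    rintro rfl
    rw [pow_zero] at hn
    exact hne (Subgroup.index_eq_one.mp hn)
  obtain ⟨A, hA⟩ := Sylow.exists_subgroup_card_pow_prime p (n := n - 1) (G := K ⧸ R)
    (by rw [hn]; exact pow_dvd_pow p (by omega))
  refine ⟨A.comap (QuotientGroup.mk' R), ?_⟩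
  rw [Subgroup.index_comap_of_surjective A (QuotientGroup.mk'_surjective R)]
  have h := Subgroup.index_mul_card A
  rw [hA, hn, show n = (n - 1) + 1 by omega, pow_succ] at h
  simp only [Nat.add_sub_cancel] at h
  exact Nat.eq_of_mul_eq_mul_right (pow_pos hp.out.pos _) (h.trans (mul_comm _ _))

/-- Triviality of the `p`-part: it suffices to treat kernels of order `p`. -/
theorem eq_one_of_kernel_prime {Δ : Type u} [Group Δ] [Finite Δ] {H : Type*} [Group H]
    (τ : Δ →* H) (hs : Function.Surjective τ) (hc : τ.ker ≤ Subgroup.center Δ)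
    (hd : τ.ker ≤ commutator Δ) {p : ℕ} [hp : Fact p.Prime]
    (h : ∀ (Δ' : Type u) [Group Δ'] [Finite Δ'] (τ' : Δ' →* H), Function.Surjective τ' →
      τ'.ker ≤ Subgroup.center Δ' → ∀ z ∈ τ'.ker, z ∈ commutator Δ' → z ^ p = 1 →
      (∀ w ∈ τ'.ker, ∃ i : ℕ, w = z ^ i) → z = 1)
    {z : Δ} (hz : z ∈ τ.ker) (hzp : z ^ p = 1) : z = 1 := by
  by_contra hne
  letI : CommGroup τ.ker :=
    { (inferInstance : Group τ.ker) with
      mul_comm := fun a b => Subtype.ext (Subgroup.mem_center_iff.mp (hc b.2) a) }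
  have hdvd : p ∣ Nat.card τ.ker := by
    have ho : orderOf z = p := orderOf_eq_prime hzp hne
    rw [← ho, ← Subgroup.orderOf_mk z hz]
    exact orderOf_dvd_natCard _
  obtain ⟨A, hA⟩ := exists_index_eq_prime hdvd
  set N : Subgroup Δ := A.map τ.ker.subtype with hN
  have hNle : N ≤ τ.ker := Subgroup.map_subtype_le A
  haveI : N.Normal := ⟨fun a ha g => by
    rw [Subgroup.mem_center_iff.mp (hc (hNle ha)) g, mul_inv_cancel_right]; exact ha⟩
  let τ' : Δ ⧸ N →* H := QuotientGroup.lift N τ hNle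
  have hs' : Function.Surjective τ' := fun y => by
    obtain ⟨x, rfl⟩ := hs y
    exact ⟨QuotientGroup.mk x, rfl⟩
  have hmk : ∀ q : Δ ⧸ N, q ∈ τ'.ker → ∃ x ∈ τ.ker, QuotientGroup.mk x = q := by
    intro q hq
    induction q using QuotientGroup.induction_on with
    | _ x => exact ⟨x, hq, rfl⟩
  have hc' : τ'.ker ≤ Subgroup.center (Δ ⧸ N) := by
    intro q hq
    obtain ⟨x, hx, rfl⟩ := hmk q hq
    refine Subgroup.mem_center_iff.mpr fun r => ?_
    induction r using QuotientGroup.induction_on with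
    | _ y => rw [← QuotientGroup.mk_mul, ← QuotientGroup.mk_mul,
        Subgroup.mem_center_iff.mp (hc hx) y]
  obtain ⟨w, hw, hwN⟩ : ∃ w ∈ τ.ker, w ∉ N := by
    by_contra hall
    push_neg at hall
    have : A = ⊤ := by
      refine eq_top_iff.mpr fun a _ => ?_
      obtain ⟨b, hb, hba⟩ := hall a a.2
      rwa [← Subtype.ext hba]
    rw [this, Subgroup.index_top] at hA
    exact hp.out.ne_one hA.symm
  have key : ∀ x (hx : x ∈ τ.ker), x ^ p ∈ N ∧ ∃ i : ℕ, (w ^ i)⁻¹ * x ∈ N := by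
    intro x hx
    have hcard : Nat.card (τ.ker ⧸ A) = p := hA
    have hwA : (QuotientGroup.mk (⟨w, hw⟩ : τ.ker) : τ.ker ⧸ A) ≠ 1 := by
      rw [Ne, QuotientGroup.eq_one_iff]
      exact fun hm => hwN ⟨⟨w, hw⟩, hm, rfl⟩
    constructor
    · refine ⟨(⟨x, hx⟩ : τ.ker) ^ p, ?_, by simp⟩
      rw [SetLike.mem_coe, ← QuotientGroup.eq_one_iff, QuotientGroup.mk_pow]
      nth_rewrite 1 [← hcard]
      exact pow_card_eq_one'
    · obtain ⟨i, hi⟩ := mem_powers_of_prime_card hcard hwA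
        (g' := QuotientGroup.mk (⟨x, hx⟩ : τ.ker))
      refine ⟨i, ((⟨w, hw⟩ : τ.ker) ^ i)⁻¹ * ⟨x, hx⟩, ?_, by simp⟩
      exact QuotientGroup.eq.mp (by rw [QuotientGroup.mk_pow]; exact hi)
  have hw1 : (QuotientGroup.mk w : Δ ⧸ N) = 1 :=
    h (Δ ⧸ N) τ' hs' hc' _ (show τ w = 1 from hw)
      (by
        have h2 := Subgroup.mem_map_of_mem (QuotientGroup.mk' N) (hd hw)
        rw [commutator_def, Subgroup.map_commutator,
          Subgroup.map_top_of_surjective _ (QuotientGroup.mk'_surjective N)] at h2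
        exact h2)
      (by rw [← QuotientGroup.mk_pow, QuotientGroup.eq_one_iff]; exact (key w hw).1)
      (fun q hq => by
        obtain ⟨x, hx, rfl⟩ := hmk q hq
        obtain ⟨i, hi⟩ := (key x hx).2
        exact ⟨i, by rw [← QuotientGroup.mk_pow]; exact (QuotientGroup.eq.mpr hi).symm⟩)
  exact hwN ((QuotientGroup.eq_one_iff w).mp hw1)

theorem conj_pow_of_commute {Γ : Type*} [Group Γ] {X Y C : Γ} (hXC : Commute X C)
    (hXY : X * Y * X⁻¹ = C * Y) : ∀ n : ℕ, X ^ n * Y * (X ^ n)⁻¹ = C ^ n * Y := by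
  intro n
  induction n with
  | zero => simp
  | succ n ih =>
    rw [pow_succ', mul_inv_rev]
    calc X * X ^ n * Y * ((X ^ n)⁻¹ * X⁻¹) = X * (X ^ n * Y * (X ^ n)⁻¹) * X⁻¹ := by group
      _ = X * (C ^ n * Y) * X⁻¹ := by rw [ih]
      _ = C ^ n * (X * Y * X⁻¹) := by
          rw [← mul_assoc, (hXC.pow_right n).eq]; group
      _ = C ^ (n + 1) * Y := by rw [hXY]; group

/-- An extraspecial group of order `27`, inverted modulo its centre, of index prime to `3`. -/
theorem eq_one_of_extraspecial {Γ Q : Type*} [Group Γ] [Group Q] [Finite Γ] (σ : Γ →* Q)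
    (hσ : Function.Surjective σ) (hc : σ.ker ≤ Subgroup.center Γ) {z : Γ} (hz : z ∈ σ.ker)
    (hz' : z ∈ commutator Γ) (hzp : z ^ 3 = 1) {x y g : Q} (hx : x ^ 3 = 1) (hy : y ^ 3 = 1)
    (hxc : x * ⁅x, y⁆ = ⁅x, y⁆ * x) (hyc : y * ⁅x, y⁆ = ⁅x, y⁆ * y) (hc1 : ⁅x, y⁆ ≠ 1)
    (hgx : g * x * g⁻¹ = x⁻¹) (hgy : g * y * g⁻¹ = y⁻¹)
    (hcop : Nat.Coprime 3 (Subgroup.closure {x, y}).index) : z = 1 := by
  obtain ⟨X, rfl⟩ := hσ x
  obtain ⟨Y, rfl⟩ := hσ y
  obtain ⟨W, rfl⟩ := hσ g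
  set C := ⁅X, Y⁆ with hC
  have hσC : σ C = ⁅σ X, σ Y⁆ := map_commutatorElement σ X Y
  have hker : ∀ u, σ u = 1 → u ∈ Subgroup.center Γ := fun u hu => hc hu
  have hdiff : ∀ a b : Γ, σ a = σ b → ∃ k ∈ Subgroup.center Γ, a = b * k := fun a b h =>
    ⟨b⁻¹ * a, hker _ (by rw [map_mul, map_inv, h, inv_mul_cancel]), by group⟩
  have hcent : ∀ a b k l : Γ, k ∈ Subgroup.center Γ → l ∈ Subgroup.center Γ →
      ⁅a * k, b * l⁆ = ⁅a, b⁆ := fun a b k l hk hl => by
    rw [Subgroup.mem_center_iff] at hk hl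
    simp only [commutatorElement_def, mul_inv_rev]
    calc a * k * (b * l) * (k⁻¹ * a⁻¹) * (l⁻¹ * b⁻¹)
        = a * (k * (b * l)) * k⁻¹ * (a⁻¹ * l⁻¹) * b⁻¹ := by simp only [mul_assoc]
      _ = a * (b * l) * (a⁻¹ * l⁻¹) * b⁻¹ := by
          rw [← hk (b * l)]; simp only [mul_assoc, mul_inv_cancel_left]
      _ = a * b * (l * (a⁻¹ * l⁻¹)) * b⁻¹ := by simp only [mul_assoc]
      _ = a * b * a⁻¹ * b⁻¹ := by
          rw [← hl (a⁻¹ * l⁻¹)]; simp only [mul_assoc, inv_mul_cancel, mul_one]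
  -- `W` fixes `C` modulo the centre
  obtain ⟨k, hk, hWC⟩ : ∃ k ∈ Subgroup.center Γ, W * C * W⁻¹ = C * k := by
    refine hdiff _ _ ?_
    rw [map_mul, map_mul, map_inv, hσC]
    calc σ W * ⁅σ X, σ Y⁆ * (σ W)⁻¹ = ⁅σ W * σ X * (σ W)⁻¹, σ W * σ Y * (σ W)⁻¹⁆ := by
          simp only [commutatorElement_def]; group
      _ = (σ Y * σ X)⁻¹ * ⁅σ X, σ Y⁆ * (σ Y * σ X) := by
          rw [hgx, hgy]; simp only [commutatorElement_def]; group
      _ = ⁅σ X, σ Y⁆ := by
          rw [mul_assoc, (Commute.mul_left (show Commute (σ Y) _ from hyc)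
            (show Commute (σ X) _ from hxc)).eq.symm, inv_mul_cancel_left]
  -- the triple commutators vanish
  have kill : ∀ A : Γ, σ A * σ C = σ C * σ A → σ A ^ 3 = 1 → σ W * σ A * (σ W)⁻¹ = (σ A)⁻¹ →
      Commute A C := by
    intro A hAC hA3 hgA
    set D := ⁅A, C⁆ with hD
    have hDc : D ∈ Subgroup.center Γ := hker _ (by
      rw [hD, map_commutatorElement, commutatorElement_eq_one_iff_mul_comm]; exact hAC)
    obtain ⟨l, hl, hWA⟩ := hdiff (W * A * W⁻¹) A⁻¹ (by rw [map_mul, map_mul, map_inv, map_inv, hgA])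
    have hDW : ⁅A⁻¹, C⁆ = D := by
      rw [← hcent A⁻¹ C l k hl hk, ← hWA, ← hWC]
      calc ⁅W * A * W⁻¹, W * C * W⁻¹⁆ = W * D * W⁻¹ := by
            simp only [hD, commutatorElement_def]; group
        _ = D := by rw [Subgroup.mem_center_iff.mp hDc W, mul_inv_cancel_right]
    have hAD : Commute A D := Subgroup.mem_center_iff.mp hDc A
    have hACD : A * C * A⁻¹ = D * C := by rw [hD, commutatorElement_def]; group
    have hD2 : D ^ 2 = 1 := by
      have h2 : C = D ^ 2 * C := by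
        calc C = A * (A⁻¹ * C * A⁻¹⁻¹) * A⁻¹ := by group
          _ = A * (D * C) * A⁻¹ := by rw [show A⁻¹ * C * A⁻¹⁻¹ = ⁅A⁻¹, C⁆ * C by group, hDW]
          _ = D * (A * C * A⁻¹) := by rw [← mul_assoc, hAD.eq]; group
          _ = D ^ 2 * C := by rw [hACD, ← mul_assoc, sq]
      exact mul_right_cancel (h2.symm.trans (one_mul C).symm)
    have hD3 : D ^ 3 = 1 := by
      have h := conj_pow_of_commute hAD hACD 3
      rw [← Subgroup.mem_center_iff.mp (hker (A ^ 3) (by rw [map_pow, hA3])) C,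
        mul_inv_cancel_right] at h
      exact mul_right_cancel (h.symm.trans (one_mul C).symm)
    have hD1 : D = 1 := by
      rw [pow_succ, hD2, one_mul] at hD3
      exact hD3
    exact commutatorElement_eq_one_iff_mul_comm.mp (hD ▸ hD1)
  have hXC : Commute X C := kill X (by rw [hσC]; exact hxc) hx hgx
  have hYC : Commute Y C := kill Y (by rw [hσC]; exact hyc) hy hgy
  have hC3 : C ^ 3 = 1 := by
    have h := conj_pow_of_commute hXC (show X * Y * X⁻¹ = C * Y by
      rw [hC, commutatorElement_def]; group) 3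
    rw [← Subgroup.mem_center_iff.mp (hker (X ^ 3) (by rw [map_pow, hx])) Y,
      mul_inv_cancel_right] at h
    exact mul_right_cancel (h.symm.trans (one_mul Y).symm)
  have hnorm : ∀ u : Γ, Commute u C → u ∈ Subgroup.normalizer (Subgroup.zpowers C : Set Γ) := by
    intro u hu
    refine Subgroup.mem_normalizer_iff.mpr fun v => ⟨fun hv => ?_, fun hv => ?_⟩
    · obtain ⟨i, rfl⟩ := Subgroup.mem_zpowers_iff.mp hv
      rw [(hu.zpow_right i).eq, mul_inv_cancel_right]
      exact hv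
    · obtain ⟨i, hi⟩ := Subgroup.mem_zpowers_iff.mp hv
      have : v = C ^ i := by
        calc v = u⁻¹ * (u * v * u⁻¹) * u := by group
          _ = C ^ i := by rw [← hi, mul_assoc, ← (hu.zpow_right i).eq, inv_mul_cancel_left]
      rw [this]
      exact Subgroup.zpow_mem_zpowers C i
  obtain ⟨i, rfl⟩ := Subgroup.mem_zpowers_iff.mp (commutator_comap_le σ hc rfl (Subgroup.zpowers C)
    (hnorm X hXC) (hnorm Y hYC) (Subgroup.mem_zpowers C)
    (by rw [← commutatorElement_inv, ← hC]; exact inv_mem (Subgroup.mem_zpowers C))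
    (mem_commutator_comap σ hσ hc hz hz' hzp hcop))
  have h1 : σ C ^ i = 1 := by rw [← map_zpow]; exact hz
  have h3 : orderOf (σ C) = 3 := by
    refine orderOf_eq_prime ?_ (hσC ▸ hc1)
    rw [← map_pow, hC3, map_one]
  rw [← orderOf_dvd_iff_zpow_eq_one, h3] at h1
  obtain ⟨j, rfl⟩ := h1
  rw [zpow_mul, zpow_natCast, hC3, one_zpow]

end Cfsg.Agent.Lib.Compute
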