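import Cfsg.Agent.Lib.Compute.FusionSimple

/-!
# A cheaper bound on normalisers

Level by level, only the orbit of the base point under the normaliser is bounded: an image can
only occur if some completion of it preserves the relations and normalises.
-/

set_option autoImplicit false

namespace Cfsg.Agent.Lib.Compute

open Equiv MulAction

variable {n : ℕ}

/-- Is there a completion of the partial image? -/
def completes (Ms : List (List ℕ)) (leaf : (ℕ → ℕ) → Bool) :
    List Lvl → (ℕ → ℕ) → List (ℕ × ℕ) → Bool
  | [], π, _ => leaf π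
  | L :: rest, π, done => (List.range (L.trans.length + 1)).any fun q =>
      relOk Ms L.base (π (tfun L q L.base)) done &&
        completes Ms leaf rest (fun i => π (tfun L q i))
          ((L.base, π (tfun L q L.base)) :: done)

theorem completes_of_collect {Ms : List (List ℕ)} {leaf : (ℕ → ℕ) → Bool} :
    ∀ {c : List Lvl} {π : ℕ → ℕ} {done : List (ℕ × ℕ)} {js : List ℕ},
      js ∈ collect Ms leaf c π done → completes Ms leaf c π done = true := by
  intro c
  induction c with
  | nil =>
    intro π done js h
    simp only [collect] at h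
    cases hl : leaf π with
    | true => simp [completes, hl]
    | false => simp [hl] at h
  | cons L rest ih =>
    intro π done js h
    simp only [collect, List.mem_flatMap] at h
    obtain ⟨q, hq, h⟩ := h
    cases hr : relOk Ms L.base (π (tfun L q L.base)) done with
    | false => rw [hr, cond_false] at h; exact absurd h List.not_mem_nil
    | true =>
      rw [hr, cond_true, List.mem_map] at h
      obtain ⟨js', hjs', -⟩ := h
      simp only [completes, List.any_eq_true, Bool.and_eq_true]
      exact ⟨q, hq, hr, ih hjs'⟩

/-- The product over the levels of the numbers of possible images. -/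
def orbitBound (Ms : List (List ℕ)) (leaf : (ℕ → ℕ) → Bool) :
    List Lvl → List (ℕ × ℕ) → ℕ
  | [], _ => 1
  | L :: rest, done =>
      ((List.range (L.trans.length + 1)).filter fun q =>
          relOk Ms L.base (tfun L q L.base) done &&
            completes Ms leaf rest (tfun L q) ((L.base, tfun L q L.base) :: done)).length *
        orbitBound Ms leaf rest ((L.base, L.base) :: done)

theorem card_le_orbitBound {Ms : List (List ℕ)} {leaf : (ℕ → ℕ) → Bool}
    (Q : Perm (Fin n) → Prop)
    (hQ : ∀ σ, Q σ → ∀ M ∈ Ms, ∀ i j : Fin n, rowBit M (σ i) (σ j) = rowBit M i j)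
    (hleaf : ∀ σ π, Q σ → Repr σ π → leaf π = true) :
    ∀ {c : List Lvl}, chk n c = true → ∀ (done : List (ℕ × ℕ)) (N : Subgroup (Perm (Fin n))),
      N ≤ grp n c → (∀ σ ∈ N, Q σ) →
      (∀ σ ∈ N, ∀ d ∈ done, ∃ i : Fin n, (i : ℕ) = d.1 ∧ ((σ i : Fin n) : ℕ) = d.2) →
      Nat.card N ≤ orbitBound Ms leaf c done := by
  intro c
  induction c with
  | nil =>
    intro _ done N hN _ _
    rw [show grp n ([] : List Lvl) = ⊥ from rfl, le_bot_iff] at hN
    subst hN
    simp [orbitBound]
  | cons L rest ih =>
    intro hc done N hN hQN hdone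
    classical
    have hc' := hc
    simp only [chk, Bool.and_eq_true] at hc'
    obtain ⟨hb, hg, ht, hd, -, -⟩ := lvlOk_iff hc'.1
    let b : Fin n := ⟨L.base, hb⟩
    set qs := (List.range (L.trans.length + 1)).filter fun q =>
      relOk Ms L.base (tfun L q L.base) done &&
        completes Ms leaf rest (tfun L q) ((L.base, tfun L q L.base) :: done) with hqs
    -- the images of the base point come from `qs`
    have himg : MulAction.orbit N b ⊆ ↑((qs.map fun q => (tperm n L q) b).toFinset) := by
      rintro _ ⟨⟨σ, hσ⟩, rfl⟩
      obtain ⟨q, hq, τ, hτ, rfl⟩ := exists_decomp hc (hN hσ)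
      obtain ⟨js, hjs, -⟩ := collect_spec Q hQ hleaf hc 1 (fun i => i) done Repr.one _ (hN hσ)
        (by rw [one_mul]; exact hQN _ hσ) (by simpa using hdone _ hσ)
      simp only [List.coe_toFinset, Set.mem_setOf_eq, List.mem_map]
      simp only [collect, List.mem_flatMap, List.mem_range] at hjs
      obtain ⟨q', hq', hjs⟩ := hjs
      cases hr : relOk Ms L.base (tfun L q' L.base) done with
      | false => rw [hr, cond_false] at hjs; exact absurd hjs List.not_mem_nil
      | true =>
        rw [hr, cond_true, List.mem_map] at hjs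
        obtain ⟨js', hjs', -⟩ := hjs
        -- the transversal index is the one of `σ`
        have hrel' : relOk Ms L.base (tfun L q L.base) done = true ∧
            completes Ms leaf rest (tfun L q) ((L.base, tfun L q L.base) :: done) = true := by
          have himgb : (((tperm n L q * τ) b : Fin n) : ℕ) = tfun L q L.base := by
            rw [Perm.mul_apply, grp_rest_fixes hc'.1 hc'.2 b rfl hτ,
              (trans_spec (rest := rest) hg ht q).1 b]
          refine ⟨?_, ?_⟩
          · simp only [relOk, List.all_eq_true, Bool.and_eq_true, beq_iff_eq]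
            intro M hM
            refine ⟨?_, fun d hd' => ?_⟩
            · rw [← himgb]
              exact (hQ _ (hQN _ hσ) M hM b b).symm
            · obtain ⟨i, hi, hi'⟩ := hdone _ hσ d hd'
              rw [← himgb, ← hi, ← hi']
              exact ⟨(hQ _ (hQN _ hσ) M hM i b).symm, (hQ _ (hQN _ hσ) M hM b i).symm⟩
          · obtain ⟨js'', hjs'', -⟩ := collect_spec Q hQ hleaf hc'.2 (tperm n L q) (tfun L q)
              ((L.base, tfun L q L.base) :: done) (trans_spec (rest := rest) hg ht q).1 τ hτ
              (hQN _ hσ) (fun d hd' => by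
                rw [List.mem_cons] at hd'
                rcases hd' with rfl | hd'
                · exact ⟨b, rfl, himgb⟩
                · exact hdone _ hσ d hd')
            exact completes_of_collect hjs''
        refine ⟨q, ?_, ?_⟩
        · rw [hqs, List.mem_filter, List.mem_range, Bool.and_eq_true]
          exact ⟨Nat.lt_succ_of_le hq, hrel'⟩
        · show (tperm n L q) b = (tperm n L q * τ) • b
          rw [Perm.smul_def, Perm.mul_apply, grp_rest_fixes hc'.1 hc'.2 b rfl hτ]
    have horb : Nat.card (MulAction.orbit N b) ≤ qs.length := by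
      calc Nat.card (MulAction.orbit N b) ≤ Nat.card
            (↑((qs.map fun q => (tperm n L q) b).toFinset) : Set (Fin n)) :=
            Nat.card_mono (Finset.finite_toSet _) himg
        _ ≤ qs.length := by
            rw [Nat.card_coe_set_eq, Set.ncard_coe_finset]
            exact (List.toFinset_card_le _).trans (by rw [List.length_map])
    have hstab : Nat.card (stabilizer N b) ≤ orbitBound Ms leaf rest ((L.base, L.base) :: done) := by
      rw [← Subgroup.card_map_of_injective (Subgroup.subtype_injective N)]
      refine ih hc'.2 _ _ ?_ (fun σ hσ => hQN σ (Subgroup.map_subtype_le _ hσ)) ?_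
      · rintro _ ⟨⟨σ, hσ⟩, hfix, rfl⟩
        exact (mem_grp_rest_iff hc b rfl σ).mpr ⟨hN hσ, hfix⟩
      · rintro _ ⟨⟨σ, hσ⟩, hfix, rfl⟩ d hd'
        rw [List.mem_cons] at hd'
        rcases hd' with rfl | hd'
        · exact ⟨b, rfl, congrArg Fin.val (show σ b = b from hfix)⟩
        · exact hdone σ hσ d hd'
    calc Nat.card N = Nat.card (MulAction.orbit N b) * Nat.card (stabilizer N b) := by
          rw [Nat.card_coe_set_eq, ← index_stabilizer N b, Subgroup.index_mul_card]
      _ ≤ qs.length * orbitBound Ms leaf rest ((L.base, L.base) :: done) :=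
          Nat.mul_le_mul horb hstab

theorem card_normalizer_le_orbitBound {c cS : List Lvl} (hc : chk n c = true)
    (hS : chk n cS = true) {Ms : List (List ℕ)} {ks : List ℕ} (hMs : Ms = ks.map (powRows n cS))
    {N : Subgroup (Perm (Fin n))} (hN : N ≤ grp n c)
    (hconj : ∀ g ∈ N, ∀ s ∈ grp n cS, g * s * g⁻¹ ∈ grp n cS) :
    Nat.card N ≤ orbitBound Ms (normLeaf n cS) c [] := by
  refine card_le_orbitBound (fun σ => σ ∈ N) ?_ ?_ hc [] N hN (fun σ hσ => hσ)
    (fun σ _ d hd => absurd hd List.not_mem_nil)
  · intro σ hσ M hM i j
    subst hMs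
    obtain ⟨k, -, rfl⟩ := List.mem_map.mp hM
    have step : ∀ τ ∈ N, ∀ a b : Fin n, rowBit (powRows n cS k) a b = true →
        rowBit (powRows n cS k) (τ a) (τ b) = true := by
      intro τ hτ a b hab
      rw [rowBit_powRows hS] at hab ⊢
      obtain ⟨s, hs, hsab⟩ := hab
      refine ⟨τ * s * τ⁻¹, hconj τ hτ s hs, ?_⟩
      rw [conj_pow, Perm.mul_apply, Perm.mul_apply, Perm.coe_inv, Equiv.symm_apply_apply, hsab]
    rw [Bool.eq_iff_iff]
    refine ⟨fun h => ?_, step σ hσ i j⟩
    simpa using step _ (inv_mem hσ) _ _ h
  · intro σ π hσ hπ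
    cases cS with
    | nil => rfl
    | cons L rest =>
      simp only [normLeaf, List.all_eq_true]
      intro g hg
      have hgok := (lvlOk_iff (by simp only [chk, Bool.and_eq_true] at hS; exact hS.1)).2.1
      exact conjIn_spec hπ (repr_toPerm_of_genOk (hgok g hg)) hS 1 _ Repr.one _
        (hconj σ hσ _ (gen_mem hg)) (one_mul _).symm

end Cfsg.Agent.Lib.Compute
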