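import Cfsg.Prelude.Def_KGroupFacts
import Cfsg.Agent.Lib.Compute.FusionSimple

/-!
# Bounding outer automorphism groups from certificates

A group generated by `a` of prime order `p` (with `p` exactly dividing the order) and an
involution `b`: after an inner automorphism an automorphism maps `a` to `a` or `a⁻¹`, and the
image of `b` is an involution satisfying the same word relations with it.  All the involutions
are listed in a search tree, checked to be closed under conjugation and to contain those of a
Sylow 2-subgroup.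
-/

set_option autoImplicit false

namespace Cfsg.Agent.Lib.Compute

open Cfsg Equiv

section Abstract

variable {G : Type*} [Group G]

theorem eq_of_gens {a b : G} (hgen : Subgroup.closure {a, b} = ⊤) {φ ψ : MulAut G}
    (ha : φ a = ψ a) (hb : φ b = ψ b) : φ = ψ := by
  have he : φ.toMonoidHom = ψ.toMonoidHom := by
    refine MonoidHom.eq_of_eqOn_dense hgen fun x hx => ?_
    rcases hx with rfl | hx
    · exact ha
    · rw [Set.mem_singleton_iff] at hx
      subst hx
      exact hb
  exact MulEquiv.ext fun x => DFunLike.congr_fun he x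

theorem card_out_le [Finite G] {a b : G} (hgen : Subgroup.closure {a, b} = ⊤) {m : ℕ}
    (A B : Fin m → G)
    (key : ∀ φ : MulAut G, ∃ (g : G) (i : Fin m), g * φ a * g⁻¹ = A i ∧ g * φ b * g⁻¹ = B i) :
    Nat.card (Cfsg.Out G) ≤ m := by
  classical
  haveI : Finite (MulAut G) := Finite.of_injective _ (DFunLike.coe_injective (F := MulAut G))
  let f : Fin m → Cfsg.Out G := fun i =>
    if h : ∃ ψ : MulAut G, ψ a = A i ∧ ψ b = B i then QuotientGroup.mk h.choose else 1
  have hf : Function.Surjective f := by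
    intro x
    induction x using QuotientGroup.induction_on with
    | _ φ =>
      obtain ⟨g, i, ha, hb⟩ := key φ
      refine ⟨i, ?_⟩
      have h : ∃ ψ : MulAut G, ψ a = A i ∧ ψ b = B i :=
        ⟨MulAut.conj g * φ, by simpa using ha, by simpa using hb⟩
      simp only [f, dif_pos h]
      have hψ : h.choose = MulAut.conj g * φ :=
        eq_of_gens hgen (by simp [h.choose_spec.1, ha]) (by simp [h.choose_spec.2, hb])
      rw [hψ, QuotientGroup.mk_mul,
        (QuotientGroup.eq_one_iff _).mpr (⟨g, rfl⟩ : MulAut.conj g ∈ Cfsg.Inn G), one_mul]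
  have := Nat.card_le_card_of_surjective f hf
  rwa [Nat.card_fin] at this

theorem out_card_congr {H : Type*} [Group H] (e : G ≃* H) :
    Nat.card (Cfsg.Out G) = Nat.card (Cfsg.Out H) := by
  let E : MulAut G ≃* MulAut H := MulAut.congr e
  have hconj : ∀ g : G, E (MulAut.conj g) = MulAut.conj (e g) := fun g =>
    MulEquiv.ext fun x => by simp [E, MulAut.congr]
  have h : (Cfsg.Inn G).map (E : MulAut G →* MulAut H) = Cfsg.Inn H := by
    ext φ
    constructor
    · rintro ⟨_, ⟨g, rfl⟩, rfl⟩
      exact ⟨e g, (hconj g).symm⟩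
    · rintro ⟨x, rfl⟩
      exact ⟨MulAut.conj (e.symm x), ⟨_, rfl⟩,
        (hconj _).trans (by rw [e.apply_symm_apply])⟩
  exact Nat.card_congr (QuotientGroup.congr (Cfsg.Inn G) (Cfsg.Inn H) E h).toEquiv

theorem card_out_eq_two [Finite G] (hle : Nat.card (Cfsg.Out G) ≤ 2) (φ : MulAut G)
    (hφ : φ ∉ Cfsg.Inn G) : Nat.card (Cfsg.Out G) = 2 := by
  haveI : Finite (MulAut G) := Finite.of_injective _ (DFunLike.coe_injective (F := MulAut G))
  haveI : Nontrivial (Cfsg.Out G) :=
    ⟨⟨QuotientGroup.mk φ, 1, fun h => hφ ((QuotientGroup.eq_one_iff φ).mp h)⟩⟩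
  have := Finite.one_lt_card (α := Cfsg.Out G)
  omega

end Abstract

/-! ### search trees of packed permutations -/

/-- A binary search tree of packed permutations. -/
inductive PTree where
  | leaf : PTree
  | node : PTree → ℕ → PTree → PTree

/-- All entries. -/
def PTree.toList : PTree → List ℕ
  | .leaf => []
  | .node l P r => P :: (l.toList ++ r.toList)

/-- Binary search. -/
def PTree.find : PTree → ℕ → Option ℕ
  | .leaf, _ => none
  | .node l P r, k => bif k == P then some P else (bif Nat.blt k P then l.find k else r.find k)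

theorem PTree.mem_of_find : ∀ {t : PTree} {k P : ℕ}, t.find k = some P → P ∈ t.toList := by
  intro t
  induction t with
  | leaf => intro k P h; simp [PTree.find] at h
  | node l Q r ihl ihr =>
    intro k P h
    simp only [PTree.find] at h
    rw [PTree.toList, List.mem_cons, List.mem_append]
    cases h1 : k == Q with
    | true => rw [h1, cond_true, Option.some.injEq] at h; exact Or.inl h.symm
    | false =>
      rw [h1, cond_false] at h
      cases h2 : Nat.blt k Q with
      | true => rw [h2, cond_true] at h; exact Or.inr (Or.inl (ihl h))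
      | false => rw [h2, cond_false] at h; exact Or.inr (Or.inr (ihr h))

/-- The packed form of a map on points. -/
def packFun (n : ℕ) (f : ℕ → ℕ) : ℕ :=
  (List.range n).foldl (fun acc i => acc ||| f i <<< (16 * i)) 0

/-- The map `f` is an entry of the tree. -/
def inTree (n : ℕ) (t : PTree) (f : ℕ → ℕ) : Bool :=
  match t.find (packFun n f) with
  | some _ => true
  | none => false

variable {n : ℕ}

/-- `σ` is an entry of the tree. -/
def Listed (t : PTree) (σ : Perm (Fin n)) : Prop := ∃ P ∈ t.toList, Repr σ (app P)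

theorem find_eq : ∀ {t : PTree} {k P : ℕ}, t.find k = some P → P = k := by
  intro t
  induction t with
  | leaf => intro k P h; simp [PTree.find] at h
  | node l Q r ihl ihr =>
    intro k P h
    simp only [PTree.find] at h
    cases h1 : k == Q with
    | true => rw [h1, cond_true, Option.some.injEq] at h; exact h ▸ (beq_iff_eq.mp h1).symm
    | false =>
      rw [h1, cond_false] at h
      cases h2 : Nat.blt k Q with
      | true => rw [h2, cond_true] at h; exact ihl h
      | false => rw [h2, cond_false] at h; exact ihr h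

theorem app_foldl_pack {f : ℕ → ℕ} (m : ℕ) (hf : ∀ i < m, f i < 65536) :
    (List.range m).foldl (fun acc i => acc ||| f i <<< (16 * i)) 0 < 2 ^ (16 * m) ∧
      ∀ i < m, app ((List.range m).foldl (fun acc i => acc ||| f i <<< (16 * i)) 0) i = f i := by
  induction m with
  | zero => simp
  | succ m ih =>
    obtain ⟨hlt, happ⟩ := ih fun i hi => hf i (Nat.lt_succ_of_lt hi)
    simp only [List.range_succ, List.foldl_append, List.foldl_cons, List.foldl_nil]
    set x := (List.range m).foldl (fun acc i => acc ||| f i <<< (16 * i)) 0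
    have hfm := hf m (Nat.lt_succ_self m)
    have hshift : f m <<< (16 * m) < 2 ^ (16 * (m + 1)) := by
      rw [Nat.shiftLeft_eq, Nat.mul_succ, pow_add, mul_comm]
      exact Nat.mul_lt_mul_of_pos_left (by simpa using hfm) (Nat.two_pow_pos _)
    refine ⟨Nat.or_lt_two_pow (lt_of_lt_of_le hlt (Nat.pow_le_pow_right (by norm_num) (by omega)))
      hshift, fun i hi => ?_⟩
    have key : ∀ {z}, z < 65536 → ∀ j, 16 ≤ j → z.testBit j = false := fun hz j hj =>
      Nat.testBit_lt_two_pow (lt_of_lt_of_le hz (by
        calc 65536 = 2 ^ 16 := by norm_num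
          _ ≤ 2 ^ j := Nat.pow_le_pow_right (by norm_num) hj))
    apply Nat.eq_of_testBit_eq
    intro j
    unfold app
    rw [show 65536 = 2 ^ 16 by norm_num, Nat.testBit_mod_two_pow, Nat.testBit_shiftRight,
      Nat.testBit_lor, Nat.testBit_shiftLeft]
    rcases Nat.lt_succ_iff_lt_or_eq.mp hi with h | rfl
    · have hij := happ i h
      by_cases hj : j < 16
      · have : ¬ 16 * m ≤ 16 * i + j := by omega
        rw [← hij]
        unfold app
        rw [show 65536 = 2 ^ 16 by norm_num, Nat.testBit_mod_two_pow, Nat.testBit_shiftRight]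
        simp [this, hj]
      · rw [key (hf i (Nat.lt_succ_of_lt h)) j (by omega)]
        simp [hj]
    · by_cases hj : j < 16
      · have : x.testBit (16 * i + j) = false := Nat.testBit_lt_two_pow
          (lt_of_lt_of_le hlt (Nat.pow_le_pow_right (by norm_num) (by omega)))
        simp [hj, this]
      · rw [key hfm j (by omega)]
        simp [hj]

theorem app_packFun {f : ℕ → ℕ} (hf : ∀ i < n, f i < 65536) {i : ℕ} (hi : i < n) :
    app (packFun n f) i = f i := (app_foldl_pack n hf).2 i hi

theorem listed_of_inTree (hn : n ≤ 65536) {t : PTree} {f : ℕ → ℕ} {σ : Perm (Fin n)}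
    (h : inTree n t f = true) (hr : Repr σ f) : Listed t σ := by
  unfold inTree at h
  cases hf : t.find (packFun n f) with
  | none => rw [hf] at h; exact absurd h Bool.false_ne_true
  | some P =>
    refine ⟨P, PTree.mem_of_find hf, fun i => ?_⟩
    rw [find_eq hf, app_packFun (fun j hj => ?_) i.isLt, hr i]
    rw [← hr ⟨j, hj⟩]
    exact lt_of_lt_of_le (σ ⟨j, hj⟩).isLt hn

/-- The tree is closed under conjugation by the given permutations, whose inverses are checked. -/
def closedOk (n : ℕ) (t : PTree) (gens : List (ℕ × ℕ)) : Bool :=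
  gens.all fun g => genOk n g && t.toList.all fun P =>
    inTree n t fun i => app g.1 (app P (app g.2 i))

/-- The tree contains the involutions of `cS`. -/
def invsOk (n : ℕ) (t : PTree) (cS : List Lvl) : Bool :=
  (idxLists cS).all fun js =>
    ((List.range n).any fun i => sift cS js (sift cS js i) != i) ||
      ((List.range n).all fun i => sift cS js i == i) || inTree n t (sift cS js)

theorem listed_conj (hn : n ≤ 65536) {gens : List (ℕ × ℕ)} {t : PTree}
    (h : closedOk n t gens = true) {g : Perm (Fin n)}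
    (hg : g ∈ Subgroup.closure ((fun g => toPerm n g.1) '' {g | g ∈ gens})) {σ : Perm (Fin n)}
    (hσ : Listed t σ) : Listed t (g * σ * g⁻¹) := by
  have hfin : g ∈ Submonoid.closure ((fun g => toPerm n g.1) '' {g | g ∈ gens}) := by
    rw [← Subgroup.closure_toSubmonoid_of_finite]
    exact hg
  induction hfin using Submonoid.closure_induction_left with
  | one => simpa using hσ
  | mul_left x hx y hy ih =>
    have hy' : y ∈ Subgroup.closure ((fun g => toPerm n g.1) '' {g | g ∈ gens}) := by
      show y ∈ (Subgroup.closure _).toSubmonoid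
      rw [Subgroup.closure_toSubmonoid_of_finite]
      exact hy
    obtain ⟨P, hP, hPr⟩ := ih hy'
    obtain ⟨q, hq, rfl⟩ := hx
    simp only [closedOk, List.all_eq_true, Bool.and_eq_true] at h
    obtain ⟨hq', hall⟩ := h q hq
    have hr := repr_toPerm_of_genOk hq'
    simp only [genOk, List.all_eq_true, List.mem_range, Bool.and_eq_true, decide_eq_true_eq,
      beq_iff_eq] at hq'
    have hinv : Repr (toPerm n q.1)⁻¹ (app q.2) := fun i => by
      conv_rhs => rw [show (i : ℕ) = ((toPerm n q.1 ((toPerm n q.1)⁻¹ i) : Fin n) : ℕ) by simp]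
      rw [hr, (hq' _ ((toPerm n q.1)⁻¹ i).isLt).2]
    rw [show toPerm n q.1 * y * σ * (toPerm n q.1 * y)⁻¹ =
      toPerm n q.1 * (y * σ * y⁻¹) * (toPerm n q.1)⁻¹ by group]
    exact listed_of_inTree hn (hall P hP) fun i => by
      rw [Perm.mul_apply, Perm.mul_apply, hr, hPr, hinv]

theorem listed_involution {c cS : List Lvl} (hc : chk n c = true) (hS : chk n cS = true)
    (hle : grp n cS ≤ grp n c) {a r : ℕ} (hord : certOrder cS = 2 ^ a)
    (hr : certOrder c = 2 ^ a * r) (hr2 : ¬ 2 ∣ r) (hn : n ≤ 65536) {gens : List (ℕ × ℕ)}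
    (hgens : grp n c ≤ Subgroup.closure ((fun g => toPerm n g.1) '' {g | g ∈ gens}))
    {t : PTree} (hcl : closedOk n t gens = true)
    (hinv : invsOk n t cS = true) {σ : Perm (Fin n)} (hσ : σ ∈ grp n c) (h1 : σ ≠ 1)
    (h2 : σ * σ = 1) : Listed t σ := by
  haveI : Fact (Nat.Prime 2) := ⟨Nat.prime_two⟩
  have hr0 : r ≠ 0 := fun h0 => hr2 (h0 ▸ dvd_zero 2)
  have hfact : (certOrder c).factorization 2 = a := by
    rw [hr, Nat.factorization_mul (pow_ne_zero _ (by norm_num)) hr0, Finsupp.add_apply,
      Nat.factorization_eq_zero_of_not_dvd hr2, Nat.prime_two.factorization_pow,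
      Finsupp.single_eq_same, add_zero]
  have hcard : Nat.card ((grp n cS).subgroupOf (grp n c)) = 2 ^ a := by
    rw [Nat.card_congr (Subgroup.subgroupOfEquivOfLe hle).toEquiv, card_grp hS, hord]
  let S₀ : Sylow 2 (grp n c) := Sylow.ofCard ((grp n cS).subgroupOf (grp n c))
    (by rw [hcard, card_grp hc, hfact])
  have hpz : IsPGroup 2 (Subgroup.zpowers (⟨σ, hσ⟩ : grp n c)) := by
    refine IsPGroup.of_card (n := 1) ?_
    rw [Nat.card_zpowers, pow_one]
    exact orderOf_eq_prime (Subtype.ext (by simpa [pow_two] using h2))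
      (fun h => h1 (congrArg Subtype.val h))
  obtain ⟨Q, hQ⟩ := hpz.exists_le_sylow
  obtain ⟨g, hg⟩ := MulAction.exists_smul_eq (grp n c) Q S₀
  have hmem : g * (⟨σ, hσ⟩ : grp n c) * g⁻¹ ∈ (S₀ : Subgroup (grp n c)) := by
    rw [← hg]
    exact ⟨_, hQ (Subgroup.mem_zpowers _), by simp [MulAut.conj_apply]⟩
  have hmem' : (g : Perm (Fin n)) * σ * (g : Perm (Fin n))⁻¹ ∈ grp n cS :=
    Subgroup.mem_subgroupOf.mp hmem
  obtain ⟨js, hjs, he⟩ := exists_idx hS hmem'
  have hrep := (sift_spec hS js).1
  simp only [invsOk, List.all_eq_true, Bool.or_eq_true, List.any_eq_true, List.mem_range,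
    bne_iff_ne, beq_iff_eq] at hinv
  have hsq : siftPerm n cS js * siftPerm n cS js = 1 := by
    rw [← he, show (g : Perm (Fin n)) * σ * (g : Perm (Fin n))⁻¹ *
      ((g : Perm (Fin n)) * σ * (g : Perm (Fin n))⁻¹) =
      (g : Perm (Fin n)) * (σ * σ) * (g : Perm (Fin n))⁻¹ by group, h2, mul_one, mul_inv_cancel]
  rcases hinv js hjs with (⟨i, hi, hne⟩ | hid) | hin
  · exfalso
    apply hne
    have := (hrep.mul hrep) ⟨i, hi⟩
    rw [hsq] at this
    exact this.symm
  · exfalso
    have : siftPerm n cS js = 1 := hrep.eq Repr.one hid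
    rw [← he, conj_eq_one_iff] at this
    exact h1 this
  · have := listed_conj hn hcl (hgens (inv_mem g.2)) (he ▸ listed_of_inTree hn hin hrep)
    simpa [mul_assoc] using this

/-! ### words in `a` and `b` -/

/-- The value of a word (`true` for the first letter) on a pair of maps. -/
def wordFun (fa fb : ℕ → ℕ) : List Bool → ℕ → ℕ
  | [], i => i
  | true :: w, i => fa (wordFun fa fb w i)
  | false :: w, i => fb (wordFun fa fb w i)

/-- The value of a word in a group. -/
def wordVal {G : Type*} [Group G] (a b : G) : List Bool → G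
  | [] => 1
  | true :: w => a * wordVal a b w
  | false :: w => b * wordVal a b w

theorem map_wordVal {G : Type*} [Group G] (φ : MulAut G) (a b : G) :
    ∀ w, φ (wordVal a b w) = wordVal (φ a) (φ b) w
  | [] => map_one φ
  | true :: w => by rw [wordVal, map_mul, map_wordVal φ a b w, wordVal]
  | false :: w => by rw [wordVal, map_mul, map_wordVal φ a b w, wordVal]

theorem repr_wordVal {H : Subgroup (Perm (Fin n))} {a b : H} {fa fb : ℕ → ℕ}
    (ha : Repr (a : Perm (Fin n)) fa) (hb : Repr (b : Perm (Fin n)) fb) :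
    ∀ w, Repr ((wordVal a b w : H) : Perm (Fin n)) (wordFun fa fb w)
  | [] => Repr.one
  | true :: w => fun i => by
    rw [wordVal, Subgroup.coe_mul, Perm.mul_apply, ha, repr_wordVal ha hb w i, wordFun]
  | false :: w => fun i => by
    rw [wordVal, Subgroup.coe_mul, Perm.mul_apply, hb, repr_wordVal ha hb w i, wordFun]

/-- Every word of `W` has exactly the order given with it. -/
def orderSig (n : ℕ) (W : List (List Bool × ℕ)) (fa fb : ℕ → ℕ) : Bool :=
  W.all fun w => ((List.range n).all fun i => (wordFun fa fb w.1)^[w.2] i == i) &&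
    (List.range (w.2 - 1)).all fun d =>
      !((List.range n).all fun i => (wordFun fa fb w.1)^[d + 1] i == i)

theorem all_iff_pow_eq_one {σ : Perm (Fin n)} {f : ℕ → ℕ} (h : Repr σ f) (d : ℕ) :
    ((List.range n).all fun i => f^[d] i == i) = true ↔ σ ^ d = 1 := by
  have hd : ∀ d, Repr (σ ^ d) (f^[d]) := by
    intro d
    induction d with
    | zero => exact fun _ => rfl
    | succ d ih => rw [pow_succ, Function.iterate_succ]; exact ih.mul h
  simp only [List.all_eq_true, List.mem_range, beq_iff_eq]
  constructor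
  · exact fun he => (hd d).eq Repr.one he
  · intro he i hi
    have := hd d ⟨i, hi⟩
    rw [he] at this
    exact this.symm

theorem orderSig_map {H : Subgroup (Perm (Fin n))} (φ : MulAut H) {a b : H} {W : List (List Bool × ℕ)}
    {fa fb fa' fb' : ℕ → ℕ} (ha : Repr (a : Perm (Fin n)) fa) (hb : Repr (b : Perm (Fin n)) fb)
    (ha' : Repr (φ a : Perm (Fin n)) fa') (hb' : Repr (φ b : Perm (Fin n)) fb')
    (h : orderSig n W fa fb = true) : orderSig n W fa' fb' = true := by
  simp only [orderSig, List.all_eq_true (l := W), Bool.and_eq_true] at h ⊢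
  intro w hw
  obtain ⟨h1, h2⟩ := h w hw
  have key : ∀ d, ((List.range n).all fun i => (wordFun fa' fb' w.1)^[d] i == i) = true ↔
      ((List.range n).all fun i => (wordFun fa fb w.1)^[d] i == i) = true := fun d => by
    rw [all_iff_pow_eq_one (repr_wordVal ha' hb' w.1), all_iff_pow_eq_one (repr_wordVal ha hb w.1),
      ← map_wordVal φ a b w.1, ← Subgroup.coe_pow, ← map_pow, ← Subgroup.coe_pow,
      OneMemClass.coe_eq_one, OneMemClass.coe_eq_one, map_eq_one_iff φ φ.injective]
  refine ⟨(key _).mpr h1, List.all_eq_true.mpr fun d hd => ?_⟩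
  have := List.all_eq_true.mp h2 d hd
  rw [Bool.not_eq_true', ← Bool.not_eq_true] at this ⊢
  exact fun hh => this ((key _).mp hh)

/-- Conjugates of the powers of `a`: `k`-th entry carries `a ^ (k+1)` to one of `As`. -/
def powConjOk (n : ℕ) (c : List Lvl) (fa : ℕ → ℕ) (As : List ℕ) (p : ℕ)
    (wit : List (ℕ × List ℕ)) : Bool :=
  (List.range (p - 1)).all fun k =>
    match wit[k]? with
    | some w => match As[w.1]? with
      | some A => (List.range n).all fun i => sift c w.2 (fa^[k + 1] i) == app A (sift c w.2 i)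
      | none => false
    | none => false

/-- Each listed involution with the right word orders against `A` is conjugate to the chosen
one under a power of `A`. -/
def uniqueOk (n p : ℕ) (t : PTree) (W : List (List Bool × ℕ)) (A : ℕ) (B : Option ℕ) : Bool :=
  t.toList.all fun P => !(orderSig n W (app A) (app P)) ||
    match B with
    | some Q => (List.range p).any fun j => (List.range n).all fun i =>
        (app A)^[j] (app P i) == app Q ((app A)^[j] i)
    | none => false

/-- An element of the certified group with a witness. -/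
def memW (n : ℕ) (c : List Lvl) (P : ℕ) (wits : List (List ℕ)) : Bool :=
  wits.any fun js => memOk n c P js

theorem memW_spec {c : List Lvl} (hc : chk n c = true) {P : ℕ} {wits : List (List ℕ)}
    (h : memW n c P wits = true) : Valid n P ∧ toPerm n P ∈ grp n c := by
  simp only [memW, List.any_eq_true] at h
  obtain ⟨js, -, hjs⟩ := h
  exact mem_grp_of_memOk hc hjs

/-- The data behind `card_out_le_of_cert`. -/
structure OutData where
  a : ℕ
  ainv : ℕ
  b : ℕ
  steps : List (ℕ × ℕ × ℕ × Bool)
  words : List (List Bool × ℕ)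
  valid : List (ℕ × ℕ)
  excluded : List ℕ
  elts : List (List ℕ)
  powWit : List (ℕ × List ℕ)
  invs : PTree

/-- All checks on the data. -/
def outOk (n p : ℕ) (c cS : List Lvl) (wS : List (List ℕ)) (D : OutData) : Bool :=
  decide (n ≤ 65536) && subOk n c cS wS && closedOk n D.invs [(D.a, D.ainv), (D.b, D.b)] && invsOk n D.invs cS &&
    memW n c D.a D.elts && memW n c D.b D.elts &&
    powOk n p D.a && ((List.range n).any fun i => app D.a i != i) &&
    powOk n 2 D.b && ((List.range n).any fun i => app D.b i != i) &&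
    slpOk n [D.a, D.b] D.steps && slpCovers [D.a, D.b] D.steps c &&
    orderSig n D.words (app D.a) (app D.b) &&
    powConjOk n c (app D.a) (D.valid.map Prod.fst ++ D.excluded) p D.powWit &&
    (D.valid.all fun v => memW n c v.1 D.elts && memW n c v.2 D.elts &&
      uniqueOk n p D.invs D.words v.1 (some v.2)) &&
    D.excluded.all fun A => memW n c A D.elts && uniqueOk n p D.invs D.words A none

/-- **At most as many outer automorphism classes as valid pairs.** -/
theorem card_out_le_of_cert {c cS : List Lvl} (hc : chk n c = true) (hS : chk n cS = true)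
    {e r : ℕ} (hord : certOrder cS = 2 ^ e) (hr : certOrder c = 2 ^ e * r) (hr2 : ¬ 2 ∣ r)
    {p : ℕ} [Fact p.Prime] (hp : ¬ p ^ 2 ∣ certOrder c) {wS : List (List ℕ)} {D : OutData}
    (h : outOk n p c cS wS D = true) :
    Nat.card (Cfsg.Out (grp n c)) ≤ D.valid.length := by
  have hpp : p.Prime := Fact.out
  simp only [outOk, Bool.and_eq_true, List.all_eq_true (l := D.valid),
    List.all_eq_true (l := D.excluded), List.any_eq_true, List.mem_range, bne_iff_ne, decide_eq_true_eq] at h
  obtain ⟨⟨⟨⟨⟨⟨⟨⟨⟨⟨⟨⟨⟨⟨⟨hn, hsub⟩, hcl⟩, hinv⟩, haM⟩, hbM⟩, haP⟩, ha1⟩, hbP⟩, hb1⟩, hslp⟩, hcov⟩,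
    hW⟩, hpow⟩, hval⟩, hex⟩ := h
  have hle := grp_le_of_subOk hc hsub
  obtain ⟨hav, ham⟩ := memW_spec hc haM
  obtain ⟨hbv, hbm⟩ := memW_spec hc hbM
  set a : grp n c := ⟨toPerm n D.a, ham⟩ with hadef
  set b : grp n c := ⟨toPerm n D.b, hbm⟩ with hbdef
  have hra : Repr (a : Perm (Fin n)) (app D.a) := hav.repr
  have hrb : Repr (b : Perm (Fin n)) (app D.b) := hbv.repr
  have hgen : Subgroup.closure ({a, b} : Set (grp n c)) = ⊤ := by
    apply Subgroup.map_injective (Subgroup.subtype_injective (grp n c))
    rw [MonoidHom.map_closure, ← MonoidHom.range_eq_map, Subgroup.range_subtype, Set.image_pair]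
    refine le_antisymm ((Subgroup.closure_le _).mpr ?_) ?_
    · rintro x (rfl | rfl)
      · exact ham
      · exact hbm
    · refine (grp_le_closure (base := [D.a, D.b]) ?_ hslp hcov).trans (Subgroup.closure_mono ?_)
      · intro x hx
        simp only [List.mem_cons, List.not_mem_nil, or_false] at hx
        rcases hx with rfl | rfl
        · exact hav
        · exact hbv
      · rintro _ ⟨x, hx, rfl⟩
        simp only [Set.mem_setOf_eq, List.mem_cons, List.not_mem_nil, or_false] at hx
        rcases hx with rfl | rfl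
        · exact Or.inl rfl
        · exact Or.inr rfl
  have hgens : grp n c ≤ Subgroup.closure
      ((fun g => toPerm n g.1) '' {g | g ∈ [(D.a, D.ainv), (D.b, D.b)]}) := by
    refine (grp_le_closure (base := [D.a, D.b]) ?_ hslp hcov).trans (Subgroup.closure_mono ?_)
    · intro x hx
      simp only [List.mem_cons, List.not_mem_nil, or_false] at hx
      rcases hx with rfl | rfl
      · exact hav
      · exact hbv
    · rintro _ ⟨x, hx, rfl⟩
      simp only [Set.mem_setOf_eq, List.mem_cons, List.not_mem_nil, or_false] at hx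
      rcases hx with rfl | rfl
      · exact ⟨(D.a, D.ainv), by simp, rfl⟩
      · exact ⟨(D.b, D.b), by simp, rfl⟩
  have hne : ∀ {P : ℕ}, (∃ x < n, app P x ≠ x) → Valid n P → toPerm n P ≠ 1 := by
    rintro P ⟨x, hx, hx'⟩ hv h0
    apply hx'
    have := hv.repr ⟨x, hx⟩
    rw [h0] at this
    exact this.symm
  have hoa : orderOf a = p := orderOf_eq_prime (Subtype.ext (valid_of_powOk hpp.pos haP).2)
    (fun h0 => hne ha1 hav (congrArg Subtype.val h0))
  have hfac : (Nat.card (grp n c)).factorization p = 1 := by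
    have h1 : p ∣ Nat.card (grp n c) := hoa ▸ orderOf_dvd_natCard a
    have h0 : Nat.card (grp n c) ≠ 0 := Nat.card_pos.ne'
    have h2 := (hpp.dvd_iff_one_le_factorization h0).mp h1
    by_contra hne'
    exact hp (card_grp hc ▸ (hpp.pow_dvd_iff_le_factorization h0).mpr (by omega))
  let P₀ : Sylow p (grp n c) := Sylow.ofCard (Subgroup.zpowers a)
    (by rw [Nat.card_zpowers, hoa, hfac, pow_one])
  haveI : Nonempty (Fin n) := ⟨⟨ha1.choose, ha1.choose_spec.1⟩⟩
  let A : Fin D.valid.length → grp n c := fun i =>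
    ⟨toPerm n (D.valid.get i).1, (memW_spec hc (hval _ (List.get_mem _ i)).1.1).2⟩
  let B : Fin D.valid.length → grp n c := fun i =>
    ⟨toPerm n (D.valid.get i).2, (memW_spec hc (hval _ (List.get_mem _ i)).1.2).2⟩
  refine card_out_le hgen A B fun φ => ?_
  have hoa' : orderOf (φ a) = p := by rw [MulEquiv.orderOf_eq, hoa]
  let Q : Sylow p (grp n c) := Sylow.ofCard (Subgroup.zpowers (φ a))
    (by rw [Nat.card_zpowers, hoa', hfac, pow_one])
  obtain ⟨g, hg⟩ := MulAction.exists_smul_eq (grp n c) Q P₀
  have hmem : g * φ a * g⁻¹ ∈ Subgroup.zpowers a := by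
    show g * φ a * g⁻¹ ∈ (P₀ : Subgroup (grp n c))
    rw [← hg]
    exact ⟨φ a, Subgroup.mem_zpowers _, by simp [MulAut.conj_apply]⟩
  obtain ⟨k, hk⟩ := (isOfFinOrder_of_finite a).mem_zpowers_iff_mem_range_orderOf.mp hmem
    |> Finset.mem_image.mp
  obtain ⟨hkp, hk⟩ := hk
  rw [Finset.mem_range, hoa] at hkp
  obtain ⟨k, rfl⟩ : ∃ j, k = j + 1 := by
    refine ⟨k - 1, ?_⟩
    rcases Nat.eq_zero_or_pos k with rfl | h0
    · exfalso
      rw [pow_zero, eq_comm, conj_eq_one_iff] at hk
      rw [hk, orderOf_one] at hoa'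
      exact hpp.one_lt.ne hoa'
    · omega
  simp only [powConjOk, List.all_eq_true (l := List.range (p - 1)), List.mem_range] at hpow
  have hpk := hpow k (by omega)
  cases hw : D.powWit[k]? with
  | none => simp [hw] at hpk
  | some w =>
  cases hA : (D.valid.map Prod.fst ++ D.excluded)[w.1]? with
  | none => simp [hw, hA] at hpk
  | some A₀ =>
  simp only [hw, hA, List.all_eq_true, List.mem_range, beq_iff_eq] at hpk
  have hAmem := List.mem_of_getElem? hA
  have hAok : memW n c A₀ D.elts = true := by
    rcases List.mem_append.mp hAmem with h | h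
    · obtain ⟨v, hv, rfl⟩ := List.mem_map.mp h
      exact (hval v hv).1.1
    · exact (hex _ h).1
  obtain ⟨hA₀v, hA₀m⟩ := memW_spec hc hAok
  obtain ⟨hsr, hsm⟩ := sift_spec hc w.2
  let g₂ : grp n c := ⟨siftPerm n c w.2, hsm⟩
  have hconj : g₂ * (g * φ a * g⁻¹) * g₂⁻¹ = ⟨toPerm n A₀, hA₀m⟩ := by
    rw [← hk]
    apply Subtype.ext
    simp only [Subgroup.coe_mul, Subgroup.coe_inv, Subgroup.coe_pow, g₂]
    rw [mul_inv_eq_iff_eq_mul]
    exact (hsr.mul (repr_pow hra (k + 1))).eq (hA₀v.repr.mul hsr) hpk
  let ψ : MulAut (grp n c) := MulAut.conj (g₂ * g) * φ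
  have hψa : ψ a = ⟨toPerm n A₀, hA₀m⟩ := by
    rw [← hconj]; simp [ψ, mul_assoc]
  have hψb2 : ((ψ b : grp n c) : Perm (Fin n)) * (ψ b : Perm (Fin n)) = 1 := by
    rw [← Subgroup.coe_mul, ← map_mul, show b * b = 1 from Subtype.ext
      (by simpa [pow_two] using (valid_of_powOk two_pos hbP).2), map_one, OneMemClass.coe_one]
  have hψb1 : ((ψ b : grp n c) : Perm (Fin n)) ≠ 1 := by
    intro h0
    rw [OneMemClass.coe_eq_one, map_eq_one_iff ψ ψ.injective] at h0
    exact hne hb1 hbv (congrArg Subtype.val h0)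
  obtain ⟨P, hP, hPr⟩ := listed_involution hc hS hle hord hr hr2 hn hgens hcl hinv (ψ b).2 hψb1 hψb2
  have hsig : orderSig n D.words (app A₀) (app P) = true :=
    orderSig_map ψ hra hrb (by rw [hψa]; exact hA₀v.repr) hPr hW
  rcases List.mem_append.mp hAmem with h | h
  · obtain ⟨v, hv, rfl⟩ := List.mem_map.mp h
    have hu := (hval v hv).2
    simp only [uniqueOk, List.all_eq_true (l := D.invs.toList), Bool.or_eq_true, Bool.not_eq_true',
      List.any_eq_true, List.mem_range, List.all_eq_true (l := List.range n), beq_iff_eq] at hu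
    rcases hu P hP with h0 | ⟨j, -, hj⟩
    · rw [hsig] at h0; exact absurd h0 (by decide)
    obtain ⟨i, rfl⟩ := List.get_of_mem hv
    refine ⟨(ψ a) ^ j * (g₂ * g), i, ?_, ?_⟩
    · show _ = A i
      rw [show A i = ψ a from hψa.symm]
      show (ψ a) ^ j * (g₂ * g) * φ a * ((ψ a) ^ j * (g₂ * g))⁻¹ = ψ a
      have e : ψ a = g₂ * g * φ a * (g₂ * g)⁻¹ := by simp [ψ, mul_assoc]
      rw [show (ψ a) ^ j * (g₂ * g) * φ a * ((ψ a) ^ j * (g₂ * g))⁻¹ =
        (ψ a) ^ j * (g₂ * g * φ a * (g₂ * g)⁻¹) * ((ψ a) ^ j)⁻¹ by group, ← e]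
      group
    · rw [show (ψ a) ^ j * (g₂ * g) * φ b * ((ψ a) ^ j * (g₂ * g))⁻¹ =
        (ψ a) ^ j * ψ b * ((ψ a) ^ j)⁻¹ by simp [ψ, mul_assoc]]
      apply Subtype.ext
      simp only [Subgroup.coe_mul, Subgroup.coe_inv, Subgroup.coe_pow, hψa, B]
      rw [mul_inv_eq_iff_eq_mul]
      obtain ⟨hBv, -⟩ := memW_spec hc (hval _ (List.get_mem _ i)).1.2
      exact ((repr_pow hA₀v.repr j).mul hPr).eq (hBv.repr.mul (repr_pow hA₀v.repr j)) hj
  · have hu := (hex _ h).2
    simp only [uniqueOk, List.all_eq_true (l := D.invs.toList), Bool.or_eq_true,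
      Bool.not_eq_true'] at hu
    rcases hu P hP with h0 | h0
    · rw [hsig] at h0; exact absurd h0 (by decide)
    · exact absurd h0 (by decide)

end Cfsg.Agent.Lib.Compute
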