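import Cfsg.Agent.Lib.Compute.OutBound

/-!
# An automorphism induced by an outside permutation
-/

set_option autoImplicit false

namespace Cfsg.Agent.Lib.Compute

open Cfsg Equiv

variable {n : ℕ}

/-- `g` conjugates the generators of `c` into it, with witnesses. -/
def normOk (n : ℕ) (c : List Lvl) (g : ℕ) (wits : List (List ℕ)) : Bool :=
  match c with
  | [] => true
  | L :: _ => L.gens.all fun s => wits.any fun js =>
      (List.range n).all fun i => sift c js (app g i) == app g (app s.1 i)

/-- Conjugation by an element mapping the group into itself is an automorphism; if it is inner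
then the element is the product of a member of the group and a permutation centralising it. -/
theorem exists_aut_of_normOk {c : List Lvl} (hc : chk n c = true) {g : ℕ} {wits : List (List ℕ)}
    (hg : Valid n g) (h : normOk n c g wits = true) :
    ∃ φ : MulAut (grp n c), φ ∈ Cfsg.Inn (grp n c) →
      ∃ k ∈ grp n c, ∀ s ∈ grp n c, k * toPerm n g * s = s * (k * toPerm n g) := by
  have hle : (grp n c).map (MulAut.conj (toPerm n g)).toMonoidHom ≤ grp n c := by
    cases c with
    | nil => simp [grp]
    | cons L rest =>
      rw [Subgroup.map_le_iff_le_comap]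
      refine (Subgroup.closure_le _).mpr ?_
      rintro _ ⟨s, hs, rfl⟩
      simp only [SetLike.mem_coe, Subgroup.mem_comap]
      have hgok := (lvlOk_iff (by simp only [chk, Bool.and_eq_true] at hc; exact hc.1)).2.1
      simp only [normOk, List.all_eq_true, List.any_eq_true, List.mem_range, beq_iff_eq] at h
      obtain ⟨js, -, hjs⟩ := h s hs
      obtain ⟨hr, hm⟩ := sift_spec hc js
      show toPerm n g * toPerm n s.1 * (toPerm n g)⁻¹ ∈ _
      rwa [← eq_mul_inv_of_mul_eq
        ((hr.mul hg.repr).eq (hg.repr.mul (repr_toPerm_of_genOk (hgok s hs))) hjs)]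
  have heq : (grp n c).map (MulAut.conj (toPerm n g)).toMonoidHom = grp n c :=
    Subgroup.eq_of_le_of_card_ge hle
      (Subgroup.card_map_of_injective (MulAut.conj (toPerm n g)).injective).ge
  refine ⟨((MulAut.conj (toPerm n g)).subgroupMap (grp n c)).trans (MulEquiv.subgroupCongr heq),
    fun hin => ?_⟩
  obtain ⟨k, hk⟩ := hin
  refine ⟨(k : Perm (Fin n))⁻¹, inv_mem k.2, fun s hs => ?_⟩
  have e := congrArg Subtype.val (DFunLike.congr_fun hk ⟨s, hs⟩)
  change (k : Perm (Fin n)) * s * (k : Perm (Fin n))⁻¹ =
    toPerm n g * s * (toPerm n g)⁻¹ at e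
  calc (k : Perm (Fin n))⁻¹ * toPerm n g * s
      = (k : Perm (Fin n))⁻¹ * (toPerm n g * s * (toPerm n g)⁻¹) * toPerm n g := by group
    _ = (k : Perm (Fin n))⁻¹ * ((k : Perm (Fin n)) * s * (k : Perm (Fin n))⁻¹) * toPerm n g := by
        rw [e]
    _ = s * ((k : Perm (Fin n))⁻¹ * toPerm n g) := by group

/-- Only the points in `F` are fixed by all generators of the level. -/
def onlyFixed (n F : ℕ) : List Lvl → Bool
  | [] => false
  | L :: _ => (List.range n).all fun y => F.testBit y || L.gens.any fun s => app s.1 y != y

/-- A permutation centralising the group moves a base point into the fixed points of its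
stabiliser. -/
theorem testBit_of_centralizes {L : Lvl} {rest : List Lvl} (hc : chk n (L :: rest) = true)
    {F : ℕ} (hF : onlyFixed n F rest = true) {u : Perm (Fin n)}
    (hu : ∀ s ∈ grp n (L :: rest), u * s = s * u) (b : Fin n) (hb : (b : ℕ) = L.base) :
    F.testBit (u b) = true := by
  have hc' := hc
  simp only [chk, Bool.and_eq_true] at hc'
  cases rest with
  | nil => simp [onlyFixed] at hF
  | cons L' rest' =>
    simp only [onlyFixed, List.all_eq_true, List.mem_range, Bool.or_eq_true, List.any_eq_true,
      bne_iff_ne] at hF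
    rcases hF _ (u b).isLt with h | ⟨s, hs, hne⟩
    · exact h
    · exfalso
      apply hne
      have hok := (lvlOk_iff (by
        have := hc'.2; simp only [chk, Bool.and_eq_true] at this; exact this.1)).2.1
      have hm : toPerm n s.1 ∈ grp n (L' :: rest') := gen_mem hs
      have hfix := grp_rest_fixes hc'.1 hc'.2 b hb hm
      have e := congrArg (fun σ : Perm (Fin n) => σ b) (hu _ (grp_rest_le hc'.1 hm))
      simp only [Perm.mul_apply, hfix] at e
      rw [← repr_toPerm_of_genOk (hok s hs) (u b), ← e]

end Cfsg.Agent.Lib.Compute
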