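import Mathlib
import Cfsg.Agent.Lib.Compute.SLSteinberg

/-!
Commutators of lifts in a central extension, and lifts of commuting root elements.
-/

set_option autoImplicit false
set_option linter.unusedSectionVars false

namespace Cfsg.Agent.Lib.Compute.SLSt

open scoped commutatorElement

section Central

variable {G Γ : Type*} [Group G] [Group Γ] (σ : Γ →* G) (hs : Function.Surjective σ)
  (hc : σ.ker ≤ Subgroup.center Γ)

/-- A section. -/
noncomputable def sec (g : G) : Γ := Function.surjInv hs g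

theorem sigma_sec (g : G) : σ (sec σ hs g) = g := Function.surjInv_eq hs g

/-- The commutator of lifts. -/
noncomputable def cpair (g h : G) : Γ := ⁅sec σ hs g, sec σ hs h⁆

theorem sigma_cpair (g h : G) : σ (cpair σ hs g h) = ⁅g, h⁆ := by
  rw [cpair, map_commutatorElement, sigma_sec, sigma_sec]

include hc

theorem comm_central_of_eq {a a' b b' : Γ} (ha : σ a = σ a') (hb : σ b = σ b') :
    ⁅a, b⁆ = ⁅a', b'⁆ := by
  have hk : ∀ {x y : Γ}, σ x = σ y → ∃ z ∈ Subgroup.center Γ, x = y * z := fun {x y} h =>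
    ⟨y⁻¹ * x, hc (by rw [MonoidHom.mem_ker, map_mul, map_inv, h, inv_mul_cancel]), by group⟩
  obtain ⟨k, hk', rfl⟩ := hk ha
  obtain ⟨l, hl', rfl⟩ := hk hb
  rw [Subgroup.mem_center_iff] at hk' hl'
  simp only [commutatorElement_def, mul_inv_rev]
  calc a' * k * (b' * l) * (k⁻¹ * a'⁻¹) * (l⁻¹ * b'⁻¹)
      = a' * (k * (b' * l)) * k⁻¹ * (a'⁻¹ * l⁻¹) * b'⁻¹ := by simp only [mul_assoc]
    _ = a' * (b' * l) * (a'⁻¹ * l⁻¹) * b'⁻¹ := by
        rw [← hk' (b' * l)]; simp only [mul_assoc, mul_inv_cancel_left]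
    _ = a' * b' * (l * (a'⁻¹ * l⁻¹)) * b'⁻¹ := by simp only [mul_assoc]
    _ = a' * b' * a'⁻¹ * b'⁻¹ := by
        rw [← hl' (a'⁻¹ * l⁻¹)]; simp only [mul_assoc, inv_mul_cancel, mul_one]

theorem cpair_eq {a b : Γ} {g h : G} (ha : σ a = g) (hb : σ b = h) : ⁅a, b⁆ = cpair σ hs g h :=
  comm_central_of_eq σ hc (by rw [sigma_sec, ha]) (by rw [sigma_sec, hb])

theorem cpair_conj (a : Γ) (g h : G) : a * cpair σ hs g h * a⁻¹ =
    cpair σ hs (σ a * g * (σ a)⁻¹) (σ a * h * (σ a)⁻¹) := by
  rw [← cpair_eq σ hs hc (g := σ a * g * (σ a)⁻¹) (h := σ a * h * (σ a)⁻¹)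
    (a := a * sec σ hs g * a⁻¹) (b := a * sec σ hs h * a⁻¹)
    (by simp [sigma_sec]) (by simp [sigma_sec]), cpair]
  simp only [commutatorElement_def]
  group

theorem cpair_symm (g h : G) : (cpair σ hs g h)⁻¹ = cpair σ hs h g := by
  rw [cpair, cpair, commutatorElement_inv]

theorem cpair_mem_center {g h : G} (hgh : Commute g h) :
    cpair σ hs g h ∈ Subgroup.center Γ :=
  hc (by rw [MonoidHom.mem_ker, sigma_cpair, commutatorElement_eq_one_iff_mul_comm]; exact hgh)

theorem cpair_mul_left (g g' h : G) : cpair σ hs (g * g') h =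
    sec σ hs g * cpair σ hs g' h * (sec σ hs g)⁻¹ * cpair σ hs g h := by
  rw [← cpair_eq σ hs hc (a := sec σ hs g * sec σ hs g') (b := sec σ hs h)
    (by simp [sigma_sec]) (sigma_sec σ hs h)]
  simp only [cpair, commutatorElement_def]
  group

theorem cpair_mul_right (g h h' : G) : cpair σ hs g (h * h') =
    cpair σ hs g h * (sec σ hs h * cpair σ hs g h' * (sec σ hs h)⁻¹) := by
  rw [← cpair_eq σ hs hc (a := sec σ hs g) (b := sec σ hs h * sec σ hs h')
    (sigma_sec σ hs g) (by simp [sigma_sec])]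
  simp only [cpair, commutatorElement_def]
  group

theorem cpair_mul_left_comm {g g' h : G} (h1 : Commute g' h) : cpair σ hs (g * g') h =
    cpair σ hs g h * cpair σ hs g' h := by
  have hz := Subgroup.mem_center_iff.1 (cpair_mem_center σ hs hc h1)
  rw [cpair_mul_left σ hs hc, hz, mul_inv_cancel_right, ← hz]

theorem cpair_mul_right_comm {g h h' : G} (h1 : Commute g h') : cpair σ hs g (h * h') =
    cpair σ hs g h * cpair σ hs g h' := by
  have hz := Subgroup.mem_center_iff.1 (cpair_mem_center σ hs hc h1)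
  rw [cpair_mul_right σ hs hc, hz, mul_inv_cancel_right]

theorem cpair_conj_fix {g h : G} (hgh : Commute g h) (a : Γ) {g' h' : G}
    (hg : σ a * g * (σ a)⁻¹ = g') (hh : σ a * h * (σ a)⁻¹ = h') :
    cpair σ hs g' h' = cpair σ hs g h := by
  rw [← hg, ← hh, ← cpair_conj σ hs hc,
    Subgroup.mem_center_iff.1 (cpair_mem_center σ hs hc hgh) a, mul_inv_cancel_right]

theorem lifts_commute {g h : G} (h1 : cpair σ hs g h = 1) {a b : Γ} (ha : σ a = g) (hb : σ b = h) :
    Commute a b :=
  commutatorElement_eq_one_iff_mul_comm.1 ((cpair_eq σ hs hc ha hb).trans h1)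

/-- What commutes with two elements has lifts commuting with the lifts of their commutator. -/
theorem cpair_comm {g h1 h2 : G} (e1 : Commute g h1) (e2 : Commute g h2) :
    cpair σ hs g ⁅h1, h2⁆ = 1 := by
  rw [← cpair_eq σ hs hc (a := sec σ hs g) (b := cpair σ hs h1 h2) (sigma_sec σ hs g)
    (sigma_cpair σ hs h1 h2), commutatorElement_eq_one_iff_mul_comm]
  have := cpair_conj σ hs hc (sec σ hs g) h1 h2
  rw [sigma_sec, show g * h1 * g⁻¹ = h1 by rw [e1.eq, mul_inv_cancel_right],
    show g * h2 * g⁻¹ = h2 by rw [e2.eq, mul_inv_cancel_right]] at this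
  exact mul_inv_eq_iff_eq_mul.1 this

end Central

/-- The character of a torus element. -/
def chi {n : ℕ} {K : Type*} [Field K] (i j : Fin n) (a : K) (m : Fin n) : K :=
  if m = i then a else if m = j then a⁻¹ else 1

/-- A torus acting on a family of root elements. -/
structure Tor {n : ℕ} {K G : Type*} [Field K] [Group G] (y : Fin n → Fin n → K → G)
    (d : Fin n → Fin n → K → G) : Prop where
  conj : ∀ i j, i ≠ j → ∀ a, a ≠ 0 → ∀ k l, k ≠ l → ∀ t,
    d i j a * y k l t * (d i j a)⁻¹ = y k l (chi i j a k / chi i j a l * t)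
  comm : ∀ i j k l a b, Commute (d i j a) (d k l b)

theorem exists_fresh {n : ℕ} {s : Finset (Fin n)} (h : s.card < n) : ∃ m, m ∉ s := by
  by_contra hcon
  push Not at hcon
  have : (Finset.univ : Finset (Fin n)) ⊆ s := fun y _ => hcon y
  have := Finset.card_le_card this
  rw [Finset.card_univ, Fintype.card_fin] at this
  omega

theorem exists_pow_ne_one {K : Type*} [Field K] [Finite K] {m : ℕ} (h : ¬ Nat.card K - 1 ∣ m) :
    ∃ a : K, a ≠ 0 ∧ a ^ m ≠ 1 := by
  obtain ⟨u, hu⟩ := IsCyclic.exists_ofOrder_eq_natCard (α := Kˣ)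
  refine ⟨u, u.ne_zero, fun e => h ?_⟩
  rw [← Nat.card_units, ← hu]
  exact orderOf_dvd_of_pow_eq_one (Units.ext (by simpa using e))

/-- A subring containing the cubes is everything outside the order four. -/
theorem eq_univ_of_cubes {K : Type*} [Field K] [Finite K] (hq : Nat.card K ≠ 4) (R : Subring K)
    (hR : ∀ x : K, x ^ 3 ∈ R) : R = ⊤ := by
  classical
  haveI := Fintype.ofFinite K
  by_contra hne
  obtain ⟨x, hx⟩ : ∃ x, x ∉ R := by
    by_contra hcon
    push Not at hcon
    exact hne (eq_top_iff.2 fun y _ => hcon y)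
  have hinv : ∀ a ∈ R, a⁻¹ ∈ R := fun a ha => by
    rcases eq_or_ne a 0 with rfl | ha0
    · simpa using ha
    have h2 : 2 ≤ Fintype.card K := Fintype.one_lt_card
    have : a ^ (Fintype.card K - 2) = a⁻¹ := by
      refine eq_inv_of_mul_eq_one_left ?_
      rw [← pow_succ, show Fintype.card K - 2 + 1 = Fintype.card K - 1 by omega,
        FiniteField.pow_card_sub_one_eq_one a ha0]
    exact this ▸ pow_mem ha _
  let s : Finset K := Finset.univ.filter (· ∈ R)
  have hsq : s.card * s.card ≤ Fintype.card K := by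
    rw [← Finset.card_product, ← Finset.card_univ]
    refine Finset.card_le_card_of_injOn (fun p => p.1 + p.2 * x) (fun _ _ => Finset.mem_univ _) ?_
    rintro ⟨a, b⟩ hab ⟨a', b'⟩ hab' e
    simp only [Finset.coe_product, Set.mem_prod, Finset.mem_coe, s, Finset.mem_filter,
      Finset.mem_univ, true_and] at hab hab'
    simp only at e
    by_cases hb : b = b'
    · subst hb
      rw [add_left_inj] at e
      rw [e]
    · exfalso
      refine hx ?_
      have hb' : b - b' ≠ 0 := sub_ne_zero.2 hb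
      have : x = (a' - a) * (b - b')⁻¹ := by
        field_simp
        linear_combination e
      rw [this]
      exact mul_mem (sub_mem hab'.1 hab.1) (hinv _ (sub_mem hab.2 hab'.2))
  have hcube : Fintype.card K - 1 ≤ 3 * (s.card - 1) := by
    have h0 : (0 : K) ∈ s := by simp [s]
    rw [← Finset.card_erase_of_mem h0, ← Finset.card_univ,
      ← Finset.card_erase_of_mem (Finset.mem_univ (0 : K))]
    refine le_trans (Finset.card_le_mul_card_image (f := fun u : K => u ^ 3) _ 3 fun c _ => ?_) ?_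
    · refine le_trans (Finset.card_le_card (t := (Polynomial.nthRoots 3 c).toFinset) fun u hu => ?_)
        ((Multiset.toFinset_card_le _).trans (Polynomial.card_nthRoots 3 c))
      rw [Multiset.mem_toFinset, Polynomial.mem_nthRoots (by norm_num)]
      exact (Finset.mem_filter.1 hu).2
    · refine Nat.mul_le_mul_left 3 (Finset.card_le_card ?_)
      intro c hc
      obtain ⟨u, hu, rfl⟩ := Finset.mem_image.1 hc
      rw [Finset.mem_erase] at hu ⊢
      exact ⟨pow_ne_zero 3 hu.1, Finset.mem_filter.2 ⟨Finset.mem_univ _, hR u⟩⟩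
  have hs2 : 2 ≤ s.card := Finset.one_lt_card.2 ⟨0, by simp [s], 1, by simp [s], zero_ne_one⟩
  have hs : s.card ≤ 2 := by
    by_contra hcon
    have : 3 * s.card ≤ s.card * s.card := Nat.mul_le_mul_right _ (by omega)
    omega
  have hle : Fintype.card K ≤ 4 := by omega
  have hge : 4 ≤ Fintype.card K := le_trans (Nat.mul_le_mul hs2 hs2) hsq
  exact hq (by rw [Nat.card_eq_fintype_card]; omega)

end Cfsg.Agent.Lib.Compute.SLSt
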