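import Mathlib
import Cfsg.Agent.Lib.Compute.SLLiftBasic

/-!
Root elements lift to every central extension.
-/

set_option autoImplicit false
set_option linter.unusedSectionVars false

namespace Cfsg.Agent.Lib.Compute.SLSt

open scoped commutatorElement

variable {n : ℕ} {K G Γ : Type*} [Field K] [Group G] [Group Γ] [Finite K]
  {σ : Γ →* G} (hs : Function.Surjective σ) (hc : σ.ker ≤ Subgroup.center Γ)
  {y : Fin n → Fin n → K → G} (H : Fam y) {d : Fin n → Fin n → K → G} (T : Tor y d)
  (hn : 3 ≤ n) (h3 : n = 3 → Nat.card K ≠ 2 ∧ Nat.card K ≠ 4) (h4 : n = 4 → Nat.card K ≠ 2)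
include hs hc H T hn h3 h4

local notation "CP" => cpair σ hs

omit T hn h3 h4 in
theorem root_add_left {i j k l : Fin n} (hij : i ≠ j) (hkl : k ≠ l) (hil : i ≠ l) (hjk : j ≠ k)
    (t t' u : K) : CP (y i j (t + t')) (y k l u) = CP (y i j t) (y k l u) * CP (y i j t') (y k l u) := by
  rw [← H.add i j hij, cpair_mul_left_comm σ hs hc (H.comm0 i j k l hij hkl hil hjk t' u)]

omit T hn h3 h4 in
theorem root_add_right {i j k l : Fin n} (hij : i ≠ j) (hkl : k ≠ l) (hil : i ≠ l) (hjk : j ≠ k)
    (t u u' : K) : CP (y i j t) (y k l (u + u')) = CP (y i j t) (y k l u) * CP (y i j t) (y k l u') := by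
  rw [← H.add k l hkl, cpair_mul_right_comm σ hs hc (H.comm0 i j k l hij hkl hil hjk t u')]

omit T hn h3 h4 in
/-- Scaling the first argument by an element other than one. -/
theorem root_kill {i j k l : Fin n} (hij : i ≠ j) (hkl : k ≠ l) (hil : i ≠ l) (hjk : j ≠ k)
    {α : K} (hα : α ≠ 1)
    (h : ∀ t u, CP (y i j (α * t)) (y k l u) = CP (y i j t) (y k l u)) (t u : K) :
    CP (y i j t) (y k l u) = 1 := by
  have h1 : α - 1 ≠ 0 := sub_ne_zero.2 hα
  have := h (t / (α - 1)) u
  rw [show α * (t / (α - 1)) = t + t / (α - 1) by field_simp; ring,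
    root_add_left hs hc H hij hkl hil hjk] at this
  exact mul_eq_right.1 this

omit hn h3 h4 in
theorem root_scale {i j k l : Fin n} (hij : i ≠ j) (hkl : k ≠ l) (hil : i ≠ l) (hjk : j ≠ k)
    {p q : Fin n} (hpq : p ≠ q) {a : K} (ha : a ≠ 0) (t u : K) :
    CP (y i j (chi p q a i / chi p q a j * t)) (y k l (chi p q a k / chi p q a l * u)) =
      CP (y i j t) (y k l u) := by
  refine cpair_conj_fix σ hs hc (H.comm0 i j k l hij hkl hil hjk t u) (sec σ hs (d p q a)) ?_ ?_
  · rw [sigma_sec]; exact T.conj p q hpq a ha i j hij t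
  · rw [sigma_sec]; exact T.conj p q hpq a ha k l hkl u

omit T h3 h4 in
theorem root_comm_of_third {i j k l m : Fin n} (hij : i ≠ j) (hkl : k ≠ l) (hil : i ≠ l)
    (hjk : j ≠ k) (hmi : m ≠ i) (hmj : m ≠ j) (hmk : m ≠ k) (hml : m ≠ l) (t u : K) :
    CP (y i j t) (y k l u) = 1 := by
  rw [← mul_one u, ← H.comm1 k m l hmk.symm hml hkl u 1]
  exact cpair_comm σ hs hc (H.comm0 i j k m hij hmk.symm hmi.symm hjk t u)
    (H.comm0 i j m l hij hml hil hmj.symm t 1)

omit hn h4 in
/-- Three indices with a common row or column. -/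
theorem root_comm_three (hn3 : n = 3) {i j k l : Fin n} (hij : i ≠ j) (hkl : k ≠ l) (hil : i ≠ l)
    (hjk : j ≠ k) (h : (i = k ∧ j ≠ l) ∨ (j = l ∧ i ≠ k)) (t u : K) :
    CP (y i j t) (y k l u) = 1 := by
  obtain ⟨h2, h4⟩ := h3 hn3
  obtain ⟨a, ha, ha3⟩ : ∃ a : K, a ≠ 0 ∧ a ^ 3 ≠ 1 := exists_pow_ne_one fun hd => by
    have : 2 ≤ Nat.card K := Finite.one_lt_card
    rcases (Nat.dvd_prime Nat.prime_three).1 hd with h | h <;> omega
  refine root_kill hs hc H hij hkl hil hjk ha3 (fun t u => ?_) t u
  have P : ∀ a : K, a ≠ 0 → ∀ t u,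
      CP (y i j (a ^ 2 * t)) (y k l (a * u)) = CP (y i j t) (y k l u) := by
    intro a ha t u
    have := root_scale hs hc H T hij hkl hil hjk hij ha t u
    rcases h with ⟨rfl, h⟩ | ⟨rfl, h⟩
    · simpa [chi, hij.symm, hil.symm, Ne.symm h, div_inv_eq_mul, sq] using this
    · simpa [chi, hij.symm, Ne.symm h, Ne.symm hjk, div_inv_eq_mul, sq] using this
  have Q : ∀ a : K, a ≠ 0 → ∀ t u,
      CP (y i j (a * t)) (y k l (a ^ 2 * u)) = CP (y i j t) (y k l u) := by
    intro a ha t u
    have := root_scale hs hc H T hij hkl hil hjk hkl ha t u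
    rcases h with ⟨rfl, h⟩ | ⟨rfl, h⟩
    · simpa [chi, hij.symm, h, hil.symm, div_inv_eq_mul, sq] using this
    · simpa [chi, hkl.symm, h, hij, hij.symm, hjk, div_inv_eq_mul, sq] using this
  calc CP (y i j (a ^ 3 * t)) (y k l u)
      = CP (y i j (a * (a ^ 3 * t))) (y k l (a ^ 2 * u)) := (Q a ha _ _).symm
    _ = CP (y i j (a ^ 2 * (a ^ 2 * t))) (y k l (a * (a * u))) := by
        rw [show a * (a ^ 3 * t) = a ^ 2 * (a ^ 2 * t) by ring, show a ^ 2 * u = a * (a * u) by ring]
    _ = CP (y i j t) (y k l u) := by rw [P a ha, P a ha]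

omit h3 in
/-- Four indices. -/
theorem root_comm_four (hn4 : n = 4) {i j k l : Fin n} (hij : i ≠ j) (hkl : k ≠ l) (hil : i ≠ l)
    (hjk : j ≠ k) (hik : i ≠ k) (hjl : j ≠ l) (t u : K) :
    CP (y i j t) (y k l u) = 1 := by
  classical
  haveI := Fintype.ofFinite K
  by_cases h3q : Nat.card K = 3
  · set c := CP (y i j 1) (y k l 1) with hcdef
    have hz := cpair_mem_center σ hs hc (H.comm0 i j k l hij hkl hil hjk 1 1)
    have hcc : c⁻¹ = c := by
      rw [hcdef, cpair_symm σ hs hc]
      refine cpair_conj_fix σ hs hc (H.comm0 i j k l hij hkl hil hjk 1 1)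
        (sec σ hs (H.W j l 1 * H.W i k 1)) ?_ ?_
      · rw [sigma_sec, _root_.mul_inv_rev]
        calc H.W j l 1 * H.W i k 1 * y i j 1 * ((H.W i k 1)⁻¹ * (H.W j l 1)⁻¹)
            = H.W j l 1 * (H.W i k 1 * y i j 1 * (H.W i k 1)⁻¹) * (H.W j l 1)⁻¹ := by group
          _ = y k l 1 := by
              rw [H.W_im hik hij.symm hjk one_ne_zero,
                H.W_mi hjl hjk.symm hkl one_ne_zero]
              simp
      · rw [sigma_sec, _root_.mul_inv_rev]
        calc H.W j l 1 * H.W i k 1 * y k l 1 * ((H.W i k 1)⁻¹ * (H.W j l 1)⁻¹)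
            = H.W j l 1 * (H.W i k 1 * y k l 1 * (H.W i k 1)⁻¹) * (H.W j l 1)⁻¹ := by group
          _ = y i j 1 := by
              rw [H.W_jm hik hil.symm hkl.symm one_ne_zero,
                H.W_mj hjl hij hil one_ne_zero]
              simp
    have h3' : (3 : K) = 0 := by
      have := FiniteField.cast_card_eq_zero (K := K)
      rwa [← Nat.card_eq_fintype_card, h3q, Nat.cast_ofNat] at this
    have h0 : ∀ u, CP (y i j 0) (y k l u) = 1 := fun u => by
      have := root_add_left hs hc H hij hkl hil hjk 0 0 u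
      rw [add_zero] at this
      exact mul_eq_left.1 this.symm
    have hc1 : c = 1 := by
      have e : c * c = 1 := by nth_rw 1 [← hcc]; rw [inv_mul_cancel]
      have e3 : c * c * c = 1 := by
        rw [hcdef, ← root_add_left hs hc H hij hkl hil hjk, ← root_add_left hs hc H hij hkl hil hjk,
          show (1 : K) + 1 + 1 = 3 by norm_num, h3', h0]
      rwa [e, one_mul] at e3
    have hel : ∀ t : K, t = 0 ∨ t = 1 ∨ t = -1 := fun t => by
      have ht := FiniteField.pow_card t
      rw [← Nat.card_eq_fintype_card, h3q] at ht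
      rcases mul_eq_zero.1 (show t * ((t - 1) * (t + 1)) = 0 by linear_combination ht) with h | h
      · exact Or.inl h
      · rcases mul_eq_zero.1 h with h | h
        · exact Or.inr (Or.inl (sub_eq_zero.1 h))
        · exact Or.inr (Or.inr (eq_neg_of_add_eq_zero_left h))
    have hright : ∀ u, CP (y i j 1) (y k l u) = 1 := by
      have z0 : CP (y i j 1) (y k l 0) = 1 := by
        have := root_add_right hs hc H hij hkl hil hjk 1 0 0
        rw [add_zero] at this
        exact mul_eq_left.1 this.symm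
      intro u
      rcases hel u with rfl | rfl | rfl
      · exact z0
      · exact hc1
      · have := root_add_right hs hc H hij hkl hil hjk 1 (-1) 1
        rw [neg_add_cancel, z0, ← hcdef, hc1, mul_one] at this
        exact this.symm
    rcases hel t with rfl | rfl | rfl
    · exact h0 u
    · exact hright u
    · have := root_add_left hs hc H hij hkl hil hjk (-1) 1 u
      rw [neg_add_cancel, h0, hright, mul_one] at this
      exact this.symm
  obtain ⟨a, ha, ha2⟩ : ∃ a : K, a ≠ 0 ∧ a ^ 2 ≠ 1 := exists_pow_ne_one fun hd => by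
    have : 2 ≤ Nat.card K := Finite.one_lt_card
    have := h4 hn4
    rcases (Nat.dvd_prime Nat.prime_two).1 hd with h | h <;> omega
  refine root_kill hs hc H hij hkl hil hjk ha2 (fun t u => ?_) t u
  have := root_scale hs hc H T hij hkl hil hjk hij ha t u
  simpa [chi, hij.symm, hik.symm, hil.symm, hjk.symm, hjl.symm, div_inv_eq_mul, sq] using this

/-- Lifts of commuting root elements commute. -/
theorem root_comm {i j k l : Fin n} (hij : i ≠ j) (hkl : k ≠ l) (hil : i ≠ l) (hjk : j ≠ k)
    (t u : K) : CP (y i j t) (y k l u) = 1 := by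
  by_cases hex : ∃ m, m ≠ i ∧ m ≠ j ∧ m ≠ k ∧ m ≠ l
  · obtain ⟨m, a, b, c, e⟩ := hex
    exact root_comm_of_third hs hc H hn hij hkl hil hjk a b c e t u
  have hcard : n ≤ ({i, j, k, l} : Finset (Fin n)).card := by
    by_contra hlt
    obtain ⟨m, hm⟩ := exists_fresh (not_le.1 hlt)
    simp only [Finset.mem_insert, Finset.mem_singleton, not_or] at hm
    exact hex ⟨m, hm⟩
  have hle : ({i, j, k, l} : Finset (Fin n)).card ≤ 4 := Finset.card_le_four
  by_cases hik : i = k
  · subst hik
    have e : ({i, j, i, l} : Finset (Fin n)) = {i, j, l} := by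
      ext m; simp only [Finset.mem_insert, Finset.mem_singleton]; tauto
    have hjl : j ≠ l := by
      rintro rfl
      have : ({i, j, i, j} : Finset (Fin n)) = {i, j} := by
        ext m; simp only [Finset.mem_insert, Finset.mem_singleton]; tauto
      rw [this] at hcard
      have := Finset.card_le_two (a := i) (b := j)
      omega
    rw [e] at hcard
    have := Finset.card_le_three (a := i) (b := j) (c := l)
    exact root_comm_three hs hc H T h3 (by omega) hij hkl hil hjk (Or.inl ⟨rfl, hjl⟩) t u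
  by_cases hjl : j = l
  · subst hjl
    have e : ({i, j, k, j} : Finset (Fin n)) = {i, j, k} := by
      ext m; simp only [Finset.mem_insert, Finset.mem_singleton]; tauto
    rw [e] at hcard
    have := Finset.card_le_three (a := i) (b := j) (c := k)
    exact root_comm_three hs hc H T h3 (by omega) hij hkl hil hjk (Or.inr ⟨rfl, hik⟩) t u
  rcases Nat.lt_or_ge n 4 with hlt | hge
  · exfalso
    have : ({i, j, k, l} : Finset (Fin n)).card = 4 := by
      simp [hij, hik, hil, hjk, hjl, hkl]
    have := Finset.card_le_univ ({i, j, k, l} : Finset (Fin n))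
    rw [Fintype.card_fin] at this
    omega
  exact root_comm_four hs hc H T hn h4 (by omega) hij hkl hil hjk hik hjl t u

theorem root_lifts {i j k l : Fin n} (hij : i ≠ j) (hkl : k ≠ l) (hil : i ≠ l) (hjk : j ≠ k)
    {t u : K} {a b : Γ} (ha : σ a = y i j t) (hb : σ b = y k l u) : Commute a b :=
  lifts_commute σ hs hc (root_comm hs hc H T hn h3 h4 hij hkl hil hjk t u) ha hb

section Edge

variable {i j : Fin n} (hij : i ≠ j)
include hij

omit T hn h3 h4 in
theorem sigma_edge {k : Fin n} (hik : i ≠ k) (hkj : k ≠ j) (t u : K) :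
    σ (CP (y i k t) (y k j u)) = y i j (t * u) := by
  rw [sigma_cpair, H.comm1 i k j hik hkj hij]

theorem edge_add_left {k : Fin n} (hik : i ≠ k) (hkj : k ≠ j) (t t' u : K) :
    CP (y i k (t + t')) (y k j u) = CP (y i k t) (y k j u) * CP (y i k t') (y k j u) := by
  have c1 := root_lifts hs hc H T hn h3 h4 hik hij hij hik.symm (sigma_sec σ hs (y i k t))
    (sigma_edge hs hc H hij hik hkj t' u)
  have c2 := root_lifts hs hc H T hn h3 h4 hij hij hij hij.symm
    (sigma_edge hs hc H hij hik hkj t u) (sigma_edge hs hc H hij hik hkj t' u)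
  rw [← H.add i k hik, cpair_mul_left σ hs hc, c1.eq, mul_inv_cancel_right, c2.eq]

theorem edge_add_right {k : Fin n} (hik : i ≠ k) (hkj : k ≠ j) (t u u' : K) :
    CP (y i k t) (y k j (u + u')) = CP (y i k t) (y k j u) * CP (y i k t) (y k j u') := by
  have c1 := root_lifts hs hc H T hn h3 h4 hkj hij hkj hij.symm (sigma_sec σ hs (y k j u))
    (sigma_edge hs hc H hij hik hkj t u')
  rw [← H.add k j hkj, cpair_mul_right σ hs hc, c1.eq, mul_inv_cancel_right]

theorem edge_neg_right {k : Fin n} (hik : i ≠ k) (hkj : k ≠ j) (t u : K) :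
    CP (y i k t) (y k j (-u)) = (CP (y i k t) (y k j u))⁻¹ := by
  have h0 : CP (y i k t) (y k j 0) = 1 := by
    have := edge_add_right hs hc H T hn h3 h4 hij hik hkj t 0 0
    rw [add_zero] at this
    exact mul_eq_left.1 this.symm
  refine eq_inv_of_mul_eq_one_left ?_
  rw [← edge_add_right hs hc H T hn h3 h4 hij hik hkj, neg_add_cancel, h0]

/-- With four indices the edge does not depend on the middle index. -/
theorem edge_indep {k l : Fin n} (hik : i ≠ k) (hkj : k ≠ j) (hil : i ≠ l) (hlj : l ≠ j)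
    (hkl : k ≠ l) (t u v : K) :
    CP (y i k (t * u)) (y k j v) = CP (y i l t) (y l j (u * v)) := by
  set a := sec σ hs (y i l t) with ha
  set b := sec σ hs (y l k u) with hb
  set c := sec σ hs (y k j v) with hc'
  have sa : σ a = y i l t := sigma_sec σ hs _
  have sb : σ b = y l k u := sigma_sec σ hs _
  have sc : σ c = y k j v := sigma_sec σ hs _
  have sw : σ ⁅a, b⁆ = y i k (t * u) := by
    rw [map_commutatorElement, sa, sb, H.comm1 i l k hil hkl.symm hik]
  rw [← cpair_eq σ hs hc sw sc]
  set z := ⁅c, b⁆ with hz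
  have sz : σ z = y l j (-(u * v)) := by
    rw [hz, map_commutatorElement, sb, sc, ← commutatorElement_inv,
      H.comm1 l k j hkl.symm hkj hlj, H.inv hlj]
  have cac := root_lifts hs hc H T hn h3 h4 hkj hil hkl hij.symm sc sa
  have czw := root_lifts hs hc H T hn h3 h4 hlj hik hkl.symm hij.symm sz sw
  have e : c * ⁅a, b⁆ * c⁻¹ = CP (y i l t) (y l j (-(u * v))) * ⁅a, b⁆ := by
    rw [← cpair_eq σ hs hc sa sz]
    calc c * ⁅a, b⁆ * c⁻¹ = ⁅c * a * c⁻¹, c * b * c⁻¹⁆ := by
          simp only [commutatorElement_def]; group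
      _ = ⁅a, z * b⁆ := by
          rw [cac.eq, mul_inv_cancel_right, hz, commutatorElement_def c b]; congr 1; group
      _ = ⁅a, z⁆ * (z * ⁅a, b⁆ * z⁻¹) := by simp only [commutatorElement_def]; group
      _ = ⁅a, z⁆ * ⁅a, b⁆ := by rw [czw.eq, mul_inv_cancel_right]
  calc ⁅⁅a, b⁆, c⁆ = ⁅a, b⁆ * (c * ⁅a, b⁆ * c⁻¹)⁻¹ := by
        simp only [commutatorElement_def]; group
    _ = (CP (y i l t) (y l j (-(u * v))))⁻¹ := by rw [e]; group
    _ = _ := by
        rw [edge_neg_right hs hc H T hn h3 h4 hij hil hlj, inv_inv]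

omit hn h4 in
/-- The torus element fixing a root element has lifts commuting with its lifts. -/
theorem torus_fix (hn3 : n = 3) {k : Fin n} (hik : i ≠ k) (hkj : k ≠ j) {a : K} (ha : a ≠ 0)
    (t : K) : CP (d i k a * d j k a) (y i j t) = 1 := by
  classical
  obtain ⟨h2, -⟩ := h3 hn3
  obtain ⟨b, hb, hb1⟩ : ∃ b : K, b ≠ 0 ∧ b ^ 1 ≠ 1 := exists_pow_ne_one fun hd => by
    have : 2 ≤ Nat.card K := Finite.one_lt_card
    have := Nat.dvd_one.1 hd
    omega
  rw [pow_one] at hb1
  set D := d i k a * d j k a with hD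
  have hfix : ∀ t, Commute D (y i j t) := by
    intro t
    refine mul_inv_eq_iff_eq_mul.1 ?_
    rw [hD, _root_.mul_inv_rev, show d i k a * d j k a * y i j t * ((d j k a)⁻¹ * (d i k a)⁻¹) =
      d i k a * (d j k a * y i j t * (d j k a)⁻¹) * (d i k a)⁻¹ by group,
      T.conj j k hkj.symm a ha i j hij, T.conj i k hik a ha i j hij]
    congr 1
    simp [chi, hij, hij.symm, hik, hkj.symm]
    field_simp
  have hadd : ∀ t t', CP D (y i j (t + t')) = CP D (y i j t) * CP D (y i j t') := fun t t' => by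
    rw [← H.add i j hij, cpair_mul_right_comm σ hs hc (hfix t')]
  have hinv : ∀ t, CP D (y i j (b * t)) = CP D (y i j t) := fun t => by
    refine cpair_conj_fix σ hs hc (hfix t) (sec σ hs (d i k b)) ?_ ?_
    · rw [sigma_sec, mul_inv_eq_iff_eq_mul]
      exact ((T.comm i k i k b a).mul_right (T.comm i k j k b a)).eq
    · rw [sigma_sec, T.conj i k hik b hb i j hij]
      simp [chi, hij.symm, hkj.symm]
  have h1 : b - 1 ≠ 0 := sub_ne_zero.2 hb1
  have := hinv (t / (b - 1))
  rw [show b * (t / (b - 1)) = t + t / (b - 1) by field_simp; ring, hadd] at this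
  exact mul_eq_right.1 this

omit h4 in
theorem edge_cube (h4 : n = 4 → Nat.card K ≠ 2) (hn3 : n = 3) {k : Fin n} (hik : i ≠ k)
    (hkj : k ≠ j) {a : K} (ha : a ≠ 0) (t v : K) :
    CP (y i k (a ^ 3 * t)) (y k j v) = CP (y i k t) (y k j (a ^ 3 * v)) := by
  obtain ⟨w, rfl⟩ : ∃ w, v = a⁻¹ ^ 3 * w := ⟨a ^ 3 * v, by field_simp⟩
  rw [show a ^ 3 * (a⁻¹ ^ 3 * w) = w by field_simp]
  set D := d i k a * d j k a with hD
  have hcm : Commute (sec σ hs D) (CP (y i k t) (y k j w)) :=
    lifts_commute σ hs hc (torus_fix hs hc H T h3 hij hn3 hik hkj ha (t * w))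
      (sigma_sec σ hs D) (sigma_edge hs hc H hij hik hkj t w)
  have e := cpair_conj σ hs hc (sec σ hs D) (y i k t) (y k j w)
  rw [hcm.eq, mul_inv_cancel_right, sigma_sec] at e
  have conjD : ∀ p q, p ≠ q → ∀ s, D * y p q s * D⁻¹ = y p q
      (chi i k a p / chi i k a q * (chi j k a p / chi j k a q * s)) := by
    intro p q hpq s
    rw [hD, _root_.mul_inv_rev, show d i k a * d j k a * y p q s * ((d j k a)⁻¹ * (d i k a)⁻¹) =
      d i k a * (d j k a * y p q s * (d j k a)⁻¹) * (d i k a)⁻¹ by group,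
      T.conj j k hkj.symm a ha p q hpq, T.conj i k hik a ha p q hpq]
  rw [conjD i k hik, conjD k j hkj] at e
  rw [e]
  congr 2 <;> (simp [chi, hij, hij.symm, hik, hik.symm, hkj, hkj.symm]; field_simp)

/-- The edge depends only on the product, and not on the middle index. -/
theorem edge_eq {k : Fin n} (hik : i ≠ k) (hkj : k ≠ j) (t u : K) :
    CP (y i k t) (y k j u) = CP (y i k (t * u)) (y k j 1) := by
  classical
  rcases Nat.lt_or_ge n 4 with hlt | hge
  · have hn3 : n = 3 := by omega
    let R : Subring K :=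
      { carrier := {r | ∀ t v, CP (y i k (t * r)) (y k j v) = CP (y i k t) (y k j (r * v))}
        one_mem' := fun t v => by simp
        mul_mem' := fun {r s} hr hs' t v => by
          rw [← mul_assoc, hs', hr, mul_assoc]
        zero_mem' := fun t v => by
          have z1 : CP (y i k 0) (y k j v) = 1 := by
            have := edge_add_left hs hc H T hn h3 h4 hij hik hkj 0 0 v
            rw [add_zero] at this
            exact mul_eq_left.1 this.symm
          have z2 : CP (y i k t) (y k j 0) = 1 := by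
            have := edge_add_right hs hc H T hn h3 h4 hij hik hkj t 0 0
            rw [add_zero] at this
            exact mul_eq_left.1 this.symm
          simp [z1, z2]
        add_mem' := fun {r s} hr hs' t v => by
          rw [mul_add, edge_add_left hs hc H T hn h3 h4 hij hik hkj, hr, hs',
            ← edge_add_right hs hc H T hn h3 h4 hij hik hkj, add_mul]
        neg_mem' := fun {r} hr t v => by
          have := hr (-t) v
          rw [neg_mul] at this
          rw [mul_neg, this, neg_mul, edge_neg_right hs hc H T hn h3 h4 hij hik hkj]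
          refine eq_inv_of_mul_eq_one_left ?_
          rw [← edge_add_left hs hc H T hn h3 h4 hij hik hkj, neg_add_cancel]
          have := edge_add_left hs hc H T hn h3 h4 hij hik hkj 0 0 (r * v)
          rw [add_zero] at this
          exact mul_eq_left.1 this.symm }
    have hR : R = ⊤ := eq_univ_of_cubes (h3 hn3).2 R fun x => by
      rcases eq_or_ne x 0 with rfl | hx
      · rw [zero_pow three_ne_zero]; exact zero_mem R
      · intro t v
        rw [mul_comm t]
        exact edge_cube hs hc H T hn h3 hij h4 hn3 hik hkj hx t v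
    have := (hR ▸ Subring.mem_top u : u ∈ R) t 1
    rw [mul_one] at this
    exact this.symm
  · obtain ⟨l, hl⟩ := exists_fresh (s := ({i, j, k} : Finset (Fin n)))
      ((Finset.card_le_three).trans_lt (by omega))
    simp only [Finset.mem_insert, Finset.mem_singleton, not_or] at hl
    obtain ⟨hli, hlj, hlk⟩ := hl
    have e1 := edge_indep hs hc H T hn h3 h4 hij hik hkj (Ne.symm hli) hlj (Ne.symm hlk) t 1 u
    have e2 := edge_indep hs hc H T hn h3 h4 hij hik hkj (Ne.symm hli) hlj (Ne.symm hlk) t u 1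
    rw [mul_one, one_mul] at e1
    rw [e1, e2, mul_one]

theorem edge_indep' {k l : Fin n} (hik : i ≠ k) (hkj : k ≠ j) (hil : i ≠ l) (hlj : l ≠ j)
    (t u : K) : CP (y i k t) (y k j u) = CP (y i l (t * u)) (y l j 1) := by
  rw [edge_eq hs hc H T hn h3 h4 hij hik hkj]
  rcases eq_or_ne k l with rfl | hkl
  · rfl
  have := edge_indep hs hc H T hn h3 h4 hij hik hkj hil hlj hkl (t * u) 1 1
  rwa [mul_one, one_mul] at this

end Edge

/-- The root elements lift to a family in every central extension. -/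
theorem exists_fam_lift :
    ∃ x : Fin n → Fin n → K → Γ, Fam x ∧ ∀ i j, i ≠ j → ∀ t, σ (x i j t) = y i j t := by
  classical
  choose m hmi hmj using fun i j : Fin n => Fam.exists_third hn i j
  refine ⟨fun i j t => CP (y i (m i j) t) (y (m i j) j 1), ⟨fun i j h t u => ?_,
    fun i j k l hij hkl hil hjk t u => ?_, fun i j l hij hjl hil t u => ?_⟩, fun i j h t => ?_⟩
  · exact (edge_add_left hs hc H T hn h3 h4 h (hmi i j).symm (hmj i j) t u 1).symm
  · exact root_lifts hs hc H T hn h3 h4 hij hkl hil hjk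
      (by rw [sigma_edge hs hc H hij (hmi i j).symm (hmj i j), mul_one])
      (by rw [sigma_edge hs hc H hkl (hmi k l).symm (hmj k l), mul_one])
  · rw [cpair_eq σ hs hc (g := y i j t) (h := y j l u)
      (by rw [sigma_edge hs hc H hij (hmi i j).symm (hmj i j), mul_one])
      (by rw [sigma_edge hs hc H hjl (hmi j l).symm (hmj j l), mul_one])]
    exact edge_indep' hs hc H T hn h3 h4 hil hij hjl (hmi i l).symm (hmj i l) t u
  · rw [sigma_edge hs hc H h (hmi i j).symm (hmj i j), mul_one]

end Cfsg.Agent.Lib.Compute.SLSt
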