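import Mathlib
import Cfsg.Agent.Lib.Compute.SLLift
import Cfsg.Agent.Lib.Compute.SLPresent
import Cfsg.Agent.Lib.Compute.SL2Mult
import Cfsg.Agent.Lib.Chev.Mult.Basic
import Cfsg.Agent.Lib.Classical.LinearSimple

/-!
The Schur multiplier of `PSL_n`.
-/

set_option autoImplicit false
set_option linter.unusedSectionVars false

namespace Cfsg.Agent.Lib.Compute.SLSt

open Matrix
open scoped commutatorElement

universe u

variable {n : ℕ} {K : Type u} [Field K]

theorem chi_ne_zero {i j : Fin n} {a : K} (ha : a ≠ 0) (m : Fin n) : chi i j a m ≠ 0 := by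
  rw [chi]
  split_ifs
  exacts [ha, inv_ne_zero ha, one_ne_zero]

theorem diag_conj {i j : Fin n} (hij : i ≠ j) {a : K} (ha : a ≠ 0) {k l : Fin n} (hkl : k ≠ l)
    (t : K) : SpecialLinearGroup.diag2n hij a ha * tv hkl t *
      (SpecialLinearGroup.diag2n hij a ha)⁻¹ = tv hkl (chi i j a k / chi i j a l * t) := by
  rw [mul_inv_eq_iff_eq_mul]
  have hd : ∀ (v : Fin n → K) (m : Fin n),
      (SpecialLinearGroup.diag2n hij a ha • v) m = chi i j a m * v m := by
    intro v m
    rw [Cfsg.Agent.Lib.Classical.diag2n_smul_apply, chi]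
    split_ifs <;> simp_all
  refine Cfsg.Agent.Lib.Classical.SL_ext_smul fun v => funext fun m => ?_
  simp only [mul_smul, tv, Cfsg.Agent.Lib.Classical.transvection_smul_apply, hd]
  rcases eq_or_ne m k with rfl | hm
  · have := chi_ne_zero (i := i) (j := j) ha l
    simp only [if_pos]
    field_simp
  · simp [hm]

theorem commutator_eq_top (h : 4 ≤ Nat.card K) :
    commutator (SpecialLinearGroup (Fin n) K) = ⊤ := by
  haveI : Finite K := Nat.finite_of_card_ne_zero (by omega)
  obtain ⟨a, ha, ha2⟩ : ∃ a : K, a ≠ 0 ∧ a ^ 2 ≠ 1 := exists_pow_ne_one fun hd => by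
    have := Nat.le_of_dvd two_pos hd
    omega
  refine Cfsg.Agent.Lib.Classical.SL_eq_top_of_transvection_mem fun i j hij b => ?_
  have h1 : a ^ 2 - 1 ≠ 0 := sub_ne_zero.2 ha2
  have e : ⁅SpecialLinearGroup.diag2n hij a ha, tv hij (b / (a ^ 2 - 1))⁆ = tv hij b := by
    rw [commutatorElement_def, diag_conj hij ha hij, tv, tv, tv,
      SpecialLinearGroup.transvection_inv]
    refine Cfsg.Agent.Lib.Classical.SL_ext_smul fun v => funext fun m => ?_
    simp only [mul_smul, Cfsg.Agent.Lib.Classical.transvection_smul_apply, chi, if_pos, hij.symm,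
      if_false]
    split_ifs
    · field_simp; ring
    · rfl
  rw [show SpecialLinearGroup.transvection hij b = tv hij b from rfl, ← e]
  exact Subgroup.commutator_mem_commutator trivial trivial

variable (n K)

/-- The projection. -/
noncomputable def proj : SpecialLinearGroup (Fin n) K →* ProjectiveSpecialLinearGroup (Fin n) K :=
  QuotientGroup.mk' _

/-- The projected root elements. -/
noncomputable def py (i j : Fin n) (t : K) : ProjectiveSpecialLinearGroup (Fin n) K :=
  proj n K (if h : i ≠ j then tv h t else 1)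

/-- The projected torus. -/
noncomputable def pd (i j : Fin n) (a : K) : ProjectiveSpecialLinearGroup (Fin n) K := by
  classical
  exact proj n K (if h : i ≠ j ∧ a ≠ 0 then SpecialLinearGroup.diag2n h.1 a h.2 else 1)

theorem fam_py : Fam (py n K) := by
  have H := fam_tv (n := n) (K := K)
  refine ⟨fun i j h t u => ?_, fun i j k l hij hkl hil hjk t u => ?_,
    fun i j l hij hjl hil t u => ?_⟩
  · exact (map_mul (proj n K) _ _).symm.trans (congrArg (proj n K) (H.add i j h t u))
  · exact (H.comm0 i j k l hij hkl hil hjk t u).map (proj n K)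
  · exact (map_commutatorElement (proj n K) _ _).symm.trans
      (congrArg (proj n K) (H.comm1 i j l hij hjl hil t u))

theorem tor_pd : Tor (py n K) (pd n K) := by
  refine ⟨fun i j hij a ha k l hkl t => ?_, fun i j k l a b => ?_⟩
  · rw [pd, dif_pos (show i ≠ j ∧ a ≠ 0 from ⟨hij, ha⟩), py, py, dif_pos hkl, dif_pos hkl, ← map_inv, ← map_mul, ← map_mul,
      diag_conj hij ha hkl]
  · rw [pd, pd]
    refine Commute.map ?_ (proj n K)
    split_ifs
    · refine Cfsg.Agent.Lib.Classical.SL_ext_smul fun v => funext fun m => ?_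
      simp only [mul_smul, Cfsg.Agent.Lib.Classical.diag2n_smul_apply]
      split_ifs <;> subst_vars <;> first | ring1 | contradiction | simp_all
    all_goals simp

variable [Finite K]

/-- Lifting for at least three dimensions. -/
theorem exists_lift_three (hn : 3 ≤ n) (h3 : n = 3 → Nat.card K ≠ 2 ∧ Nat.card K ≠ 4)
    (h4 : n = 4 → Nat.card K ≠ 2) {Γ : Type u} [Group Γ]
    (σ : Γ →* ProjectiveSpecialLinearGroup (Fin n) K) (hs : Function.Surjective σ)
    (hc : σ.ker ≤ Subgroup.center Γ) :
    ∃ τ : SpecialLinearGroup (Fin n) K →* Γ, σ.comp τ = proj n K := by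
  obtain ⟨x, H, hx⟩ := exists_fam_lift hs hc (fam_py n K) (tor_pd n K) hn h3 h4
  obtain ⟨f, hf⟩ := exists_hom hn H
  refine ⟨f, ?_⟩
  have hle : (σ.comp f).eqLocus (proj n K) = ⊤ := by
    refine Cfsg.Agent.Lib.Classical.SL_eq_top_of_transvection_mem fun i j hij b => ?_
    show σ (f (tv hij b)) = proj n K (tv hij b)
    rw [hf, hx i j hij, py, dif_pos hij]
  exact MonoidHom.ext fun g => (hle ▸ Subgroup.mem_top g : g ∈ (σ.comp f).eqLocus (proj n K))

variable {n K}

/-- A perfect group of trivial multiplier lifts to central extensions. -/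
theorem exists_lift_of_trivial {S G Γ : Type u} [Group S] [Group G] [Group Γ] [Finite S] [Finite Γ]
    (hS : commutator S = ⊤) (hM : Cfsg.HasCyclicSchurMultiplier S 1) (π : S →* G) (σ : Γ →* G)
    (hs : Function.Surjective σ) (hc : σ.ker ≤ Subgroup.center Γ) :
    ∃ τ : S →* Γ, σ.comp τ = π := by
  let P : Subgroup (S × Γ) :=
    (π.comp (MonoidHom.fst S Γ)).eqLocus (σ.comp (MonoidHom.snd S Γ))
  let p : P →* S := (MonoidHom.fst S Γ).comp P.subtype
  have hp : Function.Surjective p := fun s => by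
    obtain ⟨g, hg⟩ := hs (π s)
    exact ⟨⟨(s, g), hg.symm⟩, rfl⟩
  have hpk : p.ker ≤ Subgroup.center P := by
    intro x hx
    have h1 : x.1.1 = 1 := hx
    have h2 : x.1.2 ∈ Subgroup.center Γ := hc (by
      have := x.2
      rw [MonoidHom.mem_ker]
      refine (this : π x.1.1 = σ x.1.2).symm.trans ?_
      show π (x : S × Γ).1 = 1
      rw [h1, map_one])
    refine Subgroup.mem_center_iff.2 fun y => Subtype.ext (Prod.ext ?_ ?_)
    · show y.1.1 * x.1.1 = x.1.1 * y.1.1
      rw [h1, mul_one, one_mul]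
    · exact Subgroup.mem_center_iff.1 h2 _
  let q : commutator P →* S := p.comp (commutator P).subtype
  have hmap : (commutator P).map p = ⊤ := by
    rw [commutator_def, Subgroup.map_commutator, Subgroup.map_top_of_surjective _ hp,
      ← commutator_def, hS]
  have hq : Function.Surjective q := fun s => by
    obtain ⟨x, hx, e⟩ := (hmap ▸ Subgroup.mem_top s : s ∈ (commutator P).map p)
    exact ⟨⟨x, hx⟩, e⟩
  have hdec : ∀ a : P, ∃ b ∈ commutator P, ∃ z ∈ Subgroup.center P, a = b * z := fun a => by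
    obtain ⟨b, hb⟩ := hq (p a)
    exact ⟨b.1, b.2, (b.1)⁻¹ * a, hpk (by
      rw [MonoidHom.mem_ker, map_mul, map_inv, show p b.1 = p a from hb, inv_mul_cancel]), by group⟩
  have hperf : commutator (commutator P) = ⊤ := by
    rw [eq_top_iff, ← Subgroup.map_subtype_le_map_subtype, ← MonoidHom.range_eq_map,
      Subgroup.range_subtype, commutator_def (commutator P), Subgroup.map_commutator,
      ← MonoidHom.range_eq_map, Subgroup.range_subtype, commutator_def P,
      Subgroup.commutator_le]
    intro a _ b _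
    obtain ⟨a', ha', z, hz, rfl⟩ := hdec a
    obtain ⟨b', hb', w, hw, rfl⟩ := hdec b
    rw [comm_central_of_eq (QuotientGroup.mk' (Subgroup.center P)) (QuotientGroup.ker_mk' _).le
      (a := a' * z) (a' := a') (b := b' * w) (b' := b')
      (by rw [map_mul, (QuotientGroup.eq_one_iff z).2 hz |> fun e => (e : QuotientGroup.mk' _ z = 1),
        mul_one])
      (by rw [map_mul, (QuotientGroup.eq_one_iff w).2 hw |> fun e => (e : QuotientGroup.mk' _ w = 1),
        mul_one])]
    exact Subgroup.commutator_mem_commutator ha' hb'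
  obtain ⟨φ, hφ⟩ := hM.2 (commutator P) q ⟨hq, fun x hx => Subgroup.mem_center_iff.2 fun y =>
    Subtype.ext (Subgroup.mem_center_iff.1 (hpk hx) y.1), hperf ▸ le_top⟩
  haveI : Subsingleton (Multiplicative (ZMod 1)) := inferInstanceAs (Subsingleton (ZMod 1))
  have hinj : Function.Injective q := (injective_iff_map_eq_one q).2 fun x hx => by
    obtain ⟨a, ha⟩ := hφ ⟨x, hx⟩
    rw [Subsingleton.elim a 1, map_one] at ha
    exact (congrArg Subtype.val ha).symm
  refine ⟨((MonoidHom.snd S Γ).comp (P.subtype.comp (commutator P).subtype)).comp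
    (MulEquiv.ofBijective q ⟨hinj, hq⟩).symm.toMonoidHom, MonoidHom.ext fun s => ?_⟩
  obtain ⟨x, rfl⟩ := hq s
  show σ ((((MulEquiv.ofBijective q ⟨hinj, hq⟩).symm (q x)).1.1).2) = π (q x)
  rw [show q x = (MulEquiv.ofBijective q ⟨hinj, hq⟩) x from rfl, MulEquiv.symm_apply_apply]
  exact (x.1.2 : π x.1.1.1 = σ x.1.1.2).symm

/-- The kernel of the projection. -/
theorem ker_equiv [Fintype K] [Nonempty (Fin n)] :
    Nonempty ((proj n K).ker ≃* Multiplicative (ZMod (Nat.gcd n (Fintype.card K - 1)))) := by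
  classical
  have e0 : (proj n K).ker = Subgroup.center (SpecialLinearGroup (Fin n) K) :=
    QuotientGroup.ker_mk' _
  rw [e0]
  haveI : NeZero (Fintype.card (Fin n)) := ⟨Fintype.card_ne_zero⟩
  haveI := (SpecialLinearGroup.center_equiv_rootsOfUnity'
    (R := K) (Classical.arbitrary (Fin n))).isCyclic.2 inferInstance
  refine ⟨mulEquivOfCyclicCardEq ?_⟩
  rw [Cfsg.Agent.Lib.Classical.card_center_SL, Fintype.card_fin,
    Nat.card_congr Multiplicative.toAdd, Nat.card_zmod]

/-- The multiplier of `PSL_n`. -/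
theorem psl_multiplier [Fintype K] {q : ℕ} (hF : Fintype.card K = q) (n : ℕ) (hn : 2 ≤ n)
    (h2 : n = 2 → 4 ≤ q)
    (hexc : (n, q) ∉ ({(2, 4), (2, 9), (3, 2), (3, 4), (4, 2)} : Set (ℕ × ℕ))) :
    Cfsg.HasCyclicSchurMultiplier (ProjectiveSpecialLinearGroup (Fin n) K) (Nat.gcd n (q - 1)) := by
  subst hF
  simp only [Set.mem_insert_iff, Set.mem_singleton_iff, Prod.mk.injEq, not_or, not_and] at hexc
  obtain ⟨e1, e2, e3, e4, e5⟩ := hexc
  haveI : Nonempty (Fin n) := ⟨⟨0, by omega⟩⟩
  obtain ⟨e⟩ := ker_equiv (n := n) (K := K)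
  haveI : Finite (SpecialLinearGroup (Fin n) K) := inferInstance
  have hker : (proj n K).ker ≤ Subgroup.center _ := (QuotientGroup.ker_mk' _).le
  rcases hn.eq_or_lt with rfl | hn3
  · have hq := h2 rfl
    have hperf : commutator (SpecialLinearGroup (Fin 2) K) = ⊤ :=
      commutator_eq_top (by rwa [Nat.card_eq_fintype_card])
    exact Cfsg.Agent.Lib.Chev.hasSchurMultiplier_of_universal (proj 2 K)
      (QuotientGroup.mk'_surjective _) hker hperf
      (fun Γ _ _ σ hs hc => exists_lift_of_trivial hperf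
        (SL2.multiplier_trivial (F := K) (e1 rfl) (e2 rfl)) (proj 2 K) σ hs hc) e
  · refine Cfsg.Agent.Lib.Chev.hasSchurMultiplier_of_universal (proj n K)
      (QuotientGroup.mk'_surjective _) hker
      (Cfsg.Agent.Lib.Classical.commutator_SL_eq_top (by rw [Fintype.card_fin]; omega))
      (fun Γ _ _ σ hs hc => exists_lift_three n K hn3 (fun h => ?_) (fun h => ?_) σ hs hc) e
    · rw [Nat.card_eq_fintype_card]; exact ⟨e3 h, e4 h⟩
    · rw [Nat.card_eq_fintype_card]; exact e5 h

end Cfsg.Agent.Lib.Compute.SLSt
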