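import Cfsg.Agent.Lib.Compute.CertTools

/-!
# Certified groups inside a product of two symmetric groups
-/

set_option autoImplicit false

namespace Cfsg.Agent.Lib.Compute

open Equiv

variable {n m : ℕ}

/-- `r` is the side-by-side permutation of `g` (first `n` points) and `h` (last `m` points). -/
def pairOk (n m : ℕ) (g h r : ℕ × ℕ) : Bool :=
  genOk n g && genOk m h && genOk (n + m) r &&
    ((List.range n).all fun i => app r.1 i == app g.1 i) &&
    ((List.range m).all fun j => app r.1 (n + j) == n + app h.1 j)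

/-- All the entries of the three lists match. -/
def pairsOk (n m : ℕ) : List (ℕ × ℕ) → List (ℕ × ℕ) → List (ℕ × ℕ) → Bool
  | [], [], [] => true
  | g :: gs, h :: hs, r :: rs => pairOk n m g h r && pairsOk n m gs hs rs
  | _, _, _ => false

/-- The side-by-side embedding. -/
noncomputable def sideBySide (n m : ℕ) : Perm (Fin n) × Perm (Fin m) →* Perm (Fin (n + m)) :=
  finSumFinEquiv.permCongrHom.toMonoidHom.comp (Equiv.Perm.sumCongrHom (Fin n) (Fin m))

theorem sideBySide_castAdd (x : Perm (Fin n) × Perm (Fin m)) (i : Fin n) :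
    sideBySide n m x (Fin.castAdd m i) = Fin.castAdd m (x.1 i) := by
  simp [sideBySide, Equiv.permCongrHom, Equiv.permCongr_apply]

theorem sideBySide_natAdd (x : Perm (Fin n) × Perm (Fin m)) (j : Fin m) :
    sideBySide n m x (Fin.natAdd n j) = Fin.natAdd n (x.2 j) := by
  simp [sideBySide, Equiv.permCongrHom, Equiv.permCongr_apply]

theorem sideBySide_injective : Function.Injective (sideBySide n m) :=
  finSumFinEquiv.permCongrHom.injective.comp Equiv.Perm.sumCongrHom_injective

/-- The group generated by the pairs. -/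
noncomputable def pairGrp (n m : ℕ) (gs hs : List (ℕ × ℕ)) :
    Subgroup (Perm (Fin n) × Perm (Fin m)) :=
  Subgroup.closure {x | x ∈ List.zipWith (fun g h => (toPerm n g.1, toPerm m h.1)) gs hs}

theorem sideBySide_toPerm {g h r : ℕ × ℕ} (hok : pairOk n m g h r = true) :
    sideBySide n m (toPerm n g.1, toPerm m h.1) = toPerm (n + m) r.1 := by
  simp only [pairOk, Bool.and_eq_true, List.all_eq_true, List.mem_range, beq_iff_eq] at hok
  obtain ⟨⟨⟨⟨h1, h2⟩, h3⟩, h4⟩, h5⟩ := hok
  refine (repr_toPerm_of_repr ?_).symm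
  intro i
  refine Fin.addCases (fun a => ?_) (fun b => ?_) i
  · rw [sideBySide_castAdd, Fin.val_castAdd, Fin.val_castAdd, repr_toPerm_of_genOk h1 a,
      h4 a a.isLt]
  · rw [sideBySide_natAdd, Fin.val_natAdd, Fin.val_natAdd, repr_toPerm_of_genOk h2 b,
      h5 b b.isLt]

theorem map_pairGrp : ∀ {gs hs rs : List (ℕ × ℕ)}, pairsOk n m gs hs rs = true →
    (List.zipWith (fun g h => sideBySide n m (toPerm n g.1, toPerm m h.1)) gs hs) =
      rs.map fun r => toPerm (n + m) r.1 := by
  intro gs
  induction gs with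
  | nil =>
    intro hs rs h
    cases hs <;> cases rs <;> simp [pairsOk] at h ⊢
  | cons g gs ih =>
    intro hs rs h
    cases hs with
    | nil => cases rs <;> simp [pairsOk] at h
    | cons k hs =>
      cases rs with
      | nil => simp [pairsOk] at h
      | cons r rs =>
        simp only [pairsOk, Bool.and_eq_true] at h
        simp only [List.zipWith_cons_cons, List.map_cons, sideBySide_toPerm h.1, ih h.2]

theorem map_pairGrp_eq {gs hs : List (ℕ × ℕ)} {L : Lvl} {rest : List Lvl}
    (h : pairsOk n m gs hs L.gens = true) :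
    (pairGrp n m gs hs).map (sideBySide n m) = grp (n + m) (L :: rest) := by
  rw [pairGrp, MonoidHom.map_closure, grp]
  congr 1
  ext y
  have e := map_pairGrp h
  constructor
  · rintro ⟨x, hx, rfl⟩
    have : sideBySide n m x ∈ L.gens.map fun r => toPerm (n + m) r.1 := by
      rw [← e, ← List.map_zipWith]
      exact List.mem_map_of_mem hx
    obtain ⟨r, hr, he⟩ := List.mem_map.mp this
    exact ⟨r, hr, he⟩
  · rintro ⟨r, hr, rfl⟩
    have : toPerm (n + m) r.1 ∈ L.gens.map fun r => toPerm (n + m) r.1 :=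
      List.mem_map_of_mem (f := fun r : ℕ × ℕ => toPerm (n + m) r.1) hr
    rw [← e, ← List.map_zipWith] at this
    obtain ⟨x, hx, he⟩ := List.mem_map.mp this
    exact ⟨x, hx, he⟩

theorem card_pairGrp {gs hs : List (ℕ × ℕ)} {L : Lvl} {rest : List Lvl}
    (h : pairsOk n m gs hs L.gens = true) (hc : chk (n + m) (L :: rest) = true) :
    Nat.card (pairGrp n m gs hs) = certOrder (L :: rest) := by
  rw [← card_grp hc, ← map_pairGrp_eq h, Subgroup.card_map_of_injective sideBySide_injective]

/-- All base points are among the first `n` points. -/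
def basesBelow (n : ℕ) (c : List Lvl) : Bool := c.all fun L => decide (L.base < n)

/-- All base points are among the last points. -/
def basesAbove (n : ℕ) (c : List Lvl) : Bool := c.all fun L => decide (n ≤ L.base)

theorem fst_injOn {gs hs : List (ℕ × ℕ)} {L : Lvl} {rest : List Lvl}
    (h : pairsOk n m gs hs L.gens = true) (hc : chk (n + m) (L :: rest) = true)
    (hb : basesBelow n (L :: rest) = true) {x : Perm (Fin n) × Perm (Fin m)}
    (hx : x ∈ pairGrp n m gs hs) (h1 : x.1 = 1) : x = 1 := by
  apply sideBySide_injective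
  rw [map_one]
  refine eq_one_of_fix_bases hc (map_pairGrp_eq (rest := rest) h ▸ Subgroup.mem_map_of_mem _ hx)
    fun M hM b hbM => ?_
  simp only [basesBelow, List.all_eq_true, decide_eq_true_eq] at hb
  obtain ⟨a, rfl⟩ : ∃ a : Fin n, b = Fin.castAdd m a := ⟨⟨b, by rw [hbM]; exact hb M hM⟩, rfl⟩
  rw [sideBySide_castAdd, h1]
  rfl

theorem snd_injOn {gs hs : List (ℕ × ℕ)} {L : Lvl} {rest : List Lvl}
    (h : pairsOk n m gs hs L.gens = true) (hc : chk (n + m) (L :: rest) = true)
    (hb : basesAbove n (L :: rest) = true) {x : Perm (Fin n) × Perm (Fin m)}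
    (hx : x ∈ pairGrp n m gs hs) (h1 : x.2 = 1) : x = 1 := by
  apply sideBySide_injective
  rw [map_one]
  refine eq_one_of_fix_bases hc (map_pairGrp_eq (rest := rest) h ▸ Subgroup.mem_map_of_mem _ hx)
    fun M hM b hbM => ?_
  simp only [basesAbove, List.all_eq_true, decide_eq_true_eq] at hb
  have hn := hb M hM
  rw [← hbM] at hn
  obtain ⟨a, rfl⟩ : ∃ a : Fin m, b = Fin.natAdd n a :=
    ⟨⟨(b : ℕ) - n, by omega⟩, Fin.ext (by simp; omega)⟩
  rw [sideBySide_natAdd, h1]
  rfl

end Cfsg.Agent.Lib.Compute
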