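import Mathlib

/-!
# The projective plane of order 4 on the 21 points 3, ..., 23

Elements of the field are coded by `0, 1, 2, 3`, addition being `xor`.
-/

namespace Cfsg.Agent.Lib.Compute

/-- Coordinates of the points (indexed from 3). -/
def plane4Pt : List (List ℕ) := [[1, 0, 0], [0, 1, 0], [0, 0, 1], [1, 1, 1], [1, 2, 0], [1, 3, 1], [0, 1, 1], [1, 3, 0], [1, 2, 2], [1, 1, 0], [1, 1, 3], [1, 0, 1], [1, 1, 2], [1, 2, 3], [1, 0, 2], [0, 1, 3], [0, 1, 2], [1, 2, 1], [1, 3, 2], [1, 3, 3], [1, 0, 3]]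

/-- Matrices of the generators of the three-point stabiliser. -/
def plane4Mat : List (List (List ℕ)) := [[[1, 3, 0], [3, 3, 2], [2, 0, 3]], [[1, 1, 0], [0, 1, 0], [0, 3, 1]], [[1, 0, 3], [0, 2, 0], [0, 0, 3]], [[1, 0, 1], [0, 1, 0], [0, 0, 1]], [[1, 0, 3], [0, 1, 3], [0, 0, 1]], [[1, 0, 3], [0, 1, 2], [0, 0, 1]], [[1, 0, 2], [0, 1, 1], [0, 0, 1]]]

end Cfsg.Agent.Lib.Compute
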