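import Cfsg.Agent.Lib.Compute.M24Action
import Cfsg.Agent.Lib.Compute.PlaneFourData
import Cfsg.Agent.Lib.Classical.LinearCard

/-!
# The three-point stabiliser in the group of the Golay code is PSL(3, 4)
-/

set_option autoImplicit false

namespace Cfsg.Agent.Lib.Compute

open Cfsg Equiv
open scoped LinearAlgebra.Projectivization Matrix

variable {F : Type*} [Field F] [Fintype F]

/-- Multiplication of codes. -/
def mulFour (a b : Fin 4) : Fin 4 :=
  ![![0, 0, 0, 0], ![0, 1, 2, 3], ![0, 2, 3, 1], ![0, 3, 1, 2]] a b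

/-- Addition of codes. -/
def addFour (a b : Fin 4) : Fin 4 :=
  ![![0, 1, 2, 3], ![1, 0, 3, 2], ![2, 3, 0, 1], ![3, 2, 1, 0]] a b

/-- The element with a given code. -/
def decFour (w : F) : Fin 4 → F := ![0, 1, w, w + 1]

theorem exists_omega_four (hF : Fintype.card F = 4) :
    ∃ w : F, (2 : F) = 0 ∧ w * w = w + 1 := by
  classical
  have h2 : ringChar F = 2 := by
    by_contra h
    have := FiniteField.odd_card_of_char_ne_two h
    omega
  haveI : CharP F 2 := h2 ▸ ringChar.charP F
  obtain ⟨w, hw⟩ : ∃ w : F, w ∉ ({0, 1} : Finset F) := by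
    by_contra h
    push Not at h
    have hle := Finset.card_le_card (fun a (_ : a ∈ Finset.univ) => h a)
    have : ({0, 1} : Finset F).card ≤ 2 := Finset.card_le_two
    rw [Finset.card_univ, hF] at hle
    omega
  simp only [Finset.mem_insert, Finset.mem_singleton, not_or] at hw
  refine ⟨w, CharTwo.two_eq_zero, ?_⟩
  have h3 : w ^ 3 = 1 := by
    have := FiniteField.pow_card_sub_one_eq_one w hw.1
    rwa [hF] at this
  have h : (w - 1) * (w * w + w + 1) = 0 := by linear_combination h3
  have h' := (mul_eq_zero.mp h).resolve_left (sub_ne_zero.mpr hw.2)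
  have t2 : (2 : F) = 0 := CharTwo.two_eq_zero
  linear_combination h' - (w + 1) * t2

omit [Fintype F] in
theorem decFour_ops (w : F) (h2 : (2 : F) = 0) (hw : w * w = w + 1) (a b : Fin 4) :
    decFour w (addFour a b) = decFour w a + decFour w b ∧
      decFour w (mulFour a b) = decFour w a * decFour w b := by
  fin_cases a <;> fin_cases b <;>
    simp [decFour, addFour, mulFour] <;> grind

omit [Fintype F] in
theorem decFour_eq_zero (w : F) (h2 : (2 : F) = 0) (hw : w * w = w + 1) {a : Fin 4}
    (h : decFour w a = 0) : a = 0 := by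
  fin_cases a
  · rfl
  · simp [decFour] at h
  · simp [decFour] at h; subst h; simp at hw
  · exfalso
    have h' : w + 1 = 0 := by simpa [decFour] using h
    exact one_ne_zero (show (1 : F) = 0 by linear_combination hw - (w - 1) * h' + h' - (0 : F) * h2)

/-- The coordinates of a point. -/
def ptFour (i : Fin 21) (r : Fin 3) : Fin 4 := Fin.ofNat 4 ((plane4Pt.getD i []).getD r 0)

/-- An entry of a matrix. -/
def matFour (s : ℕ) (r c : Fin 3) : Fin 4 :=
  Fin.ofNat 4 (((plane4Mat.getD s []).getD r []).getD c 0)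

/-- The code of a product matrix times point. -/
def mvFour (s : ℕ) (i : Fin 21) (r : Fin 3) : Fin 4 :=
  addFour (addFour (mulFour (matFour s r 0) (ptFour i 0)) (mulFour (matFour s r 1) (ptFour i 1)))
    (mulFour (matFour s r 2) (ptFour i 2))

/-- The code of the determinant. -/
def detFour (s : ℕ) : Fin 4 :=
  let m := fun a b c d e f => mulFour (mulFour (matFour s a b) (matFour s c d)) (matFour s e f)
  addFour (addFour (addFour (addFour (addFour (m 0 0 1 1 2 2) (m 0 0 1 2 2 1)) (m 0 1 1 0 2 2))
    (m 0 1 1 2 2 0)) (m 0 2 1 0 2 1)) (m 0 2 1 1 2 0)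

/-- The matrices act as the generators do. -/
def planeOK : Bool :=
  (List.range m24Cert3.gens.length).all fun s =>
    detFour s == 1 && (List.finRange 21).all fun i =>
      let j := app (m24Cert3.gens.getD s (0, 0)).1 (3 + (i : ℕ))
      decide (3 ≤ j ∧ j < 24) && (List.finRange 4).any fun c =>
        c != 0 && (List.finRange 3).all fun r => mvFour s i r == mulFour c (ptFour (Fin.ofNat 21 (j - 3)) r)

theorem planeOK_true : planeOK = true := by decide +kernel

/-- The points have different lines and are nonzero. -/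
def ptsOK : Bool :=
  (List.finRange 21).all fun i => ((List.finRange 3).any fun r => ptFour i r != 0) &&
    (List.finRange 21).all fun j => decide (i = j) || (List.finRange 4).all fun c =>
      (List.finRange 3).any fun r => mulFour c (ptFour j r) != ptFour i r

theorem ptsOK_true : ptsOK = true := by decide +kernel

theorem cert3_fixes : (m24Cert3.gens.all fun g =>
    genOk 24 g && (List.range 3).all fun i => app g.1 i == i) = true := by decide +kernel

theorem nonempty_cert3_equiv_PSL (hF : Fintype.card F = 4) :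
    Nonempty (grp 24 cert3 ≃* Matrix.ProjectiveSpecialLinearGroup (Fin 3) F) := by
  classical
  obtain ⟨w, h2, hw⟩ := exists_omega_four hF
  let v : Fin 21 → Fin 3 → F := fun i r => decFour w (ptFour i r)
  have hpts := ptsOK_true
  simp only [ptsOK, List.all_eq_true, List.mem_finRange, forall_const, Bool.and_eq_true,
    List.any_eq_true, true_and, bne_iff_ne, Bool.or_eq_true, decide_eq_true_eq] at hpts
  have hv : ∀ i, v i ≠ 0 := by
    intro i e
    obtain ⟨r, hr⟩ := (hpts i).1
    exact hr (decFour_eq_zero w h2 hw (congrFun e r))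
  let P : Fin 21 → ℙ F (Fin 3 → F) := fun i => Projectivization.mk F (v i) (hv i)
  have hdec : ∀ x : F, ∃ c, decFour w c = x := by
    have hinj : Function.Injective (decFour w) := by
      intro a b e
      have := (decFour_ops w h2 hw a b).1
      rw [e] at this
      have h0 : decFour w (addFour a b) = 0 := by rw [this]; linear_combination decFour w b * h2
      have hz := decFour_eq_zero w h2 hw h0
      clear this e h0
      revert hz; revert a b; decide +kernel
    exact ((Fintype.bijective_iff_injective_and_card _).mpr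
      ⟨hinj, by rw [hF, Fintype.card_fin]⟩).2
  have hPinj : Function.Injective P := by
    intro i j e
    by_contra hne
    obtain ⟨x, hx⟩ := (Projectivization.mk_eq_mk_iff' F _ _ _ _).mp e
    obtain ⟨c, rfl⟩ := hdec x
    obtain ⟨r, hr⟩ := ((hpts i).2 j).resolve_left hne c
    refine hr ?_
    have he := congrFun hx r
    simp only [Pi.smul_apply, smul_eq_mul, v, ← (decFour_ops w h2 hw c (ptFour j r)).2] at he
    have h0 : decFour w (addFour (mulFour c (ptFour j r)) (ptFour i r)) = 0 := by
      rw [(decFour_ops w h2 hw _ _).1, he]; linear_combination decFour w (ptFour i r) * h2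
    have hz := decFour_eq_zero w h2 hw h0
    revert hz
    generalize mulFour c (ptFour j r) = p
    generalize ptFour i r = q
    revert p q
    decide +kernel
  haveI : Fintype (ℙ F (Fin 3 → F)) := Fintype.ofFinite _
  have hcP : Fintype.card (ℙ F (Fin 3 → F)) = 21 := by
    rw [← Nat.card_eq_fintype_card, Projectivization.card_of_finrank F (Fin 3 → F) (n := 3) (by simp)]
    simp [Nat.card_eq_fintype_card, hF, Finset.sum_range_succ]
  let e21 : Fin 21 ≃ ℙ F (Fin 3 → F) :=
    Equiv.ofBijective P ((Fintype.bijective_iff_injective_and_card _).mpr ⟨hPinj, by simp [hcP]⟩)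
  let sh : Fin 21 ≃ {i : Fin 24 // 3 ≤ (i : ℕ)} :=
    { toFun := fun i => ⟨⟨3 + i, by omega⟩, Nat.le_add_right 3 _⟩
      invFun := fun i => ⟨(i.1 : ℕ) - 3, by omega⟩
      left_inv := fun i => Fin.ext (by simp)
      right_inv := fun i => by
        apply Subtype.ext; apply Fin.ext; simp; omega }
  have hfix : ∀ σ ∈ grp 24 cert3, ∀ i : Fin 24, (i : ℕ) < 3 → σ i = i := by
    intro σ hσ i hi
    have h := (mem_cert3 σ).mp hσ
    have : i = 0 ∨ i = 1 ∨ i = 2 := by
      rcases i with ⟨n, hn⟩; simp only [Fin.ext_iff] at *; simp at hi ⊢; omega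
    rcases this with rfl | rfl | rfl
    · exact h.2.1
    · exact h.2.2.1
    · exact h.2.2.2
  have hge : ∀ σ : grp 24 cert3, ∀ i : Fin 24, 3 ≤ (((σ : Perm (Fin 24)) i : Fin 24) : ℕ) ↔ 3 ≤ (i : ℕ) := by
    intro σ i
    constructor
    · intro h
      by_contra hc
      rw [hfix _ σ.2 i (by omega)] at h
      exact hc h
    · intro h
      by_contra hc
      have := hfix _ σ.2 _ (Nat.lt_of_not_le hc)
      have := (σ : Perm (Fin 24)).injective this
      rw [this] at hc
      exact hc h
  let res : grp 24 cert3 →* Perm {i : Fin 24 // 3 ≤ (i : ℕ)} :=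
    { toFun := fun σ => (σ : Perm (Fin 24)).subtypePerm (hge σ)
      map_one' := by ext i; rfl
      map_mul' := fun σ τ => by ext i; rfl }
  let Θ : grp 24 cert3 →* Perm (ℙ F (Fin 3 → F)) :=
    ((sh.symm.trans e21).permCongrHom.toMonoidHom).comp res
  have hΘ : Function.Injective Θ := by
    refine ((sh.symm.trans e21).permCongrHom.injective).comp ?_
    intro σ τ e
    refine Subtype.ext (Equiv.ext fun i => ?_)
    by_cases hi : (i : ℕ) < 3
    · rw [hfix _ σ.2 i hi, hfix _ τ.2 i hi]
    · exact congrArg (fun p : Perm {i : Fin 24 // 3 ≤ (i : ℕ)} => (p ⟨i, by omega⟩).1) e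
  let ψ := Projectivization.PSLAction.toPermHom (K := F) (ι := Fin 3)
  have hψ : Function.Injective ψ := Matrix.ProjectiveSpecialLinearGroup.toPermHom_injective
  have hsub : Θ.range ≤ ψ.range := by
    suffices hle : grp 24 cert3 ≤ (ψ.range.comap Θ).map (grp 24 cert3).subtype by
      rintro _ ⟨σ, rfl⟩
      obtain ⟨τ, hτ, e⟩ := hle σ.2
      rw [show σ = τ from Subtype.ext e.symm]
      exact hτ
    refine (Subgroup.closure_le _).mpr ?_
    rintro _ ⟨g, hg, rfl⟩
    refine ⟨⟨_, gen_mem (rest := [m24Cert4, m24Cert5, m24Cert6]) hg⟩, ?_, rfl⟩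
    show Θ ⟨_, gen_mem (rest := [m24Cert4, m24Cert5, m24Cert6]) hg⟩ ∈ ψ.range
    generalize hσ : (⟨_, gen_mem (rest := [m24Cert4, m24Cert5, m24Cert6]) hg⟩ : grp 24 cert3) = σ
    have hgσ : toPerm 24 g.1 = (σ : Perm (Fin 24)) := congrArg Subtype.val hσ
    clear hσ
    obtain ⟨s, hs, rfl⟩ := List.getElem_of_mem hg
    have hok := List.all_eq_true.mp planeOK_true s (List.mem_range.mpr hs)
    simp only [Bool.and_eq_true, beq_iff_eq, List.all_eq_true, List.mem_finRange, forall_const,
      List.any_eq_true, true_and, bne_iff_ne, decide_eq_true_eq] at hok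
    obtain ⟨hdet, hact⟩ := hok
    let A : Matrix (Fin 3) (Fin 3) F := fun r c => decFour w (matFour s r c)
    have hA : A.det = 1 := by
      have h1 : decFour w (detFour s) = 1 := by rw [hdet]; rfl
      rw [← h1, Matrix.det_fin_three]
      simp only [detFour, fun a b => (decFour_ops w h2 hw a b).1, fun a b => (decFour_ops w h2 hw a b).2, A]
      linear_combination (-(decFour w (matFour s 0 0) * decFour w (matFour s 1 2) * decFour w (matFour s 2 1))
        - decFour w (matFour s 0 1) * decFour w (matFour s 1 0) * decFour w (matFour s 2 2)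
        - decFour w (matFour s 0 2) * decFour w (matFour s 1 1) * decFour w (matFour s 2 0)) * h2
    let S : Matrix.SpecialLinearGroup (Fin 3) F := ⟨A, hA⟩
    refine ⟨QuotientGroup.mk S, Equiv.ext fun p => ?_⟩
    obtain ⟨i, rfl⟩ := e21.surjective p
    show S • P i = _
    obtain ⟨⟨hj3, hj24⟩, c, hc0, hcr⟩ := hact i
    have hΘi : Θ σ (e21 i) = P (Fin.ofNat 21 (app (m24Cert3.gens.getD s (0, 0)).1 (3 + (i : ℕ)) - 3)) := by
      simp only [Θ, MonoidHom.coe_comp, Function.comp_apply, MulEquiv.coe_toMonoidHom,
        Equiv.permCongrHom_coe, Equiv.permCongr_apply, Equiv.symm_trans_apply, Equiv.symm_symm,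
        Equiv.symm_apply_apply, Equiv.trans_apply]
      show P (sh.symm (res σ (sh i))) = _
      congr 1
      apply Fin.ext
      have hok' := List.all_eq_true.mp cert3_fixes _ (List.getElem_mem hs)
      rw [Bool.and_eq_true] at hok'
      have hrep := repr_toPerm_of_genOk hok'.1
      show (((σ : Perm (Fin 24)) ⟨3 + (i : ℕ), by omega⟩ : Fin 24) : ℕ) - 3 = _
      rw [← hgσ, hrep]
      rw [List.getD_eq_getElem _ _ hs] at hj3 hj24 ⊢
      simp only [Fin.ofNat]
      rw [Nat.mod_eq_of_lt (by omega)]
    rw [hΘi]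
    refine (Projectivization.mk_eq_mk_iff' F _ _ _ _).mpr ⟨decFour w c, ?_⟩
    funext r
    have := congrArg (decFour w) (hcr r)
    simp only [mvFour, fun a b => (decFour_ops w h2 hw a b).1, fun a b => (decFour_ops w h2 hw a b).2] at this
    simp only [Pi.smul_apply, smul_eq_mul]
    rw [← this]
    show _ = (A *ᵥ v i) r
    simp [Matrix.mulVec, dotProduct, Fin.sum_univ_three, A, v]
  have hc1 : Nat.card Θ.range = 20160 := by
    rw [← Nat.card_congr (MonoidHom.ofInjective hΘ).toEquiv, card_cert3]
  have hc2 : Nat.card ψ.range = 20160 := by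
    rw [← Nat.card_congr (MonoidHom.ofInjective hψ).toEquiv]
    have h := Cfsg.Agent.Lib.Classical.card_PSL_mul (F := F) (n := 3) (by norm_num)
    rw [hF] at h
    norm_num [Fin.prod_univ_three] at h
    rw [Nat.card_eq_fintype_card]
    omega
  have heq : Θ.range = ψ.range := Subgroup.eq_of_le_of_card_ge hsub (by rw [hc1, hc2])
  exact ⟨(MonoidHom.ofInjective hΘ).trans
    ((MulEquiv.subgroupCongr heq).trans (MonoidHom.ofInjective hψ).symm)⟩

end Cfsg.Agent.Lib.Compute
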