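import Mathlib
import Cfsg.Agent.Lib.Compute.MultBound
import Cfsg.Agent.Lib.Compute.SL2Mult
import Cfsg.Agent.Lib.KnownA.SuzukiCentralizer

/-!
The Schur multiplier of the Suzuki groups over fields with at least 32 elements is trivial: biadditive
maps invariant under the torus vanish.
-/

set_option autoImplicit false
set_option linter.unusedSectionVars false

namespace Cfsg.Agent.Lib.Compute

open Cfsg
open scoped commutatorElement

/-- An invariant biadditive map vanishes unless the inverse of the weight is additive. -/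
theorem eq_one_of_biadd_invariant {F M : Type*} [Field F] [Group M] (β : F → F → M) (φ : F → F)
    (hl : ∀ a a' b, β (a + a') b = β a b * β a' b) (hr : ∀ a b b', β a (b + b') = β a b * β a b')
    (hinv : ∀ c, c ≠ 0 → ∀ a b, β (c * a) (φ c * b) = β a b) (hφ : ∀ c, c ≠ 0 → φ c ≠ 0)
    (hw : ∃ c d : F, c ≠ 0 ∧ d ≠ 0 ∧ c + d ≠ 0 ∧ (φ (c + d))⁻¹ ≠ (φ c)⁻¹ + (φ d)⁻¹) (a b : F) :
    β a b = 1 := by
  obtain ⟨c, d, hc, hd, hcd, hne⟩ := hw
  have h1 : ∀ e, e ≠ 0 → ∀ y, β (e * a) y = β a ((φ e)⁻¹ * y) := fun e he y => by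
    have := hinv e he a ((φ e)⁻¹ * y)
    rwa [mul_inv_cancel_left₀ (hφ e he)] at this
  have h2 : ∀ y, β a ((φ (c + d))⁻¹ * y) = β a (((φ c)⁻¹ + (φ d)⁻¹) * y) := fun y => by
    rw [← h1 _ hcd, add_mul c d, hl, h1 _ hc, h1 _ hd, ← hr, add_mul]
  have h3 : ∀ y, β a (((φ (c + d))⁻¹ - ((φ c)⁻¹ + (φ d)⁻¹)) * y) = 1 := fun y => by
    have h := hr a (((φ (c + d))⁻¹ - ((φ c)⁻¹ + (φ d)⁻¹)) * y) (((φ c)⁻¹ + (φ d)⁻¹) * y)
    rw [← add_mul, sub_add_cancel, h2 y] at h
    exact (mul_eq_right.mp h.symm)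
  have h4 := h3 (((φ (c + d))⁻¹ - ((φ c)⁻¹ + (φ d)⁻¹))⁻¹ * b)
  rwa [mul_inv_cancel_left₀ (sub_ne_zero.2 hne)] at h4

section Lifts

variable {Γ Q : Type*} [Group Γ] [Group Q] (σ : Γ →* Q) (hc : σ.ker ≤ Subgroup.center Γ)
include hc

/-- The commutator of two lifts depends only on the images. -/
theorem commutator_congr {a a' b b' : Γ} (ha : σ a = σ a') (hb : σ b = σ b') : ⁅a, b⁆ = ⁅a', b'⁆ := by
  have key : ∀ x y : Γ, σ x = σ y → ∃ z ∈ Subgroup.center Γ, x = y * z := fun x y h =>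
    ⟨y⁻¹ * x, hc (by rw [MonoidHom.mem_ker, map_mul, map_inv, h, inv_mul_cancel]), by group⟩
  obtain ⟨z, hz, rfl⟩ := key a a' ha
  obtain ⟨w, hw, rfl⟩ := key b b' hb
  rw [Subgroup.mem_center_iff] at hz hw
  simp only [commutatorElement_def, mul_inv_rev]
  calc a' * z * (b' * w) * (z⁻¹ * a'⁻¹) * (w⁻¹ * b'⁻¹)
      = a' * (z * (b' * w)) * z⁻¹ * (a'⁻¹ * w⁻¹) * b'⁻¹ := by simp only [mul_assoc]
    _ = a' * (b' * w) * (a'⁻¹ * w⁻¹) * b'⁻¹ := by
        rw [← hz (b' * w)]; simp only [mul_assoc, mul_inv_cancel_left]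
    _ = a' * b' * (w * (a'⁻¹ * w⁻¹)) * b'⁻¹ := by simp only [mul_assoc]
    _ = a' * b' * a'⁻¹ * b'⁻¹ := by
        rw [← hw (a'⁻¹ * w⁻¹)]; simp only [mul_assoc, inv_mul_cancel, mul_one]

omit hc in
theorem commutator_mul_right {a b b' : Γ} (h : Commute b ⁅a, b'⁆) :
    ⁅a, b * b'⁆ = ⁅a, b⁆ * ⁅a, b'⁆ := by
  have e : ⁅a, b * b'⁆ = ⁅a, b⁆ * (b * ⁅a, b'⁆ * b⁻¹) := by
    simp only [commutatorElement_def]; group
  rw [e, h.eq, mul_inv_cancel_right]

omit hc in
theorem commutator_mul_left {a a' b : Γ} (h : Commute a ⁅a', b⁆) (h' : Commute ⁅a', b⁆ ⁅a, b⁆) :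
    ⁅a * a', b⁆ = ⁅a, b⁆ * ⁅a', b⁆ := by
  have e : ⁅a * a', b⁆ = (a * ⁅a', b⁆ * a⁻¹) * ⁅a, b⁆ := by
    simp only [commutatorElement_def]; group
  rw [e, h.eq, mul_inv_cancel_right, h'.eq]

end Lifts

end Cfsg.Agent.Lib.Compute

namespace Cfsg.Agent.Lib.Compute.Sz

open Cfsg Cfsg.Lie Cfsg.Agent.Lib.KnownA Cfsg.Agent.Lib.Compute
open scoped commutatorElement

variable {F : Type*} [Field F] [Fintype F] [CharP F 2] {m : ℕ}
  (hθ : ∀ x : F, szTh m (szTh m x) = x * x)
include hθ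

/-- The inverse of `x ↦ θx · x` is not additive. -/
theorem exists_weight_ne (hm : 2 ≤ m) (hF : Fintype.card F = 2 ^ (2 * m + 1)) :
    ∃ c d : F, c ≠ 0 ∧ d ≠ 0 ∧ c + d ≠ 0 ∧
      (szTh m (c + d) * (c + d))⁻¹ ≠ (szTh m c * c)⁻¹ + (szTh m d * d)⁻¹ := by
  classical
  set r := 2 ^ (m + 1) with hr
  have h2 : (2 : F) = 0 := CharTwo.two_eq_zero
  let P : Polynomial F := Polynomial.X * (Polynomial.X - 1) *
    (Polynomial.X ^ (2 * r + 2) + Polynomial.X ^ (2 * r + 1) + Polynomial.X ^ (r + 2) +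
      Polynomial.X ^ (r + 1) + Polynomial.X ^ r + Polynomial.X + 1)
  have hr4 : 4 ≤ r := by
    calc 4 = 2 ^ 2 := rfl
      _ ≤ r := Nat.pow_le_pow_right (by norm_num) (by omega)
  have hP : P ≠ 0 := by
    refine mul_ne_zero (mul_ne_zero Polynomial.X_ne_zero
      (by rw [← Polynomial.C_1]; exact Polynomial.X_sub_C_ne_zero 1)) ?_
    intro h
    have := congrArg (Polynomial.eval 0) h
    simp [show r ≠ 0 by omega] at this
  have hdeg : P.natDegree < Fintype.card F := by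
    refine lt_of_le_of_lt (b := 2 * r + 4) ?_ ?_
    · simp only [P]
      compute_degree
      all_goals omega
    · have : 2 * r + 4 < r * (2 ^ m) := by
        have : 4 ≤ 2 ^ m := by
          calc 4 = 2 ^ 2 := rfl
            _ ≤ 2 ^ m := Nat.pow_le_pow_right (by norm_num) hm
        nlinarith
      rw [hF, show 2 * m + 1 = (m + 1) + m by omega, pow_add]
      exact this
  obtain ⟨d, hd⟩ := Cfsg.Agent.Lib.Compute.SL2.exists_eval_ne P hP hdeg
  simp only [P, Polynomial.eval_mul, Polynomial.eval_sub, Polynomial.eval_add, Polynomial.eval_pow,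
    Polynomial.eval_X, Polynomial.eval_one, mul_ne_zero_iff, sub_ne_zero] at hd
  obtain ⟨⟨hd0, hd1⟩, hd2⟩ := hd
  have hd1' : 1 + d ≠ 0 := fun h => hd1 (by linear_combination h - h2)
  refine ⟨1, d, one_ne_zero, hd0, hd1', fun h => hd2 ?_⟩
  have ht : szTh m d = d ^ r := by rw [szTh_apply, hr]
  have ht0 : d ^ r ≠ 0 := pow_ne_zero _ hd0
  have ht1 : d ^ r + 1 ≠ 0 := by
    rw [← ht, show szTh m d + 1 = szTh m (1 + d) by rw [map_add, map_one, add_comm]]
    exact (map_ne_zero _).2 hd1'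
  rw [map_add, map_one, ht, mul_one, inv_one] at h
  have e : d ^ r * d = (d ^ r + 1) * (1 + d) * (d ^ r * d + 1) := by
    have e1 : (1 + d ^ r) * (1 + d) ≠ 0 := mul_ne_zero (by rwa [add_comm]) hd1'
    have e2 : d ^ r * d ≠ 0 := mul_ne_zero ht0 hd0
    have h' := congrArg (fun x => (1 + d ^ r) * (1 + d) * x * (d ^ r * d)) h
    rw [mul_inv_cancel₀ e1, one_mul, mul_add, add_mul, mul_one, mul_assoc _ (d ^ r * d)⁻¹,
      inv_mul_cancel₀ e2, mul_one] at h'
    linear_combination h'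
  rw [show d ^ (2 * r + 2) = (d ^ r) ^ 2 * d ^ 2 by ring,
    show d ^ (2 * r + 1) = (d ^ r) ^ 2 * d by ring, show d ^ (r + 2) = d ^ r * d ^ 2 by ring,
    show d ^ (r + 1) = d ^ r * d by ring]
  linear_combination -e

theorem exists_id_weight (hm : 2 ≤ m) (hF : Fintype.card F = 2 ^ (2 * m + 1)) :
    ∃ c d : F, c ≠ 0 ∧ d ≠ 0 ∧ c + d ≠ 0 ∧ (id (c + d))⁻¹ ≠ (id c)⁻¹ + (id d)⁻¹ := by
  classical
  let P : Polynomial F := Polynomial.X * (Polynomial.X + 1) *
    (Polynomial.X ^ 2 + Polynomial.X + 1)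
  have hP : P ≠ 0 := by
    intro h
    have h' : P.natDegree = 4 := by simp only [P]; compute_degree!
    rw [h, Polynomial.natDegree_zero] at h'
    omega
  have hdeg : P.natDegree < Fintype.card F := by
    refine lt_of_le_of_lt (b := 4) ?_ ?_
    · simp only [P]; compute_degree
    · rw [hF]
      calc 4 < 2 ^ 5 := by norm_num
        _ ≤ _ := Nat.pow_le_pow_right (by norm_num) (by omega)
  obtain ⟨d, hd⟩ := Cfsg.Agent.Lib.Compute.SL2.exists_eval_ne P hP hdeg
  simp only [P, Polynomial.eval_mul, Polynomial.eval_add, Polynomial.eval_pow,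
    Polynomial.eval_X, Polynomial.eval_one, mul_ne_zero_iff] at hd
  obtain ⟨⟨hd0, hd1⟩, hd2⟩ := hd
  rw [add_comm] at hd1
  refine ⟨1, d, one_ne_zero, hd0, hd1, fun h => hd2 ?_⟩
  simp only [id, inv_one] at h
  field_simp at h
  linear_combination -h

/-- The elements of the kernel in the derived group of the preimage of the unipotent group. -/
theorem eq_one_two (hm : 2 ≤ m) (hF : Fintype.card F = 2 ^ (2 * m + 1)) {Δ : Type*} [Group Δ]
    [Finite Δ] (τ : Δ →* ↥(Suz.G F m)) (hs : Function.Surjective τ)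
    (hc : τ.ker ≤ Subgroup.center Δ) {z : Δ} (hz : z ∈ τ.ker)
    (hz' : z ∈ ⁅(Suz.U hθ).comap τ, (Suz.U hθ).comap τ⁆) : z = 1 := by
  classical
  have h2 : (2 : F) = 0 := CharTwo.two_eq_zero
  choose sec hsec using hs
  have hT : ∀ k l : Fˣ, Suz.tor hθ k * Suz.tor hθ l = Suz.tor hθ l * Suz.tor hθ k := fun k l => by
    rw [Suz.tor_mul, Suz.tor_mul, mul_comm]
  obtain ⟨c0, hc00, hc01⟩ : ∃ c : F, c ≠ 0 ∧ c ≠ 1 := by
    obtain ⟨t, h⟩ := Suz.exists_two hθ (by omega) hF
    exact ⟨t, h⟩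
  have hwk : ∀ c : F, c ≠ 0 → ∃ k : Fˣ, ∀ a b : F,
      Suz.tor hθ k * Suz.u hθ a b * (Suz.tor hθ k)⁻¹ = Suz.u hθ (c * a) (szTh m c * c * b) := by
    intro c hc
    obtain ⟨k, hk⟩ := Suz.exists_weight hθ hc
    refine ⟨k, fun a b => ?_⟩
    rw [Suz.conj_u, ← hk]
    have := k.ne_zero
    have := (map_ne_zero (szTh m)).mpr k.ne_zero
    congr 1
    · field_simp
    · rw [map_div₀, map_mul, hθ]
      field_simp
  choose! κ hκ using hwk
  set W : F → Δ := fun c => sec (Suz.tor hθ (κ c)) with hW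
  set ν0 := szTh m c0 * c0 with hν0
  have hν01 : ν0 ≠ 1 := fun h => hc01 ((Suz.th_mul_self_bij hθ).1 (by simpa using h))
  -- equivariant lifts
  obtain ⟨A, hA⟩ : ∃ A : F → Δ, ∀ a, A a = ⁅W c0, sec (Suz.u hθ (a / (c0 - 1)) 0)⁆ :=
    ⟨_, fun _ => rfl⟩
  obtain ⟨B, hB⟩ : ∃ B : F → Δ, ∀ b, B b = ⁅W c0, sec (Suz.u hθ 0 (b / (ν0 - 1)))⁆ :=
    ⟨_, fun _ => rfl⟩
  have hdiag : ∀ (v : F), v + v = 0 := CharTwo.add_self_eq_zero
  have qA : ∀ a, τ (A a) = Suz.u hθ a 0 ∨ ∃ b, τ (A a) = Suz.u hθ a b := by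
    intro a
    right
    rw [hA, map_commutatorElement, hW, hsec, hsec, commutatorElement_def, hκ _ hc00, Suz.u_inv,
      Suz.u_mul]
    refine ⟨szTh m c0 * c0 * 0 + (0 + szTh m (a / (c0 - 1)) * (a / (c0 - 1))) +
      szTh m (c0 * (a / (c0 - 1))) * (a / (c0 - 1)), ?_⟩
    congr 1
    have : c0 - 1 ≠ 0 := sub_ne_zero.2 hc01
    field_simp
    linear_combination a * h2
  replace qA : ∀ a, ∃ b, τ (A a) = Suz.u hθ a b := fun a => (qA a).elim (fun h => ⟨0, h⟩) id
  have qB : ∀ b, τ (B b) = Suz.u hθ 0 b := by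
    intro b
    rw [hB, map_commutatorElement, hW, hsec, hsec, commutatorElement_def, hκ _ hc00, Suz.u_inv,
      Suz.u_mul]
    congr 1
    · simp
    · have : ν0 - 1 ≠ 0 := sub_ne_zero.2 hν01
      simp only [map_zero, mul_zero, zero_mul, add_zero]
      rw [← hν0]
      field_simp
      linear_combination b * h2
  have equiv : ∀ (k : Fˣ) (x y : Δ), τ y = Suz.tor hθ k * τ x * (Suz.tor hθ k)⁻¹ →
      sec (Suz.tor hθ k) * ⁅W c0, x⁆ * (sec (Suz.tor hθ k))⁻¹ = ⁅W c0, y⁆ := by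
    intro k x y h
    rw [show ∀ w, w * ⁅W c0, x⁆ * w⁻¹ = ⁅w * W c0 * w⁻¹, w * x * w⁻¹⁆ from fun w => by
      simp only [commutatorElement_def]; group]
    refine commutator_congr τ hc ?_ ?_
    · rw [hW, map_mul, map_mul, map_inv, hsec, hsec, hT, mul_inv_cancel_right]
    · rw [map_mul, map_mul, map_inv, hsec, h]
  have eA : ∀ c, c ≠ 0 → ∀ a, W c * A a * (W c)⁻¹ = A (c * a) := fun c hc a => by
    rw [hA, hA]
    exact equiv _ _ _ (by rw [hsec, hsec, hκ c hc, mul_zero, mul_div_assoc])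
  have eB : ∀ c, c ≠ 0 → ∀ b, W c * B b * (W c)⁻¹ = B (szTh m c * c * b) := fun c hc b => by
    rw [hB, hB]
    exact equiv _ _ _ (by rw [hsec, hsec, hκ c hc, mul_zero, mul_div_assoc])
  have conjc : ∀ w x y : Δ, w * ⁅x, y⁆ * w⁻¹ = ⁅w * x * w⁻¹, w * y * w⁻¹⁆ := fun w x y => by
    simp only [commutatorElement_def]; group
  have cen : ∀ x, x ∈ τ.ker → ∀ g, Commute g x := fun x hx g =>
    Subgroup.mem_center_iff.1 (hc hx) g
  have uBB : ∀ b b', Suz.u hθ 0 b * Suz.u hθ 0 b' = Suz.u hθ 0 (b + b') := fun b b' => by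
    rw [Suz.u_mul]; simp
  -- the lifts of the centre commute
  have cBB : ∀ b b', Commute (B b) (B b') := by
    have hk : ∀ b b', ⁅B b, B b'⁆ ∈ τ.ker := fun b b' => by
      rw [MonoidHom.mem_ker, map_commutatorElement, qB, qB, commutatorElement_eq_one_iff_mul_comm,
        uBB, uBB, add_comm]
    intro b b'
    refine commutatorElement_eq_one_iff_commute.1
      (eq_one_of_biadd_invariant (fun b b' => ⁅B b, B b'⁆) id ?_ ?_ ?_ (fun c h => h) ?_ b b')
    · intro a a' b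
      show ⁅B (a + a'), B b⁆ = _
      rw [commutator_congr τ hc (a' := B a * B a') (b' := B b) (by rw [map_mul, qB, qB, qB, uBB]) rfl]
      exact commutator_mul_left (cen _ (hk _ _) _) (cen _ (hk _ _) _)
    · intro a b b'
      show ⁅B a, B (b + b')⁆ = _
      rw [commutator_congr τ hc (a' := B a) (b' := B b * B b') rfl (by rw [map_mul, qB, qB, qB, uBB])]
      exact commutator_mul_right (cen _ (hk _ _) _)
    · intro c hc' a b
      obtain ⟨e, rfl⟩ := (Suz.th_mul_self_bij hθ).2 c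
      have he : e ≠ 0 := fun h => hc' (by simp [h])
      show ⁅B (szTh m e * e * a), B (szTh m e * e * b)⁆ = _
      rw [← eB e he, ← eB e he, ← conjc, (cen _ (hk _ _) _).eq, mul_inv_cancel_right]
    · exact exists_id_weight hθ hm hF
  have Badd : ∀ b b', B (b + b') = B b * B b' := by
    intro b b'
    rw [hB, hB, hB, commutator_congr τ hc (a' := W c0)
      (b' := sec (Suz.u hθ 0 (b / (ν0 - 1))) * sec (Suz.u hθ 0 (b' / (ν0 - 1)))) rfl
      (by rw [map_mul, hsec, hsec, hsec, uBB, add_div])]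
    refine commutator_mul_right ?_
    rw [← hB]
    obtain ⟨w, hw, e⟩ : ∃ w ∈ τ.ker, sec (Suz.u hθ 0 (b / (ν0 - 1))) = B (b / (ν0 - 1)) * w :=
      ⟨(B (b / (ν0 - 1)))⁻¹ * sec (Suz.u hθ 0 (b / (ν0 - 1))),
        by rw [MonoidHom.mem_ker, map_mul, map_inv, qB, hsec, inv_mul_cancel], by group⟩
    rw [e]
    exact (cBB _ _).mul_left (cen w hw _).symm
  -- the lifts of the centre commute with the others
  have cAB : ∀ a b, Commute (A a) (B b) := by
    have hk : ∀ a b, ⁅A a, B b⁆ ∈ τ.ker := fun a b => by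
      obtain ⟨x, hx⟩ := qA a
      rw [MonoidHom.mem_ker, map_commutatorElement, hx, qB, commutatorElement_eq_one_iff_mul_comm,
        Suz.u_mul, Suz.u_mul]
      congr 1 <;> simp [add_comm]
    intro a b
    refine commutatorElement_eq_one_iff_commute.1
      (eq_one_of_biadd_invariant (fun a b => ⁅A a, B b⁆) (fun c => szTh m c * c) ?_ ?_ ?_
        (fun c h => mul_ne_zero ((map_ne_zero _).2 h) h) (exists_weight_ne hθ hm hF) a b)
    · intro a a' b
      show ⁅A (a + a'), B b⁆ = _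
      obtain ⟨x, hx⟩ := qA a
      obtain ⟨x', hx'⟩ := qA a'
      obtain ⟨x'', hx''⟩ := qA (a + a')
      obtain ⟨y, hy⟩ : ∃ y, τ (A (a + a')) = τ (A a * A a' * B y) :=
        ⟨x'' + (x + x' + szTh m a * a'), by
          rw [map_mul, map_mul, hx, hx', hx'', qB, Suz.u_mul, Suz.u_mul]
          congr 1
          · simp
          · simp only [mul_zero]
            linear_combination (-(x + x' + szTh m a * a')) * h2⟩
      rw [commutator_congr τ hc (b' := B b) hy rfl,
        commutator_mul_left (a' := B y)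
          (by rw [commutatorElement_eq_one_iff_commute.2 (cBB y b)]; exact Commute.one_right _)
          (by rw [commutatorElement_eq_one_iff_commute.2 (cBB y b)]; exact Commute.one_left _),
        commutatorElement_eq_one_iff_commute.2 (cBB y b), mul_one]
      exact commutator_mul_left (cen _ (hk _ _) _) (cen _ (hk _ _) _)
    · intro a b b'
      show ⁅A a, B (b + b')⁆ = _
      rw [Badd]
      exact commutator_mul_right (cen _ (hk _ _) _)
    · intro c hc' a b
      show ⁅A (c * a), B (szTh m c * c * b)⁆ = _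
      rw [← eA c hc', ← eB c hc', ← conjc, (cen _ (hk _ _) _).eq, mul_inv_cancel_right]
  -- decomposition of the preimage
  have hdec : ∀ x ∈ (Suz.U hθ).comap τ, ∃ a b, ∃ w ∈ τ.ker, x = A a * (B b * w) := by
    rintro x ⟨a, b, hx⟩
    obtain ⟨a1, b1⟩ := qA a
    refine ⟨a, b + a1, (B (b + a1))⁻¹ * (A a)⁻¹ * x, ?_, by group⟩
    rw [MonoidHom.mem_ker, map_mul, map_mul, map_inv, map_inv, b1, qB, hx, ← mul_inv_rev,
      inv_mul_eq_one, Suz.u_mul]
    congr 1
    · simp
    · simp only [mul_zero, add_zero]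
      linear_combination a1 * h2
  set V : Subgroup Δ :=
    { carrier := Set.range B
      one_mem' := ⟨0, mul_eq_left.1 (show B 0 * B 0 = B 0 by rw [← Badd, add_zero])⟩
      mul_mem' := by rintro _ _ ⟨a, rfl⟩ ⟨b, rfl⟩; exact ⟨a + b, Badd a b⟩
      inv_mem' := by
        rintro _ ⟨a, rfl⟩
        refine ⟨a, eq_inv_of_mul_eq_one_left ?_⟩
        rw [← Badd, hdiag]
        exact mul_eq_left.1 (show B 0 * B 0 = B 0 by rw [← Badd, add_zero]) }
  obtain ⟨γ, hγ⟩ : ∃ γ : F → F → F, ∀ a a', γ a a' = szTh m a * a' + szTh m a' * a :=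
    ⟨_, fun _ _ => rfl⟩
  have qAA : ∀ a a', τ ⁅A a, A a'⁆ = τ (B (γ a a')) := by
    intro a a'
    obtain ⟨x, hx⟩ := qA a
    obtain ⟨y, hy⟩ := qA a'
    rw [map_commutatorElement, hx, hy, qB, hγ, commutatorElement_def, mul_inv_eq_iff_eq_mul,
      mul_inv_eq_iff_eq_mul, Suz.u_mul, Suz.u_mul, Suz.u_mul]
    congr 1
    · simp [add_comm]
    · simp only [map_zero, zero_mul, zero_add]
      linear_combination -(szTh m a' * a) * h2
  have cA : ∀ a a', A a * A a' * (A a)⁻¹ * (A a')⁻¹ ∈ V := by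
    have hδ : ∀ a a', ⁅A a, A a'⁆ = B (γ a a') := by
      intro a a'
      have hk : ∀ a a', ⁅A a, A a'⁆ * (B (γ a a'))⁻¹ ∈ τ.ker := fun a a' => by
        rw [MonoidHom.mem_ker, map_mul, map_inv, qAA, mul_inv_cancel]
      have hB' : ∀ a a' g, (∀ b, Commute g (B b)) → Commute g ⁅A a, A a'⁆ := fun a a' g hg => by
        have := (cen _ (hk a a') g).mul_right (hg (γ a a'))
        rwa [inv_mul_cancel_right] at this
      refine mul_inv_eq_one.1
        (eq_one_of_biadd_invariant (fun a a' => ⁅A a, A a'⁆ * (B (γ a a'))⁻¹) id ?_ ?_ ?_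
          (fun c h => h) ?_ a a')
      · intro a a' b
        obtain ⟨x, hx⟩ := qA a
        obtain ⟨x', hx'⟩ := qA a'
        obtain ⟨x'', hx''⟩ := qA (a + a')
        obtain ⟨y, hy⟩ : ∃ y, τ (A (a + a')) = τ (A a * A a' * B y) :=
          ⟨x'' + (x + x' + szTh m a * a'), by
            rw [map_mul, map_mul, hx, hx', hx'', qB, Suz.u_mul, Suz.u_mul]
            congr 1
            · simp
            · simp only [mul_zero]
              linear_combination (-(x + x' + szTh m a * a')) * h2⟩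
        have c1 : ⁅B y, A b⁆ = 1 := commutatorElement_eq_one_iff_commute.2 (cAB b y).symm
        show ⁅A (a + a'), A b⁆ * (B (γ (a + a') b))⁻¹ = _
        rw [commutator_congr τ hc (b' := A b) hy rfl,
          commutator_mul_left (a' := B y) (by rw [c1]; exact Commute.one_right _)
            (by rw [c1]; exact Commute.one_left _), c1, mul_one,
          commutator_mul_left (hB' a' b _ (cAB a))
            (hB' a b _ fun d => ((hB' a' b _ (fun d' => cBB d d')).symm)),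
          show γ (a + a') b = γ a' b + γ a b by rw [hγ, hγ, hγ, map_add]; ring, Badd, mul_inv_rev,
          ← mul_assoc, mul_assoc ⁅A a, A b⁆ ⁅A a', A b⁆,
          ((hB' a' b _ (cBB (γ a b))).inv_left).symm.eq]
        simp only [mul_assoc]
      · intro a b b'
        obtain ⟨x, hx⟩ := qA b
        obtain ⟨x', hx'⟩ := qA b'
        obtain ⟨x'', hx''⟩ := qA (b + b')
        obtain ⟨y, hy⟩ : ∃ y, τ (A (b + b')) = τ (A b * A b' * B y) :=
          ⟨x'' + (x + x' + szTh m b * b'), by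
            rw [map_mul, map_mul, hx, hx', hx'', qB, Suz.u_mul, Suz.u_mul]
            congr 1
            · simp
            · simp only [mul_zero]
              linear_combination (-(x + x' + szTh m b * b')) * h2⟩
        have c1 : ⁅A a, B y⁆ = 1 := commutatorElement_eq_one_iff_commute.2 (cAB a y)
        show ⁅A a, A (b + b')⁆ * (B (γ a (b + b')))⁻¹ = _
        rw [commutator_congr τ hc (a' := A a) rfl hy,
          commutator_mul_right (b' := B y) (by rw [c1]; exact Commute.one_right _), c1, mul_one,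
          commutator_mul_right (hB' a b' _ (cAB b)),
          show γ a (b + b') = γ a b' + γ a b by rw [hγ, hγ, hγ, map_add]; ring, Badd, mul_inv_rev,
          ← mul_assoc, mul_assoc ⁅A a, A b⁆ ⁅A a, A b'⁆,
          ((hB' a b' _ (cBB (γ a b))).inv_left).symm.eq]
        simp only [mul_assoc]
      · intro c hc' a b
        show ⁅A (c * a), A (c * b)⁆ * (B (γ (c * a) (c * b)))⁻¹ = _
        rw [show γ (c * a) (c * b) = szTh m c * c * γ a b by rw [hγ, hγ, map_mul, map_mul]; ring,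
          ← eA c hc', ← eA c hc', ← eB c hc', ← conjc]
        calc W c * ⁅A a, A b⁆ * (W c)⁻¹ * (W c * B (γ a b) * (W c)⁻¹)⁻¹
            = W c * (⁅A a, A b⁆ * (B (γ a b))⁻¹) * (W c)⁻¹ := by group
          _ = _ := by rw [(cen _ (hk a b) (W c)).eq, mul_inv_cancel_right]
      · exact exists_id_weight hθ hm hF
    intro a a'
    exact ⟨γ a a', by rw [← hδ, commutatorElement_def]⟩
  have hle : ⁅(Suz.U hθ).comap τ, (Suz.U hθ).comap τ⁆ ≤ V := by
    rw [Subgroup.commutator_le]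
    intro x hx y hy
    obtain ⟨a, b, w, hw, rfl⟩ := hdec x hx
    obtain ⟨a', b', w', hw', rfl⟩ := hdec y hy
    have ccen : ∀ b w, w ∈ τ.ker → (∀ a, Commute (A a) (B b * w)) ∧
        ∀ b', ∀ w', w' ∈ τ.ker → Commute (B b * w) (B b' * w') := fun b w hw =>
      ⟨fun a => (cAB a b).mul_right (cen w hw _),
        fun b' w' hw' => ((cBB b b').mul_right (cen w' hw' _)).mul_left (cen w hw _).symm⟩
    have c1 : ⁅B b * w, A a' * (B b' * w')⁆ = 1 := commutatorElement_eq_one_iff_commute.2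
      (((ccen b w hw).1 a').symm.mul_right ((ccen b w hw).2 b' w' hw'))
    have c2 : ⁅A a, B b' * w'⁆ = 1 :=
      commutatorElement_eq_one_iff_commute.2 ((ccen b' w' hw').1 a)
    rw [commutator_mul_left (by rw [c1]; exact Commute.one_right _)
        (by rw [c1]; exact Commute.one_left _), c1, mul_one,
      commutator_mul_right (by rw [c2]; exact Commute.one_right _), c2, mul_one, commutatorElement_def]
    exact cA a a'
  obtain ⟨b, rfl⟩ := hle hz'
  rw [MonoidHom.mem_ker, qB, ← Suz.u_zero hθ] at hz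
  rw [(Suz.u_injective hθ hz).2]
  exact mul_eq_left.1 (show B 0 * B 0 = B 0 by rw [← Badd, add_zero])

/-- The Suzuki groups over fields with at least 32 elements have trivial multiplier. -/
theorem multiplier_one (hm : 2 ≤ m) (hF : Fintype.card F = 2 ^ (2 * m + 1)) :
    Cfsg.HasCyclicSchurMultiplier ↥(Suz.G F m) 1 := by
  classical
  refine hasCyclicSchurMultiplier_one_of_primes (MulEquiv.refl _)
    (Nat.primeFactorsList (Nat.card ↥(Suz.G F m)))
    (fun p hp hd => (Nat.mem_primeFactorsList Nat.card_pos.ne').2 ⟨hp, hd⟩) ?_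
  intro p hp Δ _ _ τ hs hc _ z hz hz' hzp
  haveI : Fact p.Prime := ⟨Nat.prime_of_mem_primeFactorsList hp⟩
  rcases eq_or_ne p 2 with rfl | hp2
  · refine eq_one_two hθ hm hF τ hs hc hz (mem_commutator_comap τ hs hc hz hz' hzp ?_)
    rw [← Suz.sylow_coe hθ hF]
    exact Nat.prime_two.coprime_iff_not_dvd.2 (Suz.sylow hθ hF).not_dvd_index
  · obtain ⟨P⟩ : Nonempty (Sylow p ↥(Suz.G F m)) := inferInstance
    haveI := Suz.sylow_odd_cyclic hθ hF hp2 P
    obtain ⟨g, hg⟩ := IsCyclic.exists_generator (α := ↥P)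
    refine eq_one_of_cyclic τ hs hc hz hz' hzp (x := (g : ↥(Suz.G F m))) ?_
    have : Subgroup.zpowers (g : ↥(Suz.G F m)) = (P : Subgroup ↥(Suz.G F m)) := by
      refine le_antisymm (Subgroup.zpowers_le.2 g.2) fun x hx => ?_
      obtain ⟨k, hk⟩ := Subgroup.mem_zpowers_iff.1 (hg ⟨x, hx⟩)
      exact Subgroup.mem_zpowers_iff.2 ⟨k, congrArg Subtype.val hk⟩
    rw [this]
    exact (Fact.out : p.Prime).coprime_iff_not_dvd.2 P.not_dvd_index

end Cfsg.Agent.Lib.Compute.Sz
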