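import Mathlib
import Cfsg.Agent.Lib.Compute.MultBound
import Cfsg.Agent.Lib.Compute.SuzukiMult
import Cfsg.Agent.Lib.RankOne.ReeGen
import Cfsg.Agent.Lib.RankOne.ReeSylowTwo
import Cfsg.Agent.S1156

/-!
The Schur multiplier of the small Ree groups is trivial: at the prime three by weights of the torus,
at the prime two by an automorphism of order seven of the Sylow subgroup.
-/

set_option autoImplicit false
set_option linter.unusedSectionVars false
set_option maxRecDepth 100000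

namespace Cfsg.Agent.Lib.Compute.ReeM

open Cfsg Cfsg.Lie Cfsg.Agent.Lib.Chev Cfsg.Agent.Lib.Chev.Tw Cfsg.Agent.Lib.Chev.Tw.G2
open Cfsg.Agent.Lib.RankOne.Ree Cfsg.Agent.Lib.Compute
open scoped commutatorElement

section Seven

variable {T M : Type*} [Group T] [Group M]

/-- Invariance of the commutators under an element of order seven without fixed points. -/
theorem eq_one_of_seven {n : ℕ} (hn : n = 7) (c : T → T → M) (f : T → T)
    (hl : ∀ a a' b, c (a * a') b = c a b * c a' b) (hr : ∀ a b b', c a (b * b') = c a b * c a b')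
    (hone : ∀ a, c a a = 1) (hsym : ∀ a b, c a b = c b a) (hf : ∀ a b, f (a * b) = f a * f b)
    (hinv : ∀ a b, c (f a) (f b) = c a b) (h7 : ∀ a, f^[n] a = a) (hexp : ∀ a : T, a * a = 1)
    (hcomm : ∀ a b : T, a * b = b * a)
    {x : T} (hfix : ∀ l, 0 < l → l < n → f^[l] x ≠ x) {l : ℕ} (hl7 : l < n)
    (hrel : x * f x = f^[l] x) : c x (f x) = 1 := by
  subst hn
  have e : ∀ j, f^[j + 1] x = f (f^[j] x) := fun j => Function.iterate_succ_apply' f j x
  have hs : ∀ j, f^[j] x * f^[j + 1] x = f^[j + l] x := by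
    intro j
    induction j with
    | zero => simpa using hrel
    | succ j ih => rw [e j, e (j + 1), ← hf, ih, Nat.succ_add, e]
  have hv : ∀ i j k, c (f^[i + k] x) (f^[j + k] x) = c (f^[i] x) (f^[j] x) := by
    intro i j k
    induction k with
    | zero => rfl
    | succ k ih => rw [← Nat.add_assoc, ← Nat.add_assoc, e, e, hinv, ih]
  have p7 : ∀ j, f^[j + 7] x = f^[j] x := fun j => by rw [Function.iterate_add_apply, h7]
  have hx0 : f^[0] x = x := rfl
  have hx1 : f^[1] x = f x := rfl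
  set v := c x (f x) with hvd
  have hv1 : ∀ k, c (f^[k] x) (f^[k + 1] x) = v := fun k => by
    have := hv 0 1 k
    rwa [Nat.zero_add, Nat.add_comm 1 k, hx0, hx1] at this
  interval_cases l
  · exfalso
    refine hfix 1 (by norm_num) (by norm_num) ?_
    have h : x * f x = x := hrel
    rw [hx1]
    have h1 := mul_eq_left.1 h
    have h2 : f (f x) = f x := by rw [h1]; have := hf x x; rw [hexp] at this; exact (by
      have h3 : f (1 : T) * f 1 = f 1 := by rw [← hf, one_mul]
      exact mul_eq_left.1 h3)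
    calc f x = f^[7] (f x) := (h7 _).symm
      _ = f x := h7 _
      _ = x := by
        have h3 : ∀ j, f^[j + 1] x = 1 := fun j => by
          induction j with
          | zero => exact h1
          | succ j ih =>
            rw [e, ih]
            exact mul_eq_left.1 (show f 1 * f 1 = f 1 by rw [← hf, one_mul])
        rw [h1, ← h7 x, h3 6]
  · exfalso
    refine hfix 1 (by norm_num) (by norm_num) ?_
    have h : x * f x = f x := hrel
    rw [hx1, mul_eq_right.1 h]
    exact mul_eq_left.1 (show f 1 * f 1 = f 1 by rw [← hf, one_mul])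
  · exfalso
    refine hfix 3 (by norm_num) (by norm_num) ?_
    have h0 := hs 0
    have h1 := hs 1
    simp only [Nat.zero_add, hx0, Nat.reduceAdd] at h0 h1
    rw [← h1, ← h0]
    calc f^[1] x * (x * f^[1] x) = (f^[1] x * f^[1] x) * x := by rw [hcomm x, mul_assoc]
      _ = x := by rw [hexp, one_mul]
  · have h0 := hs 0
    have h1 := hs 1
    simp only [Nat.zero_add, hx0, Nat.reduceAdd] at h0 h1
    have a2 : c x (f^[2] x) = v := by
      have := hv 0 2 1
      simp only [Nat.zero_add, hx0, Nat.reduceAdd] at this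
      rw [← this, ← h0, hr, hone, mul_one, hsym, hx1]
    have a3 : c x (f^[4] x) = v := by
      have := hv 0 4 3
      simp only [Nat.zero_add, hx0, Nat.reduceAdd, h7] at this
      rw [← this, ← h0, hl, hone, one_mul, hsym, hx1]
    have : v = v * v := by
      conv_lhs => rw [← a3, ← h1, hr, hx1, ← hvd, a2]
    exact (left_eq_mul.1 this)
  · exfalso
    have h0 := hs 0
    have h3 := hs 3
    simp only [Nat.zero_add, hx0, Nat.reduceAdd, h7] at h0 h3
    have h31 : f^[3] x = f^[1] x := by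
      calc f^[3] x = (f^[3] x * f^[4] x) * f^[4] x := by rw [mul_assoc, hexp, mul_one]
        _ = f^[1] x := by rw [h3, ← h0, ← mul_assoc, hexp, one_mul]
    have h9 := congrArg (fun y => f^[6] y) h31
    simp only [← Function.iterate_add_apply, Nat.reduceAdd, h7] at h9
    rw [show (9 : ℕ) = 2 + 7 from rfl, p7] at h9
    exact absurd h9 (hfix 2 (by norm_num) (by norm_num))
  · have h0 := hs 0
    have h1 := hs 1
    simp only [Nat.zero_add, hx0, Nat.reduceAdd] at h0 h1
    have a5 : c x (f^[5] x) = v := by rw [← h0, hr, hone, one_mul, hx1]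
    have a2 : c x (f^[2] x) = v := by
      have := hv 0 2 5
      simp only [Nat.zero_add, hx0, Nat.reduceAdd, h7] at this
      rw [← this, hsym, a5]
    have a6 : c x (f^[6] x) = v := by
      have := hv 0 1 6
      simp only [Nat.zero_add, hx0, Nat.reduceAdd, h7] at this
      rw [hsym, this, hx1]
    have : v = v * v := by
      conv_lhs => rw [← a6, ← h1, hr, hx1, ← hvd, a2]
    exact (left_eq_mul.1 this)
  · exfalso
    refine hfix 2 (by norm_num) (by norm_num) ?_
    have h6 := hs 6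
    have h0 := hs 0
    simp only [Nat.zero_add, hx0, Nat.reduceAdd, h7] at h6 h0
    rw [show (12 : ℕ) = 5 + 7 from rfl, p7] at h6
    rw [← h0] at h6
    have h8 : f^[5] x = f x := by
      rw [← h6, mul_assoc, hcomm (f^[1] x), ← mul_assoc, hexp, one_mul, hx1]
    have h9 := congrArg (fun y => f^[2] y) h8
    simp only [← Function.iterate_add_apply, ← Function.iterate_succ_apply, Nat.reduceAdd, Nat.succ_eq_add_one, h7] at h9
    exact absurd h9.symm (hfix 3 (by norm_num) (by norm_num))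

end Seven

variable {K : Type*} [Field K] [Fintype K] {m : ℕ} (A : Par K m)
include A

set_option quotPrecheck false in
local notation "GG" => ↥(twistedG2 K (3 ^ m))

/-- The unipotent elements. -/
def gW (x u v : K) : GG := ⟨W A x u v, W_mem A x u v⟩

/-- The torus. -/
def gT : Kˣ →* GG := (torT A).codRestrict _ fun t => (torT_mem A t).2

/-- The endomorphism of the field whose square is cubing. -/
def th (x : K) : K := A.phi x ^ 3

theorem th_add (x y : K) : th A (x + y) = th A x + th A y := by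
  simp only [th, map_add]
  linear_combination (A.phi x ^ 2 * A.phi y + A.phi x * A.phi y ^ 2) * A.h3

theorem th_mul (x y : K) : th A (x * y) = th A x * th A y := by
  simp only [th, map_mul, mul_pow]

theorem th_one : th A 1 = 1 := by simp [th]

theorem th_ne {x : K} (hx : x ≠ 0) : th A x ≠ 0 :=
  pow_ne_zero _ ((map_ne_zero_iff _ A.phi.injective).2 hx)

theorem th_th (x : K) : th A (th A x) = x ^ 3 := by
  simp only [th, map_pow]
  rw [phi_cube A]

theorem gW_mul (x u v x' u' v' : K) : gW A x u v * gW A x' u' v' =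
    gW A (x + x') (u + u' - th A x' * x)
      (v + v' - th A x' * x ^ 2 - x' * (u - th A x' * x)) :=
  Subtype.ext (W_mul A x u v x' u' v')

theorem th_zero : th A 0 = 0 := by simp [th]

theorem gW_zero : gW A 0 0 0 = 1 := Subtype.ext (W_zero A)

theorem gW_conj (t : Kˣ) (x u v : K) : gT A t * gW A x u v * (gT A t)⁻¹ =
    gW A ((t : K) ^ 2 / th A t * x) (th A t / t * u) (t * v) := by
  refine Subtype.ext ((conj_torT A t x u v).trans ?_)
  show W A _ _ _ = W A _ _ _
  congr 1 <;> simp only [th] <;> ring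

theorem gW_inj {x u v x' u' v' : K} (h : gW A x u v = gW A x' u' v') :
    x = x' ∧ u = u' ∧ v = v' := W_inj A (congrArg Subtype.val h)

theorem card_K : Fintype.card K = 3 ^ (2 * m + 1) := A.hK

theorem exists_param {e : K} (he : e ≠ 0) :
    ∃ t : Kˣ, (t : K) ^ 2 / th A t = e ∧ th A t / t = th A e * e := by
  let f : Kˣ →* Kˣ := MonoidHom.mk' (fun t => Units.mk0 ((t : K) ^ 2 / th A t)
    (div_ne_zero (pow_ne_zero _ t.ne_zero) (th_ne A t.ne_zero))) fun a b => Units.ext (by
      simp only [Units.val_mk0, Units.val_mul, th_mul, mul_pow, mul_div_mul_comm])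
  have hinj : Function.Injective f := (injective_iff_map_eq_one f).2 fun t ht => by
    have h : (t : K) ^ 2 / th A t = 1 := congrArg Units.val ht
    rw [div_eq_one_iff_eq (th_ne A t.ne_zero)] at h
    have h2 := congrArg (th A) h
    rw [th_th, sq, th_mul, ← h] at h2
    have h3 : (t : K) ^ 3 * ((t : K) - 1) = 0 := by linear_combination h2
    rcases mul_eq_zero.1 h3 with h4 | h4
    · exact absurd h4 (pow_ne_zero _ t.ne_zero)
    · exact Units.ext (sub_eq_zero.1 h4)
  obtain ⟨t, ht⟩ := Finite.surjective_of_injective hinj (Units.mk0 e he)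
  have h : (t : K) ^ 2 / th A t = e := congrArg Units.val ht
  refine ⟨t, h, ?_⟩
  have ht0 := t.ne_zero
  have h1 := th_ne A t.ne_zero
  have h2 : th A e * th A (th A t) = th A t * th A t := by
    rw [← th_mul, ← h, div_mul_cancel₀ _ h1, sq, th_mul]
  rw [th_th] at h2
  rw [← h] at h2 ⊢
  field_simp
  field_simp at h2
  linear_combination -h2

section Lift

variable {Δ : Type*} [Group Δ] (τ : Δ →* ↥(twistedG2 K (3 ^ m))) (hs : Function.Surjective τ)
  (hc : τ.ker ≤ Subgroup.center Δ)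
include hs hc

theorem exists_lift (g : K → GG) (w : Kˣ → K) (hconj : ∀ t a, gT A t * g a * (gT A t)⁻¹ = g (w t * a))
    (t0 : Kˣ) {W0 : Δ} (hW0 : τ W0 = gT A t0) :
    ∃ L : K → Δ, (∀ a, τ (L a) = g (w t0 * (a / (w t0 - 1))) * (g (a / (w t0 - 1)))⁻¹) ∧
      (∀ a s, τ s = g (a / (w t0 - 1)) → ⁅W0, s⁆ = L a) ∧
      ∀ (t : Kˣ) (W : Δ), τ W = gT A t → ∀ a, W * L a * W⁻¹ = L (w t * a) := by
  choose sec hsec using hs
  refine ⟨fun a => ⁅W0, sec (g (a / (w t0 - 1)))⁆, fun a => ?_, fun a s h => ?_, fun t W hW a => ?_⟩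
  · rw [map_commutatorElement, hW0, hsec, commutatorElement_def, hconj]
  · exact commutator_congr τ hc rfl (h.trans (hsec _).symm)
  · show W * ⁅W0, _⁆ * W⁻¹ = ⁅W0, _⁆
    rw [show W * ⁅W0, sec (g (a / (w t0 - 1)))⁆ * W⁻¹ =
      ⁅W * W0 * W⁻¹, W * sec (g (a / (w t0 - 1))) * W⁻¹⁆ by
      simp only [commutatorElement_def]; group]
    refine commutator_congr τ hc ?_ ?_
    · rw [map_mul, map_mul, map_inv, hW, hW0, ← map_mul, mul_comm, map_mul, mul_inv_cancel_right]
    · rw [map_mul, map_mul, map_inv, hW, hsec, hsec, hconj, mul_div_assoc]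

omit hs in
theorem lift_add (g : K → GG) (k : K) {W0 : Δ} (L : K → Δ) (qL : ∀ a, τ (L a) = g a)
    (hg : ∀ a b, g a * g b = g (a + b)) (hL : ∀ a s, τ s = g (a / k) → ⁅W0, s⁆ = L a)
    (hcomm : ∀ a b, Commute (L a) (L b)) (a b : K) : L (a + b) = L a * L b := by
  rw [← hL (a + b) (L (a / k) * L (b / k)) (by rw [map_mul, qL, qL, hg, add_div]),
    commutator_mul_right (by rw [hL b _ (qL _)]; exact hcomm _ _), hL a _ (qL _), hL b _ (qL _)]

end Lift

/-- The prime three. -/
theorem eq_one_three (hm : 1 ≤ m) {Δ : Type*} [Group Δ] [Finite Δ] (τ : Δ →* GG)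
    (hs : Function.Surjective τ) (hc : τ.ker ≤ Subgroup.center Δ) {z : Δ} (hz : z ∈ τ.ker)
    (hz' : z ∈ ⁅((chevG2.posUnipotent K ⊓ G1 K m).subgroupOf (twistedG2 K (3 ^ m))).comap τ,
      ((chevG2.posUnipotent K ⊓ G1 K m).subgroupOf (twistedG2 K (3 ^ m))).comap τ⁆) : z = 1 := by
  classical
  have h3 := A.h3
  have h27 : 27 ≤ Fintype.card K := by
    rw [A.hK]
    calc 27 = 3 ^ 3 := rfl
      _ ≤ _ := Nat.pow_le_pow_right (by norm_num) (by omega)
  obtain ⟨d, hd⟩ : ∃ d : K, d ∉ ({0, 1, -1} : Finset K) := by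
    by_contra hne
    push Not at hne
    have h := Finset.card_le_card (show (Finset.univ : Finset K) ⊆ {0, 1, -1} from fun x _ => hne x)
    rw [Finset.card_univ] at h
    have := h.trans (Finset.card_le_three)
    omega
  simp only [Finset.mem_insert, Finset.mem_singleton, not_or] at hd
  obtain ⟨hd0, hd1, hd2⟩ := hd
  have h2 : (2 : K) ≠ 0 := fun h => one_ne_zero (by linear_combination h3 - h : (1 : K) = 0)
  have hd3 : 1 + d ≠ 0 := fun h => hd2 (by linear_combination h)
  have hth2 : th A 2 = 2 := by rw [← one_add_one_eq_two, th_add, th_one]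
  have w11 : (1 : K) + 1 ≠ 0 := by rwa [one_add_one_eq_two]
  have w_id : ∃ c e : K, c ≠ 0 ∧ e ≠ 0 ∧ c + e ≠ 0 ∧ (id (c + e))⁻¹ ≠ (id c)⁻¹ + (id e)⁻¹ := by
    refine ⟨1, d, one_ne_zero, hd0, hd3, fun h => hd1 ?_⟩
    simp only [id, inv_one] at h
    field_simp at h
    have : (d - 1) ^ 2 = 0 := by linear_combination -h - d * h3
    exact sub_eq_zero.1 (pow_eq_zero_iff two_ne_zero |>.1 this)
  set t0 : Kˣ := Units.mk0 d hd0
  have ht0 : t0 * t0 ≠ 1 := fun h => by
    rcases mul_self_eq_one_iff.1 (show d * d = 1 from congrArg Units.val h) with h | h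
    exacts [hd1 h, hd2 h]
  have hfix : ∀ x u v, gT A t0 * gW A x u v * (gT A t0)⁻¹ = gW A x u v → x = 0 ∧ u = 0 ∧ v = 0 :=
    fun x u v h => eq_zero_of_fixed A (congrArg Subtype.val h) ht0
  set wx : Kˣ → K := fun t => (t : K) ^ 2 / th A t with hwx
  set wu : Kˣ → K := fun t => th A t / t with hwu
  set wv : Kˣ → K := fun t => (t : K) with hwv
  have cx : ∀ t a, gT A t * gW A a 0 0 * (gT A t)⁻¹ = gW A (wx t * a) 0 0 := fun t a => by
    rw [gW_conj, mul_zero, mul_zero]
  have cu : ∀ t a, gT A t * gW A 0 a 0 * (gT A t)⁻¹ = gW A 0 (wu t * a) 0 := fun t a => by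
    rw [gW_conj, mul_zero, mul_zero]
  have cv : ∀ t a, gT A t * gW A 0 0 a * (gT A t)⁻¹ = gW A 0 0 (wv t * a) := fun t a => by
    rw [gW_conj, mul_zero, mul_zero]
  have kx : wx t0 - 1 ≠ 0 := sub_ne_zero.2 fun h =>
    one_ne_zero (hfix 1 0 0 (by rw [cx, h, one_mul])).1
  have ku : wu t0 - 1 ≠ 0 := sub_ne_zero.2 fun h =>
    one_ne_zero (hfix 0 1 0 (by rw [cu, h, one_mul])).2.1
  have kv : wv t0 - 1 ≠ 0 := sub_ne_zero.2 fun h =>
    one_ne_zero (hfix 0 0 1 (by rw [cv, h, one_mul])).2.2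
  obtain ⟨W0, hW0⟩ := hs (gT A t0)
  obtain ⟨Ax, qA, hA, eA⟩ := exists_lift A τ hs hc (fun a => gW A a 0 0) wx cx t0 hW0
  obtain ⟨Bu, qB, hB, eB⟩ := exists_lift A τ hs hc (fun a => gW A 0 a 0) wu cu t0 hW0
  obtain ⟨Cv, qC, hC, eC⟩ := exists_lift A τ hs hc (fun a => gW A 0 0 a) wv cv t0 hW0
  have gu : ∀ a b, gW A 0 a 0 * gW A 0 b 0 = gW A 0 (a + b) 0 := fun a b => by
    rw [gW_mul]; simp [th_zero]
  have gv : ∀ a b, gW A 0 0 a * gW A 0 0 b = gW A 0 0 (a + b) := fun a b => by
    rw [gW_mul]; simp [th_zero]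
  replace qB : ∀ a, τ (Bu a) = gW A 0 a 0 := fun a => by
    rw [qB, mul_inv_eq_iff_eq_mul, gu]
    congr 1
    field_simp; ring
  replace qC : ∀ a, τ (Cv a) = gW A 0 0 a := fun a => by
    rw [qC, mul_inv_eq_iff_eq_mul, gv]
    congr 1
    field_simp; ring
  replace qA : ∀ a, ∃ b c, τ (Ax a) = gW A a b c := fun a => by
    set a' := a / (wx t0 - 1) with ha'
    refine ⟨0 - (0 - th A a' * a), 0 - (0 - th A a' * a ^ 2 - a' * (0 - (0 - th A a' * a) - th A a' * a)), ?_⟩
    rw [qA, mul_inv_eq_iff_eq_mul, gW_mul]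
    congr 1
    · field_simp; ring
    · ring
    · ring
  choose W hW using fun t : Kˣ => hs (gT A t)
  have hinvt : ∀ {M : K → K → Δ} {t : Kˣ} {a b a' b' : K}, M a' b' ∈ τ.ker →
      M a b = W t * M a' b' * (W t)⁻¹ → M a b = M a' b' := fun {M t a b a' b'} h e => by
    rw [e, Subgroup.mem_center_iff.1 (hc h) (W t), mul_inv_cancel_right]
  have conjc : ∀ w x y : Δ, w * ⁅x, y⁆ * w⁻¹ = ⁅w * x * w⁻¹, w * y * w⁻¹⁆ := fun w x y => by
    simp only [commutatorElement_def]; group
  have cen : ∀ x, x ∈ τ.ker → ∀ g, Commute g x := fun x hx g =>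
    Subgroup.mem_center_iff.1 (hc hx) g
  have kerc : ∀ x y, Commute (τ x) (τ y) → ⁅x, y⁆ ∈ τ.ker := fun x y h => by
    rw [MonoidHom.mem_ker, map_commutatorElement]
    exact commutatorElement_eq_one_iff_commute.2 h
  have vpar : ∀ {c : K} (hc : c ≠ 0), wv (Units.mk0 c hc) = c := fun _ => rfl
  -- the centre
  have hkCC : ∀ a b, ⁅Cv a, Cv b⁆ ∈ τ.ker := fun a b => kerc _ _ (by
    rw [qC, qC]; show gW A 0 0 a * gW A 0 0 b = _; rw [gv, gv, add_comm])
  have cCC : ∀ a b, Commute (Cv a) (Cv b) := fun a b => by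
    refine commutatorElement_eq_one_iff_commute.1
      (eq_one_of_biadd_invariant (fun a b => ⁅Cv a, Cv b⁆) id ?_ ?_ ?_ (fun c h => h) w_id a b)
    · intro a a' b
      show ⁅Cv (a + a'), Cv b⁆ = _
      rw [commutator_congr τ hc (a' := Cv a * Cv a') (b' := Cv b)
        (by rw [map_mul, qC, qC, qC, gv]) rfl]
      exact commutator_mul_left (cen _ (hkCC _ _) _) (cen _ (hkCC _ _) _)
    · intro a b b'
      show ⁅Cv a, Cv (b + b')⁆ = _
      rw [commutator_congr τ hc (a' := Cv a) (b' := Cv b * Cv b') rfl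
        (by rw [map_mul, qC, qC, qC, gv])]
      exact commutator_mul_right (cen _ (hkCC _ _) _)
    · intro c hc' a b
      refine hinvt (M := fun a b => ⁅Cv a, Cv b⁆) (t := Units.mk0 c hc') (hkCC a b) ?_
      rw [conjc, eC _ _ (hW _), eC _ _ (hW _)]; rfl
  have Cadd : ∀ a b, Cv (a + b) = Cv a * Cv b :=
    lift_add A τ hc (fun a => gW A 0 0 a) _ Cv qC gv hC cCC
  have qBC : ∀ a b, Commute (τ (Bu a)) (τ (Cv b)) := fun a b => by
    rw [qB, qC]; show gW A 0 a 0 * gW A 0 0 b = _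
    rw [gW_mul, gW_mul]; congr 1 <;> simp [th_zero]
  have hkCB : ∀ a b, ⁅Cv a, Bu b⁆ ∈ τ.ker := fun a b => kerc _ _ (qBC b a).symm
  have cCB : ∀ a b, Commute (Cv a) (Bu b) := fun a b => by
    refine commutatorElement_eq_one_iff_commute.1
      (eq_one_of_biadd_invariant (fun a b => ⁅Cv a, Bu b⁆) (fun c => th A c / c) ?_ ?_ ?_
        (fun c h => div_ne_zero (th_ne A h) h) ?_ a b)
    · intro a a' b
      show ⁅Cv (a + a'), Bu b⁆ = _
      rw [Cadd]
      exact commutator_mul_left (cen _ (hkCB _ _) _) (cen _ (hkCB _ _) _)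
    · intro a b b'
      show ⁅Cv a, Bu (b + b')⁆ = _
      rw [commutator_congr τ hc (a' := Cv a) (b' := Bu b * Bu b') rfl
        (by rw [map_mul, qB, qB, qB, gu])]
      exact commutator_mul_right (cen _ (hkCB _ _) _)
    · intro c hc' a b
      refine hinvt (M := fun a b => ⁅Cv a, Bu b⁆) (t := Units.mk0 c hc') (hkCB a b) ?_
      rw [conjc, eC _ _ (hW _), eB _ _ (hW _)]; rfl
    · refine ⟨1, 1, one_ne_zero, one_ne_zero, w11, fun h => ?_⟩
      rw [one_add_one_eq_two, hth2, th_one, div_self h2, div_one, inv_one] at h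
      exact one_ne_zero (by linear_combination -h : (1 : K) = 0)
  have hkBB : ∀ a b, ⁅Bu a, Bu b⁆ ∈ τ.ker := fun a b => kerc _ _ (by
    rw [qB, qB]; show gW A 0 a 0 * gW A 0 b 0 = _; rw [gu, gu, add_comm])
  have hBBl : ∀ a a' b, ⁅Bu (a + a'), Bu b⁆ = ⁅Bu a, Bu b⁆ * ⁅Bu a', Bu b⁆ := fun a a' b => by
    rw [commutator_congr τ hc (a' := Bu a * Bu a') (b' := Bu b)
        (by rw [map_mul, qB, qB, qB, gu]) rfl]
    exact commutator_mul_left (cen _ (hkBB _ _) _) (cen _ (hkBB _ _) _)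
  have hBBr : ∀ a b b', ⁅Bu a, Bu (b + b')⁆ = ⁅Bu a, Bu b⁆ * ⁅Bu a, Bu b'⁆ := fun a b b' => by
    rw [commutator_congr τ hc (a' := Bu a) (b' := Bu b * Bu b') rfl
        (by rw [map_mul, qB, qB, qB, gu])]
    exact commutator_mul_right (cen _ (hkBB _ _) _)
  have cBB : ∀ a b, Commute (Bu a) (Bu b) := fun a b => by
    refine commutatorElement_eq_one_iff_commute.1
      (eq_one_of_biadd_invariant (fun a b => ⁅Bu a, Bu b⁆) id hBBl hBBr ?_ (fun c h => h) w_id a b)
    intro c hc' a b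
    have hneg : ∀ a b, ⁅Bu (-a), Bu (-b)⁆ = ⁅Bu a, Bu b⁆ := by
      intro a b
      have z1 : ⁅Bu 0, Bu (-b)⁆ = 1 := mul_eq_left.1
        (show ⁅Bu 0, Bu (-b)⁆ * ⁅Bu 0, Bu (-b)⁆ = ⁅Bu 0, Bu (-b)⁆ by rw [← hBBl, add_zero])
      have z2 : ⁅Bu a, Bu 0⁆ = 1 := mul_eq_left.1
        (show ⁅Bu a, Bu 0⁆ * ⁅Bu a, Bu 0⁆ = ⁅Bu a, Bu 0⁆ by rw [← hBBr, add_zero])
      have e1 := hBBl a (-a) (-b)
      have e2 := hBBr a (-b) b
      rw [add_neg_cancel, z1] at e1
      rw [neg_add_cancel, z2] at e2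
      exact (mul_left_cancel (e2.symm.trans e1)).symm
    have hfk : ∀ u a b, ⁅Bu ((fK A u : Kˣ) * a), Bu ((fK A u : Kˣ) * b)⁆ = ⁅Bu a, Bu b⁆ := by
      intro u a b
      obtain ⟨t, -, ht⟩ := exists_param A u.ne_zero
      have : ((fK A u : Kˣ) : K) = wu t := ht.symm
      rw [this]
      refine hinvt (M := fun a b => ⁅Bu a, Bu b⁆) (t := t) (hkBB a b) ?_
      rw [conjc, eB _ _ (hW _), eB _ _ (hW _)]
    obtain ⟨u, hu | hu⟩ := exists_sign_fK A (Units.mk0 c hc')
    · have hcu : c = (fK A u : Kˣ) := congrArg Units.val hu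
      show ⁅Bu (c * a), Bu (c * b)⁆ = _
      rw [hcu, hfk]
    · have hcu : c = -((fK A u : Kˣ) : K) := (congrArg Units.val hu).trans (by simp)
      show ⁅Bu (c * a), Bu (c * b)⁆ = _
      rw [hcu, neg_mul, neg_mul, hneg, hfk]
  have Badd : ∀ a b, Bu (a + b) = Bu a * Bu b :=
    lift_add A τ hc (fun a => gW A 0 a 0) _ Bu qB gu hB cBB
  -- the subgroup of the lifts
  have C0 : Cv 0 = 1 := mul_eq_left.1 (show Cv 0 * Cv 0 = Cv 0 by rw [← Cadd, add_zero])
  have B0 : Bu 0 = 1 := mul_eq_left.1 (show Bu 0 * Bu 0 = Bu 0 by rw [← Badd, add_zero])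
  set V : Subgroup Δ :=
    { carrier := {y | ∃ u v, y = Bu u * Cv v}
      one_mem' := ⟨0, 0, by rw [B0, C0, one_mul]⟩
      mul_mem' := by
        rintro _ _ ⟨a, b, rfl⟩ ⟨a', b', rfl⟩
        refine ⟨a + a', b + b', ?_⟩
        rw [Badd, Cadd, mul_assoc (Bu a), ← mul_assoc (Cv b), (cCB b a').eq]
        simp only [mul_assoc]
      inv_mem' := by
        rintro _ ⟨a, b, rfl⟩
        refine ⟨-a, -b, inv_eq_of_mul_eq_one_right ?_⟩
        rw [mul_assoc (Bu a), ← mul_assoc (Cv b), (cCB b (-a)).eq, mul_assoc, ← Cadd,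
          add_neg_cancel, C0, mul_one, ← Badd, add_neg_cancel, B0] } with hV
  have memV : ∀ u v, Bu u * Cv v ∈ V := fun u v => ⟨u, v, rfl⟩
  have memB : ∀ u, Bu u ∈ V := fun u => ⟨u, 0, by rw [C0, mul_one]⟩
  have memC : ∀ v, Cv v ∈ V := fun v => ⟨0, v, by rw [B0, one_mul]⟩
  have hVker : ∀ y ∈ V, y ∈ τ.ker → y = 1 := by
    rintro _ ⟨u, v, rfl⟩ h
    rw [MonoidHom.mem_ker, map_mul, qB, qC, gW_mul, ← gW_zero A] at h
    obtain ⟨-, hu, hv⟩ := gW_inj A h
    simp [th_zero] at hu hv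
    rw [hu, hv, B0, C0, one_mul]
  have qAC : ∀ a b, Commute (τ (Ax a)) (τ (Cv b)) := fun a b => by
    obtain ⟨p, r, h⟩ := qA a
    rw [h, qC]; show gW A a p r * gW A 0 0 b = _
    rw [gW_mul, gW_mul]; congr 1 <;> simp [th_zero, add_comm]
  have hkCA : ∀ a b, ⁅Cv a, Ax b⁆ ∈ τ.ker := fun a b => kerc _ _ (qAC b a).symm
  have qAdd : ∀ a a', ∃ y ∈ V, τ (Ax (a + a')) = τ (Ax a * Ax a' * y) := fun a a' => by
    obtain ⟨p, r, h⟩ := qA a
    obtain ⟨p', r', h'⟩ := qA a'
    obtain ⟨p'', r'', h''⟩ := qA (a + a')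
    refine ⟨_, memV (p'' - (p + p' - th A a' * a))
      (r'' - (r + r' - th A a' * a ^ 2 - a' * (p - th A a' * a))), ?_⟩
    rw [map_mul, map_mul, map_mul, h, h', h'', qB, qC, gW_mul, gW_mul, gW_mul]
    congr 1 <;> simp [th_zero] <;> ring
  have cCA : ∀ a b, Commute (Cv a) (Ax b) := fun a b => by
    refine commutatorElement_eq_one_iff_commute.1
      (eq_one_of_biadd_invariant (fun a b => ⁅Cv a, Ax b⁆) (fun c => c ^ 2 / th A c) ?_ ?_ ?_
        (fun c h => div_ne_zero (pow_ne_zero _ h) (th_ne A h)) ?_ a b)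
    · intro a a' b
      show ⁅Cv (a + a'), Ax b⁆ = _
      rw [Cadd]
      exact commutator_mul_left (cen _ (hkCA _ _) _) (cen _ (hkCA _ _) _)
    · intro a b b'
      obtain ⟨_, ⟨p, r, rfl⟩, hy⟩ := qAdd b b'
      have c1 : ⁅Cv a, Bu p * Cv r⁆ = 1 :=
        commutatorElement_eq_one_iff_commute.2 ((cCB a p).mul_right (cCC a r))
      show ⁅Cv a, Ax (b + b')⁆ = _
      rw [commutator_congr τ hc (a' := Cv a) rfl hy,
        commutator_mul_right (by rw [c1]; exact Commute.one_right _), c1, mul_one]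
      exact commutator_mul_right (cen _ (hkCA _ _) _)
    · intro c hc' a b
      refine hinvt (M := fun a b => ⁅Cv a, Ax b⁆) (t := Units.mk0 c hc') (hkCA a b) ?_
      rw [conjc, eC _ _ (hW _), eA _ _ (hW _)]; rfl
    · refine ⟨1, d, one_ne_zero, hd0, hd3, fun h => ?_⟩
      rw [th_one, one_pow, div_one, inv_one, inv_div, inv_div, th_add, th_one] at h
      field_simp at h
      obtain ⟨s, hs'⟩ : ∃ s, s = th A d := ⟨_, rfl⟩
      rw [← hs'] at h
      have e : (d - 1) * (s - d ^ 3) = 0 := by linear_combination h + (d ^ 3 + s * d) * h3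
      rcases mul_eq_zero.1 e with e | e
      · exact hd1 (sub_eq_zero.1 e)
      · have e1 : th A d = d ^ 3 := hs' ▸ sub_eq_zero.1 e
        have e2 := congrArg (th A) e1
        rw [th_th, show d ^ 3 = d * d * d by ring, th_mul, th_mul, e1] at e2
        have e3 : d ^ 3 * (d * d - 1) ^ 3 = 0 := by
          linear_combination -e2 + (-(d ^ 7) + d ^ 5) * h3
        rcases mul_eq_zero.1 e3 with e4 | e4
        · exact hd0 (pow_eq_zero_iff (by norm_num) |>.1 e4)
        · rcases mul_self_eq_one_iff.1 (sub_eq_zero.1 (pow_eq_zero_iff (by norm_num) |>.1 e4))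
            with e5 | e5
          exacts [hd1 e5, hd2 e5]
  -- the middle layer
  have qAB : ∀ a b, τ ⁅Ax a, Bu b⁆ = τ (Cv (a * b)) := fun a b => by
    obtain ⟨p, r, h⟩ := qA a
    rw [map_commutatorElement, h, qB, qC, commutatorElement_def, mul_inv_eq_iff_eq_mul,
      mul_inv_eq_iff_eq_mul, gW_mul, gW_mul, gW_mul]
    congr 1 <;> simp [th_zero] <;> ring
  have hkAB : ∀ a b, ⁅Ax a, Bu b⁆ * (Cv (a * b))⁻¹ ∈ τ.ker := fun a b => by
    rw [MonoidHom.mem_ker, map_mul, map_inv, qAB, mul_inv_cancel]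
  have hABc : ∀ a b g, (∀ v, Commute g (Cv v)) → Commute g ⁅Ax a, Bu b⁆ := fun a b g hg => by
    have := (cen _ (hkAB a b) g).mul_right (hg (a * b))
    rwa [inv_mul_cancel_right] at this
  have hAB : ∀ a b, ⁅Ax a, Bu b⁆ = Cv (a * b) := fun a b => by
    refine mul_inv_eq_one.1 (eq_one_of_biadd_invariant (fun a b => ⁅Ax a, Bu b⁆ * (Cv (a * b))⁻¹)
      (fun c => th A c * c) ?_ ?_ ?_ (fun c h => mul_ne_zero (th_ne A h) h) ?_ a b)
    · intro a a' b
      obtain ⟨_, ⟨p, r, rfl⟩, hy⟩ := qAdd a a'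
      have c1 : ⁅Bu p * Cv r, Bu b⁆ = 1 :=
        commutatorElement_eq_one_iff_commute.2 ((cBB p b).mul_left (cCB r b))
      show ⁅Ax (a + a'), Bu b⁆ * (Cv ((a + a') * b))⁻¹ = _
      rw [commutator_congr τ hc (b' := Bu b) hy rfl,
        commutator_mul_left (by rw [c1]; exact Commute.one_right _)
          (by rw [c1]; exact Commute.one_left _), c1, mul_one,
        commutator_mul_left (hABc a' b _ fun v => (cCA v a).symm)
          (hABc a b _ fun v => (hABc a' b _ fun v' => cCC v v').symm),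
        show (a + a') * b = a' * b + a * b by ring, Cadd, mul_inv_rev,
        ← mul_assoc, mul_assoc ⁅Ax a, Bu b⁆ ⁅Ax a', Bu b⁆,
        ((hABc a' b _ (cCC (a * b))).inv_left).symm.eq]
      simp only [mul_assoc]
    · intro a b b'
      show ⁅Ax a, Bu (b + b')⁆ * (Cv (a * (b + b')))⁻¹ = _
      rw [Badd, commutator_mul_right (hABc a b' _ fun v => (cCB v b).symm),
        show a * (b + b') = a * b' + a * b by ring, Cadd, mul_inv_rev,
        ← mul_assoc, mul_assoc ⁅Ax a, Bu b⁆ ⁅Ax a, Bu b'⁆,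
        ((hABc a b' _ (cCC (a * b))).inv_left).symm.eq]
      simp only [mul_assoc]
    · intro c hc' a b
      obtain ⟨t, ht1, ht2⟩ := exists_param A hc'
      refine hinvt (M := fun a b => ⁅Ax a, Bu b⁆ * (Cv (a * b))⁻¹) (t := t) (hkAB a b) ?_
      have e : c * a * (th A c * c * b) = wv t * (a * b) := by
        show _ = (t : K) * (a * b)
        rw [← ht2, ← ht1]
        have := t.ne_zero
        have := th_ne A t.ne_zero
        field_simp
      rw [e, show c * a = wx t * a by rw [hwx]; simp only [ht1],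
        show th A c * c * b = wu t * b by rw [hwu]; simp only [ht2],
        ← eA t _ (hW t), ← eB t _ (hW t), ← eC t _ (hW t), ← conjc]
      group
    · refine ⟨1, 1, one_ne_zero, one_ne_zero, w11, fun h => ?_⟩
      rw [one_add_one_eq_two, hth2, th_one, mul_one, inv_one] at h
      rw [show (2 : K) * 2 = 1 by linear_combination h3, inv_one] at h
      exact one_ne_zero (by linear_combination -h : (1 : K) = 0)
  -- conjugation by the lifts
  have hAV : ∀ a, ∀ y ∈ V, Ax a * y * (Ax a)⁻¹ ∈ V := by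
    rintro a _ ⟨u, v, rfl⟩
    have e1 : Ax a * Bu u * (Ax a)⁻¹ = Cv (a * u) * Bu u := by
      rw [← hAB, commutatorElement_def, inv_mul_cancel_right]
    rw [show Ax a * (Bu u * Cv v) * (Ax a)⁻¹ =
      (Ax a * Bu u * (Ax a)⁻¹) * (Ax a * Cv v * (Ax a)⁻¹) by group, e1, (cCA v a).symm.eq,
      mul_inv_cancel_right]
    exact mul_mem (mul_mem (memC _) (memB _)) (memC _)
  -- the top layer
  have qAA : ∀ a a', ∃ y ∈ V, τ ⁅Ax a, Ax a'⁆ = τ y := fun a a' => by
    obtain ⟨p, r, h⟩ := qA a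
    obtain ⟨p', r', h'⟩ := qA a'
    obtain ⟨X1, X2, X3, e1⟩ : ∃ X1 X2 X3, gW A a p r * gW A a' p' r' = gW A X1 X2 X3 ∧ X1 = a + a' :=
      ⟨_, _, _, gW_mul A _ _ _ _ _ _, rfl⟩
    obtain ⟨Y1, Y2, Y3, e2⟩ : ∃ Y1 Y2 Y3, gW A a' p' r' * gW A a p r = gW A Y1 Y2 Y3 ∧ Y1 = a' + a :=
      ⟨_, _, _, gW_mul A _ _ _ _ _ _, rfl⟩
    refine ⟨_, memV (X2 - Y2 + th A (a' + a) * 0)
      (X3 - Y3 + Y1 * (X2 - Y2)), ?_⟩
    rw [map_commutatorElement, h, h', map_mul, qB, qC, commutatorElement_def, mul_inv_eq_iff_eq_mul,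
      mul_inv_eq_iff_eq_mul, mul_assoc _ (gW A a' p' r'), e1.1, e2.1, gW_mul, gW_mul, e1.2, e2.2]
    congr 1 <;> simp [th_zero] <;> ring
  choose vA hvA qvA using qAA
  set δ : K → K → Δ := fun a a' => ⁅Ax a, Ax a'⁆ * (vA a a')⁻¹ with hδ
  have hkd : ∀ a a', δ a a' ∈ τ.ker := fun a a' => by
    rw [MonoidHom.mem_ker, hδ, map_mul, map_inv, qvA, mul_inv_cancel]
  have dec : ∀ a a', ⁅Ax a, Ax a'⁆ = δ a a' * vA a a' := fun a a' => by
    rw [hδ, inv_mul_cancel_right]
  have uniq : ∀ k k' : Δ, k ∈ τ.ker → k' ∈ τ.ker → ∀ v ∈ V, ∀ v' ∈ V, k * v = k' * v' → k = k' := by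
    intro k k' hk hk' v hv v' hv' e
    have e' : k'⁻¹ * k = v' * v⁻¹ := by
      calc k'⁻¹ * k = k'⁻¹ * (k * v) * v⁻¹ := by group
        _ = v' * v⁻¹ := by rw [e]; group
    exact (inv_mul_eq_one.1 (hVker _ (e' ▸ mul_mem hv' (inv_mem hv))
      (mul_mem (inv_mem hk') hk))).symm
  have hVA : ∀ a y, y ∈ V → ⁅Ax a, y⁆ ∈ V := fun a y hy => by
    rw [commutatorElement_def]; exact mul_mem (hAV a y hy) (inv_mem hy)
  have hδ0 : ∀ a a', δ a a' = 1 := by
    refine eq_one_of_biadd_invariant δ id ?_ ?_ ?_ (fun c h => h) w_id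
    · intro a a' b
      obtain ⟨y, hy, hy'⟩ := qAdd a a'
      have e : ⁅Ax (a + a'), Ax b⁆ = δ a b * δ a' b *
          ((Ax a * (Ax a' * ⁅y, Ax b⁆ * (Ax a')⁻¹) * (Ax a)⁻¹) *
            ((Ax a * vA a' b * (Ax a)⁻¹) * vA a b)) := by
        rw [commutator_congr τ hc (b' := Ax b) hy' rfl]
        have e1 : ⁅Ax a * Ax a' * y, Ax b⁆ =
            (Ax a * (Ax a' * ⁅y, Ax b⁆ * (Ax a')⁻¹) * (Ax a)⁻¹) *
              (Ax a * ⁅Ax a', Ax b⁆ * (Ax a)⁻¹) * ⁅Ax a, Ax b⁆ := by
          simp only [commutatorElement_def]; group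
        rw [e1, dec, dec]
        obtain ⟨P, hP⟩ : ∃ P, P = Ax a * (Ax a' * ⁅y, Ax b⁆ * (Ax a')⁻¹) * (Ax a)⁻¹ := ⟨_, rfl⟩
        rw [← hP]
        have c1 := cen _ (hkd a' b)
        have c2 := cen _ (hkd a b)
        calc P * (Ax a * (δ a' b * vA a' b) * (Ax a)⁻¹) * (δ a b * vA a b)
            = P * (Ax a * δ a' b) * (vA a' b * (Ax a)⁻¹) * (δ a b * vA a b) := by group
          _ = (P * δ a' b) * (Ax a * vA a' b * (Ax a)⁻¹ * δ a b) * vA a b := by
              rw [(c1 (Ax a)).eq]; group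
          _ = δ a' b * (P * δ a b) * (Ax a * vA a' b * (Ax a)⁻¹) * vA a b := by
              rw [(c1 P).eq, (c2 (Ax a * vA a' b * (Ax a)⁻¹)).eq]; group
          _ = _ := by rw [(c2 P).eq, ← mul_assoc (δ a' b), (c1 (δ a b)).symm.eq]; group
      rw [dec] at e
      refine uniq _ _ (hkd _ _) (mul_mem (hkd _ _) (hkd _ _)) _ (hvA _ _) _ ?_ e
      refine mul_mem (hAV _ _ (hAV _ _ ?_)) (mul_mem (hAV _ _ (hvA _ _)) (hvA _ _))
      rw [← commutatorElement_inv]; exact inv_mem (hVA b y hy)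
    · intro a b b'
      obtain ⟨y, hy, hy'⟩ := qAdd b b'
      have e : ⁅Ax a, Ax (b + b')⁆ = δ a b * δ a b' *
          (vA a b * ((Ax b * vA a b' * (Ax b)⁻¹) * (Ax b * (Ax b' * ⁅Ax a, y⁆ * (Ax b')⁻¹) * (Ax b)⁻¹))) := by
        rw [commutator_congr τ hc (a' := Ax a) rfl hy']
        have e1 : ⁅Ax a, Ax b * Ax b' * y⁆ = ⁅Ax a, Ax b⁆ * (Ax b * ⁅Ax a, Ax b'⁆ * (Ax b)⁻¹) *
            (Ax b * (Ax b' * ⁅Ax a, y⁆ * (Ax b')⁻¹) * (Ax b)⁻¹) := by
          simp only [commutatorElement_def]; group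
        rw [e1, dec, dec]
        have c1 := cen _ (hkd a b')
        calc δ a b * vA a b * (Ax b * (δ a b' * vA a b') * (Ax b)⁻¹) *
            (Ax b * (Ax b' * ⁅Ax a, y⁆ * (Ax b')⁻¹) * (Ax b)⁻¹)
            = δ a b * ((vA a b * Ax b) * δ a b') * (vA a b' * (Ax b)⁻¹ *
              (Ax b * (Ax b' * ⁅Ax a, y⁆ * (Ax b')⁻¹) * (Ax b)⁻¹)) := by group
          _ = _ := by rw [(c1 (vA a b * Ax b)).eq]; group
      rw [dec] at e
      exact uniq _ _ (hkd _ _) (mul_mem (hkd _ _) (hkd _ _)) _ (hvA _ _) _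
        (mul_mem (hvA _ _) (mul_mem (hAV _ _ (hvA _ _)) (hAV _ _ (hAV _ _ (hVA a y hy))))) e
    · intro c hc' a b
      obtain ⟨t, ht1, -⟩ := exists_param A hc'
      have hWV : ∀ y ∈ V, W t * y * (W t)⁻¹ ∈ V := by
        rintro _ ⟨u, v, rfl⟩
        rw [show W t * (Bu u * Cv v) * (W t)⁻¹ =
          (W t * Bu u * (W t)⁻¹) * (W t * Cv v * (W t)⁻¹) by group, eB t _ (hW t), eC t _ (hW t)]
        exact memV _ _
      have e : ⁅Ax (c * a), Ax (id c * b)⁆ = δ a b * (W t * vA a b * (W t)⁻¹) := by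
        rw [id, show c * a = wx t * a by rw [hwx]; simp only [ht1],
          show c * b = wx t * b by rw [hwx]; simp only [ht1], ← eA t _ (hW t), ← eA t _ (hW t),
          ← conjc, dec, ← mul_assoc (W t), (cen _ (hkd a b) (W t)).eq]
        group
      rw [dec] at e
      exact uniq _ _ (hkd _ _) (hkd _ _) _ (hvA _ _) _ (hWV _ (hvA _ _)) e
  -- conclusion
  set H := ((chevG2.posUnipotent K ⊓ G1 K m).subgroupOf (twistedG2 K (3 ^ m))).comap τ
  have hdec : ∀ y ∈ H, ∃ a, ∃ v ∈ V, ∃ w ∈ τ.ker, y = Ax a * v * w := by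
    intro y hy
    obtain ⟨a, b, c, h⟩ := (pos_iff A _).1 (show ((τ y : GG) : GL chevG2.Idx K) ∈
      chevG2.posUnipotent K ⊓ G1 K m from hy)
    have h' : τ y = gW A a b c := Subtype.ext h
    obtain ⟨p, r, hp⟩ := qA a
    refine ⟨a, _, memV (b - p) (c - r), (Ax a * (Bu (b - p) * Cv (c - r)))⁻¹ * y, ?_, by group⟩
    rw [MonoidHom.mem_ker, map_mul, map_inv, inv_mul_eq_one, h', map_mul, map_mul, hp, qB, qC,
      gW_mul, gW_mul]
    congr 1 <;> simp [th_zero]
  have hle : ⁅H, H⁆ ≤ V := by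
    rw [Subgroup.commutator_le]
    intro y hy y' hy'
    obtain ⟨a, v, hv, w, hw, rfl⟩ := hdec y hy
    obtain ⟨a', v', hv', w', hw', rfl⟩ := hdec y' hy'
    rw [commutator_congr τ hc (a' := Ax a * v) (b' := Ax a' * v')
      (by rw [map_mul, MonoidHom.mem_ker.1 hw, mul_one])
      (by rw [map_mul, MonoidHom.mem_ker.1 hw', mul_one])]
    have e : ⁅Ax a * v, Ax a' * v'⁆ =
        (Ax a * (⁅v, Ax a'⁆ * (Ax a' * ⁅v, v'⁆ * (Ax a')⁻¹)) * (Ax a)⁻¹) *
          (⁅Ax a, Ax a'⁆ * (Ax a' * ⁅Ax a, v'⁆ * (Ax a')⁻¹)) := by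
      simp only [commutatorElement_def]; group
    rw [e]
    refine mul_mem (hAV _ _ (mul_mem ?_ (hAV _ _ ?_))) (mul_mem ?_ (hAV _ _ (hVA _ _ hv')))
    · rw [← commutatorElement_inv]; exact inv_mem (hVA a' v hv)
    · rw [commutatorElement_def]
      exact mul_mem (mul_mem (mul_mem hv hv') (inv_mem hv)) (inv_mem hv')
    · rw [dec, hδ0, one_mul]; exact hvA a a'
  exact hVker z (hle hz') hz

/-- The prime two. -/
theorem eq_one_two (hm : 1 ≤ m) {Δ : Type*} [Group Δ] [Finite Δ] (τ : Δ →* GG)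
    (hs : Function.Surjective τ) (hc : τ.ker ≤ Subgroup.center Δ) {z : Δ} (hz : z ∈ τ.ker)
    (hz' : z ∈ commutator Δ) (hzp : z ^ 2 = 1) : z = 1 := by
  classical
  obtain ⟨T, hT, hN, hconj⟩ := Cfsg.Agent.Lib.RankOne.Ree.SylowTwo.main A hm
  have hab : ∀ a ∈ (T : Subgroup GG), ∀ b ∈ (T : Subgroup GG), a * b = b * a := fun a ha b hb =>
    (Subgroup.mem_centralizer_iff.1 (hT.ge hb) a ha)
  have h168 := hN
  have hT8 : Nat.card ↥(T : Subgroup GG) = 8 := by
    have hle : (T : Subgroup GG) ≤ Subgroup.normalizer ((T : Subgroup GG) : Set GG) :=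
      Subgroup.le_normalizer
    have h1 := Subgroup.card_dvd_of_le hle
    obtain ⟨n, hn⟩ := T.2.exists_card_eq
    rw [hn, h168] at h1
    have hn3 : n ≤ 3 := by
      by_contra h
      exact absurd ((pow_dvd_pow 2 (show 4 ≤ n by omega)).trans h1) (by norm_num)
    have h2 : 8 ∣ Nat.card GG := (Dvd.intro 21 rfl : 8 ∣ 168).trans (h168 ▸ Subgroup.card_subgroup_dvd_card _)
    haveI : Fact (Nat.Prime 2) := ⟨Nat.prime_two⟩
    have h3 : 8 ∣ Nat.card ↥(T : Subgroup GG) := by
      have := T.pow_dvd_card_of_pow_dvd_card (n := 3) h2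
      exact this
    rw [hn] at h3 ⊢
    have : 3 ≤ n := (Nat.pow_dvd_pow_iff_le_right (by norm_num : 1 < 2)).1 h3
    rw [show n = 3 by omega]
    norm_num
  haveI : Fact (Nat.Prime 7) := ⟨by norm_num⟩
  haveI : Fact (Nat.Prime 2) := ⟨Nat.prime_two⟩
  obtain ⟨⟨s, hsN⟩, hs7⟩ := exists_prime_orderOf_dvd_card'
    (G := ↥(Subgroup.normalizer ((T : Subgroup GG) : Set GG))) 7 (by rw [h168]; norm_num)
  have hs7' : orderOf s = 7 := by rw [← hs7]; exact (Subgroup.orderOf_mk s hsN).symm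
  let f : ↥(T : Subgroup GG) → ↥(T : Subgroup GG) := fun a =>
    ⟨s * a * s⁻¹, (Subgroup.mem_normalizer_iff.1 hsN a.1).1 a.2⟩
  have fit : ∀ j (a : ↥(T : Subgroup GG)), ((f^[j] a : ↥(T : Subgroup GG)) : GG) =
      s ^ j * a * (s ^ j)⁻¹ := by
    intro j a
    induction j with
    | zero => simp
    | succ j ih =>
      rw [Function.iterate_succ_apply']
      show s * ((f^[j] a : ↥(T : Subgroup GG)) : GG) * s⁻¹ = _
      rw [ih, pow_succ', mul_inv_rev]; simp only [mul_assoc]
  have f7 : ∀ a, f^[7] a = a := fun a => Subtype.ext (by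
    rw [fit, ← hs7', pow_orderOf_eq_one]; simp)
  have hexp : ∀ a : ↥(T : Subgroup GG), a * a = 1 := by
    intro a
    by_contra hne
    -- an involution is conjugate to every non-trivial element
    obtain ⟨⟨i, hiT⟩, hi2⟩ := exists_prime_orderOf_dvd_card' (G := ↥(T : Subgroup GG)) 2
      (by rw [hT8]; norm_num)
    rw [← Subgroup.orderOf_coe] at hi2
    have hi1 : i ≠ 1 := fun e => by subst e; simp at hi2
    have ha1 : (a : GG) ≠ 1 := fun e => hne (Subtype.ext (by simp [e]))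
    obtain ⟨g, hg⟩ := hconj i hiT hi1 a a.2 ha1
    refine hne (Subtype.ext ?_)
    show (a : GG) * a = 1
    rw [← hg, ← pow_two, conj_pow, ← hi2, pow_orderOf_eq_one, mul_one, mul_inv_cancel]
  have hfix : ∀ a : ↥(T : Subgroup GG), a ≠ 1 → ∀ l, 0 < l → l < 7 → f^[l] a ≠ a := by
    intro a ha l hl0 hl e
    -- then the element of order seven centralises the subgroup
    have hsa : Commute s (a : GG) := by
      have h1 : Commute (s ^ l) (a : GG) := by
        have := congrArg Subtype.val e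
        rw [fit] at this
        exact mul_inv_eq_iff_eq_mul.1 this
      obtain ⟨k, hk⟩ := exists_pow_eq_self_of_coprime (x := s) (n := l) (by
        rw [hs7']
        exact ((Nat.Prime.coprime_iff_not_dvd (by norm_num)).2 fun h =>
          absurd (Nat.le_of_dvd hl0 h) (by omega)).symm)
      have := h1.pow_left k
      rwa [hk] at this
    have hinj : ∀ x y, f x = f y → x = y := fun x y h => Subtype.ext
      (mul_left_cancel (mul_right_cancel (congrArg Subtype.val h)))
    have hall : ∀ b : ↥(T : Subgroup GG), f b = b := by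
      by_contra hne
      push Not at hne
      obtain ⟨b, hb⟩ := hne
      have hb' : ∀ j, 0 < j → j < 7 → f^[j] b ≠ b := by
        intro j hj0 hj e
        have h1 : Commute (s ^ j) (b : GG) := by
          have := congrArg Subtype.val e
          rw [fit] at this
          exact mul_inv_eq_iff_eq_mul.1 this
        obtain ⟨k, hk⟩ := exists_pow_eq_self_of_coprime (x := s) (n := j) (by
          rw [hs7']
          exact ((Nat.Prime.coprime_iff_not_dvd (by norm_num)).2 fun h =>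
            absurd (Nat.le_of_dvd hj0 h) (by omega)).symm)
        have := h1.pow_left k
        rw [hk] at this
        exact hb (Subtype.ext (mul_inv_eq_iff_eq_mul.2 this.eq))
      have fone : f 1 = 1 := Subtype.ext (by show s * 1 * s⁻¹ = 1; simp)
      have hfa : f a = a := Subtype.ext (mul_inv_eq_iff_eq_mul.2 hsa.eq)
      have hinjO : Function.Injective (fun j : Fin 7 => f^[j.1] b) := by
        intro i j h
        dsimp only at h
        by_contra hne
        rcases lt_or_gt_of_ne (fun e => hne (Fin.ext e)) with hlt | hlt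
        · refine hb' (j.1 - i.1) (by omega) (by omega) ((Function.Injective.iterate hinj i.1) ?_)
          rw [← Function.iterate_add_apply, show i.1 + (j.1 - i.1) = j.1 by omega, ← h]
        · refine hb' (i.1 - j.1) (by omega) (by omega) ((Function.Injective.iterate hinj j.1) ?_)
          rw [← Function.iterate_add_apply, show j.1 + (i.1 - j.1) = i.1 by omega, h]
      have hcard : Fintype.card (Fin 7 ⊕ Fin 2) ≤ Fintype.card ↥(T : Subgroup GG) := by
        refine Fintype.card_le_of_injective (Sum.elim (fun j : Fin 7 => f^[j.1] b) ![1, a]) ?_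
        refine hinjO.sumElim ?_ ?_
        · intro i j; fin_cases i <;> fin_cases j <;> simp [ha, Ne.symm ha]
        · intro i j h
          have hb0 : f b ≠ b := hb' 1 one_pos (by norm_num)
          fin_cases j
          · exact hb (by
              have h1 : f (f^[i.1] b) = f^[i.1] b := by rw [show f^[i.1] b = 1 from h, fone]
              rw [← Function.iterate_succ_apply' f, Function.iterate_succ_apply] at h1
              exact Function.Injective.iterate hinj i.1 h1)
          · exact hb (by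
              have h1 : f (f^[i.1] b) = f^[i.1] b := by rw [show f^[i.1] b = a from h, hfa]
              rw [← Function.iterate_succ_apply' f, Function.iterate_succ_apply] at h1
              exact Function.Injective.iterate hinj i.1 h1)
      rw [← Nat.card_eq_fintype_card (α := ↥(T : Subgroup GG)), hT8] at hcard
      simp at hcard
    have hsT : s ∈ (T : Subgroup GG) := hT ▸ Subgroup.mem_centralizer_iff.2 fun b hb =>
      (mul_inv_eq_iff_eq_mul.1 (congrArg Subtype.val (hall ⟨b, hb⟩))).symm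
    have := Subgroup.orderOf_dvd_natCard _ hsT
    rw [hs7', hT8] at this
    norm_num at this
  -- the commutators of the preimage
  choose sec hsec using hs
  set c : ↥(T : Subgroup GG) → ↥(T : Subgroup GG) → Δ := fun a b => ⁅sec a.1, sec b.1⁆ with hcdef
  have hk : ∀ a b, c a b ∈ τ.ker := fun a b => by
    rw [MonoidHom.mem_ker, hcdef, map_commutatorElement, hsec, hsec]
    exact commutatorElement_eq_one_iff_mul_comm.2 (hab _ a.2 _ b.2)
  have cen : ∀ x, x ∈ τ.ker → ∀ g, Commute g x := fun x hx g =>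
    Subgroup.mem_center_iff.1 (hc hx) g
  have hl : ∀ a a' b, c (a * a') b = c a b * c a' b := fun a a' b => by
    show ⁅sec (a * a').1, sec b.1⁆ = _
    rw [commutator_congr τ hc (a' := sec a.1 * sec a'.1) (b' := sec b.1)
      (by rw [map_mul, hsec, hsec, hsec]; rfl) rfl]
    exact commutator_mul_left (cen _ (hk _ _) _) (cen _ (hk _ _) _)
  have hr : ∀ a b b', c a (b * b') = c a b * c a b' := fun a b b' => by
    show ⁅sec a.1, sec (b * b').1⁆ = _
    rw [commutator_congr τ hc (a' := sec a.1) (b' := sec b.1 * sec b'.1) rfl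
      (by rw [map_mul, hsec, hsec, hsec]; rfl)]
    exact commutator_mul_right (cen _ (hk _ _) _)
  have hsym : ∀ a b, c a b = c b a := fun a b => by
    have h1 : c a 1 = 1 := mul_eq_left.1 (show c a 1 * c a 1 = c a 1 by rw [← hr, mul_one])
    have h2 : c a b * c a b = 1 := by rw [← hr, hexp, h1]
    show c a b = ⁅sec b.1, sec a.1⁆
    rw [← commutatorElement_inv]
    exact eq_inv_of_mul_eq_one_left h2
  have hinv : ∀ a b, c (f a) (f b) = c a b := fun a b => by
    show ⁅sec (f a).1, sec (f b).1⁆ = _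
    rw [commutator_congr τ hc (a' := sec s * sec a.1 * (sec s)⁻¹) (b' := sec s * sec b.1 * (sec s)⁻¹)
      (by rw [map_mul, map_mul, map_inv, hsec, hsec, hsec])
      (by rw [map_mul, map_mul, map_inv, hsec, hsec, hsec]),
      show ⁅sec s * sec a.1 * (sec s)⁻¹, sec s * sec b.1 * (sec s)⁻¹⁆ = sec s * c a b * (sec s)⁻¹ by
        simp only [hcdef, commutatorElement_def]; group, (cen _ (hk a b) _).eq, mul_inv_cancel_right]
  have hcomm : ∀ a b : ↥(T : Subgroup GG), a * b = b * a := fun a b => Subtype.ext (hab _ a.2 _ b.2)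
  have hfm : ∀ a b, f (a * b) = f a * f b := fun a b => Subtype.ext (by
    show s * (a.1 * b.1) * s⁻¹ = s * a.1 * s⁻¹ * (s * b.1 * s⁻¹); group)
  have horbit : ∀ a b : ↥(T : Subgroup GG), a ≠ 1 → b ≠ 1 → ∃ j, j < 7 ∧ f^[j] a = b := by
    intro a b ha hb
    have hne1 : ∀ j, f^[j] a ≠ 1 := fun j e => ha (Subtype.ext (by
      have := congrArg Subtype.val e
      rw [fit] at this
      exact conj_eq_one_iff.1 this))
    have hinj : Function.Injective (fun j : Fin 7 => f^[j.1] a) := by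
      intro i j h
      dsimp only at h
      by_contra hne
      have hcast := congrArg Subtype.val h
      rw [fit, fit] at hcast
      rcases lt_or_gt_of_ne (fun e => hne (Fin.ext e)) with hlt | hlt
      · refine hfix a ha (j.1 - i.1) (by omega) (by omega) (Subtype.ext ?_)
        rw [fit]
        have hp : s ^ j.1 = s ^ i.1 * s ^ (j.1 - i.1) := by rw [← pow_add]; congr 1; omega
        rw [hp, mul_inv_rev] at hcast
        exact mul_left_cancel (mul_right_cancel (by simpa only [mul_assoc] using hcast.symm :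
          s ^ i.1 * (s ^ (j.1 - i.1) * a.1 * (s ^ (j.1 - i.1))⁻¹) * (s ^ i.1)⁻¹ = _))
      · refine hfix a ha (i.1 - j.1) (by omega) (by omega) (Subtype.ext ?_)
        rw [fit]
        have hp : s ^ i.1 = s ^ j.1 * s ^ (i.1 - j.1) := by rw [← pow_add]; congr 1; omega
        rw [hp, mul_inv_rev] at hcast
        exact mul_left_cancel (mul_right_cancel (by simpa only [mul_assoc] using hcast :
          s ^ j.1 * (s ^ (i.1 - j.1) * a.1 * (s ^ (i.1 - j.1))⁻¹) * (s ^ j.1)⁻¹ = _))
    by_contra hno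
    push Not at hno
    have hcard : Fintype.card (Fin 7 ⊕ Fin 2) ≤ Fintype.card ↥(T : Subgroup GG) := by
      refine Fintype.card_le_of_injective (Sum.elim (fun j : Fin 7 => f^[j.1] a) ![1, b]) ?_
      refine hinj.sumElim ?_ ?_
      · intro i j; fin_cases i <;> fin_cases j <;> simp [hb, Ne.symm hb]
      · intro i j h
        fin_cases j
        · exact hne1 _ h
        · exact hno i.1 i.2 h
    rw [← Nat.card_eq_fintype_card (α := ↥(T : Subgroup GG)), hT8] at hcard
    simp at hcard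
  have fit' : ∀ j a, (fun y => f^[j] y)^[7] a = a := fun j a => by
    rw [show (fun y => f^[j] y) = f^[j] from rfl, ← Function.iterate_mul, Nat.mul_comm,
      Function.iterate_mul]
    exact Function.iterate_fixed (f7 a) j
  have hzero : ∀ a b, c a b = 1 := by
    intro a b
    have hone : ∀ a : ↥(T : Subgroup GG), c a a = 1 := fun a => commutatorElement_self _
    rcases eq_or_ne a 1 with rfl | ha
    · exact mul_eq_left.1 (show c 1 b * c 1 b = c 1 b by rw [← hl, mul_one])
    rcases eq_or_ne b 1 with rfl | hb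
    · exact mul_eq_left.1 (show c a 1 * c a 1 = c a 1 by rw [← hr, mul_one])
    obtain ⟨j, hj, hjb⟩ := horbit a b ha hb
    rcases Nat.eq_zero_or_pos j with rfl | hj0
    · rw [← hjb]; exact hone a
    set F := fun y => f^[j] y with hF
    have hFm : ∀ n, ∀ x y, f^[n] (x * y) = f^[n] x * f^[n] y := fun n => by
      induction n with
      | zero => intro x y; rfl
      | succ n ih => intro x y; rw [Function.iterate_succ_apply', ih, hfm, ← Function.iterate_succ_apply' f, ← Function.iterate_succ_apply' f]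
    have hFi : ∀ n x y, c (f^[n] x) (f^[n] y) = c x y := fun n => by
      induction n with
      | zero => intro x y; rfl
      | succ n ih => intro x y; rw [Function.iterate_succ_apply', Function.iterate_succ_apply', hinv, ih]
    have hFf : ∀ l, F^[l] a = f^[j * l] a := fun l => by rw [Function.iterate_mul]
    obtain ⟨l, hl7, hl'⟩ : ∃ l, l < 7 ∧ F^[l] a = a * F a := by
      have hne : a * F a ≠ 1 := fun e => by
        have hh := (mul_eq_one_iff_eq_inv.1 e).trans (inv_eq_of_mul_eq_one_right (hexp (F a)))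
        exact hfix a ha j hj0 hj hh.symm
      obtain ⟨i, hi, hia⟩ := horbit a (a * F a) ha hne
      obtain ⟨l, hl7, hl⟩ : ∃ l, l < 7 ∧ (j * l) % 7 = i := by
        exact (by decide +kernel : ∀ j < 7, 0 < j → ∀ i < 7, ∃ l, l < 7 ∧ (j * l) % 7 = i) j hj hj0 i hi
      refine ⟨l, hl7, ?_⟩
      rw [hFf, ← hia, ← Nat.div_add_mod (j * l) 7, hl, Nat.add_comm, Function.iterate_add_apply,
        Function.iterate_mul]
      exact congrArg _ (Function.iterate_fixed (f7 a) _)
    rw [← hjb]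
    refine eq_one_of_seven rfl c F hl hr hone hsym (hFm j) (hFi j) (fit' j) hexp hcomm ?_ hl7 hl'.symm
    intro l hl0 hl e
    rw [hFf] at e
    have hmod : (j * l) % 7 ≠ 0 := fun h => by
      rcases (Nat.Prime.dvd_mul (by norm_num)).1 (Nat.dvd_of_mod_eq_zero h) with h | h <;>
        have := Nat.le_of_dvd (by omega) h <;> omega
    refine hfix a ha ((j * l) % 7) (by omega) (Nat.mod_lt _ (by norm_num)) ?_
    rw [← Nat.div_add_mod (j * l) 7, Nat.add_comm, Function.iterate_add_apply,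
      Function.iterate_mul, Function.iterate_fixed (f7 a)] at e
    exact e
  have hzH := mem_commutator_comap τ (fun y => ⟨sec y, hsec y⟩) hc hz hz' hzp (S := (T : Subgroup GG))
    (Nat.prime_two.coprime_iff_not_dvd.2 T.not_dvd_index)
  have hbot : ⁅(T : Subgroup GG).comap τ, (T : Subgroup GG).comap τ⁆ ≤ ⊥ := by
    rw [Subgroup.commutator_le]
    intro x hx y hy
    rw [Subgroup.mem_bot, commutator_congr τ hc (a' := sec (τ x)) (b' := sec (τ y)) (hsec _).symm
      (hsec _).symm]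
    exact hzero ⟨τ x, hx⟩ ⟨τ y, hy⟩
  exact Subgroup.mem_bot.1 (hbot hzH)

/-- The small Ree groups have trivial multiplier. -/
theorem multiplier_one (hm : 1 ≤ m) : Cfsg.HasCyclicSchurMultiplier GG 1 := by
  classical
  refine hasCyclicSchurMultiplier_one_of_primes (MulEquiv.refl _)
    (Nat.primeFactorsList (Nat.card GG))
    (fun p hp hd => (Nat.mem_primeFactorsList Nat.card_pos.ne').2 ⟨hp, hd⟩) ?_
  intro p hp Δ _ _ τ hs hc _ z hz hz' hzp
  haveI : Fact p.Prime := ⟨Nat.prime_of_mem_primeFactorsList hp⟩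
  have hpp : p.Prime := Fact.out
  rcases (show p = 2 ∨ p = 3 ∨ 3 < p by have := hpp.two_le; omega) with rfl | rfl | hp3
  · exact eq_one_two A hm τ hs hc hz hz' hzp
  · refine eq_one_three A hm τ hs hc hz (mem_commutator_comap τ hs hc hz hz' hzp ?_)
    refine hpp.coprime_iff_not_dvd.2 fun hd => ?_
    set S := (chevG2.posUnipotent K ⊓ G1 K m).subgroupOf (twistedG2 K (3 ^ m))
    have h := S.card_mul_index
    have hcS : Nat.card ↥S = (3 ^ (2 * m + 1)) ^ 3 := by
      rw [← Cfsg.Agent.Lib.RankOne.Ree.card_U A]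
      exact Nat.card_congr (Subgroup.subgroupOfEquivOfLe inf_le_right).toEquiv
    rw [hcS, G2.card_group A, mul_assoc] at h
    have hi := mul_left_cancel₀ (by positivity) h
    rw [hi] at hd
    have h3 : 3 ∣ 3 ^ (2 * m + 1) := dvd_pow_self 3 (by omega)
    have h3' : 3 ∣ (3 ^ (2 * m + 1)) ^ 3 := dvd_pow h3 (by norm_num)
    have h1 : 1 ≤ 3 ^ (2 * m + 1) := Nat.one_le_pow _ _ (by norm_num)
    rcases hpp.dvd_mul.1 hd with hd | hd <;> omega
  · obtain ⟨P⟩ : Nonempty (Sylow p GG) := inferInstance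
    haveI := Cfsg.Agent.S1156.result hm A.hK hp3 P
    obtain ⟨g, hg⟩ := IsCyclic.exists_generator (α := ↥(P : Subgroup GG))
    refine eq_one_of_cyclic τ hs hc hz hz' hzp (x := (g : GG)) ?_
    have : Subgroup.zpowers (g : GG) = (P : Subgroup GG) := by
      refine le_antisymm (Subgroup.zpowers_le.2 g.2) fun x hx => ?_
      obtain ⟨k, hk⟩ := Subgroup.mem_zpowers_iff.1 (hg ⟨x, hx⟩)
      exact Subgroup.mem_zpowers_iff.2 ⟨k, congrArg Subtype.val hk⟩
    rw [this]
    exact hpp.coprime_iff_not_dvd.2 P.not_dvd_index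

end Cfsg.Agent.Lib.Compute.ReeM
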