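import Cfsg.Agent.Lib.KnownA.GL2
import Mathlib

/-!
# Cyclic tori and quaternion subgroups of SL(2, q)
-/

set_option autoImplicit false

namespace Cfsg.Agent.Lib.Compute.SL2

open Matrix Polynomial

universe u

variable {F : Type u} [Field F] [Fintype F]

/-- The matrix of an element of `SL₂`. -/
def toMat : Matrix.SpecialLinearGroup (Fin 2) F →* Matrix (Fin 2) (Fin 2) F where
  toFun m := (m : Matrix (Fin 2) (Fin 2) F)
  map_one' := rfl
  map_mul' _ _ := rfl

omit [Fintype F] in
theorem toMat_injective : Function.Injective (toMat (F := F)) := Subtype.val_injective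

omit [Fintype F] in
theorem toMat_apply (m : Matrix.SpecialLinearGroup (Fin 2) F) :
    toMat m = (m : Matrix (Fin 2) (Fin 2) F) := rfl

omit [Fintype F] in
theorem toMat_inv (m : Matrix.SpecialLinearGroup (Fin 2) F) :
    toMat m⁻¹ = Matrix.adjugate (m : Matrix (Fin 2) (Fin 2) F) :=
  Matrix.SpecialLinearGroup.coe_inv m

/-- The diagonal torus. -/
def dia : Fˣ →* Matrix.SpecialLinearGroup (Fin 2) F where
  toFun a := ⟨!![(a : F), 0; 0, (↑a⁻¹ : F)], by simp [Matrix.det_fin_two]⟩
  map_one' := by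
    apply Subtype.ext
    simp [Matrix.one_fin_two]
  map_mul' a b := by
    apply Subtype.ext
    show _ = !![(a : F), 0; 0, (↑a⁻¹ : F)] * !![(b : F), 0; 0, (↑b⁻¹ : F)]
    simp [mul_comm (a : F)⁻¹]

omit [Fintype F] in
theorem dia_coe (a : Fˣ) :
    (dia a : Matrix (Fin 2) (Fin 2) F) = !![(a : F), 0; 0, (↑a⁻¹ : F)] := rfl

omit [Fintype F] in
theorem dia_injective : Function.Injective (dia (F := F)) := fun a b h => Units.ext <| by
  have := congrArg (fun g : Matrix.SpecialLinearGroup (Fin 2) F => (g : Matrix (Fin 2) (Fin 2) F) 0 0) h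
  simpa [dia_coe] using this

theorem exists_split : ∃ x : Matrix.SpecialLinearGroup (Fin 2) F,
    orderOf x = Fintype.card F - 1 ∧ (x : Matrix (Fin 2) (Fin 2) F) 1 0 = 0 ∧
      (x : Matrix (Fin 2) (Fin 2) F) 0 1 = 0 := by
  classical
  obtain ⟨a, ha⟩ := IsCyclic.exists_ofOrder_eq_natCard (α := Fˣ)
  refine ⟨dia a, ?_, by simp [dia_coe], by simp [dia_coe]⟩
  rw [orderOf_injective dia dia_injective, ha, Nat.card_units, Nat.card_eq_fintype_card]

theorem exists_nonsplit : ∃ x : Matrix.SpecialLinearGroup (Fin 2) F,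
    orderOf x = Fintype.card F + 1 := by
  classical
  obtain ⟨p, hp⟩ := CharP.exists F
  haveI : Fact p.Prime := ⟨CharP.char_is_prime F p⟩
  let K := FiniteField.Extension F p 2
  let _ : Fintype K := Fintype.ofFinite K
  have hfr : Module.finrank F K = 2 := FiniteField.finrank_extension F p 2
  let b : Module.Basis (Fin 2) F K := (Module.finBasis F K).reindex (finCongr hfr)
  let μ : K →ₐ[F] Matrix (Fin 2) (Fin 2) F := Algebra.leftMulMatrix b
  have hdet : ∀ x, (μ x).det = Algebra.norm F x := fun x => (Algebra.norm_eq_matrix_det b x).symm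
  obtain ⟨β, hβ⟩ := IsCyclic.exists_ofOrder_eq_natCard (α := Kˣ)
  set q := Fintype.card F with hq
  have hq2 : 2 ≤ q := Fintype.one_lt_card
  have hK : Nat.card Kˣ = (q + 1) * (q - 1) := by
    rw [Nat.card_units, FiniteField.natCard_extension, Nat.card_eq_fintype_card, ← hq]
    have := Nat.sq_sub_sq q 1
    simpa using this
  have hn : Algebra.norm F ((β ^ (q - 1) : Kˣ) : K) = 1 := by
    rw [Units.val_pow_eq_pow_val, map_pow]
    refine FiniteField.pow_card_sub_one_eq_one _ ?_
    exact Algebra.norm_ne_zero_iff.mpr (Units.ne_zero β)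
  let x : Matrix.SpecialLinearGroup (Fin 2) F :=
    ⟨μ ((β ^ (q - 1) : Kˣ) : K), by rw [hdet, hn]⟩
  refine ⟨x, ?_⟩
  have hord : orderOf (β ^ (q - 1)) = q + 1 := by
    rw [orderOf_pow' _ (by omega), hβ, hK, Nat.gcd_eq_right (Dvd.intro_left _ rfl),
      Nat.mul_div_cancel _ (by omega)]
  rw [← hord, ← orderOf_units]
  let f : K →* Matrix (Fin 2) (Fin 2) F := μ.toRingHom.toMonoidHom
  let g : Matrix.SpecialLinearGroup (Fin 2) F →* Matrix (Fin 2) (Fin 2) F :=
    { toFun := fun m => (m : Matrix (Fin 2) (Fin 2) F), map_one' := rfl, map_mul' := fun _ _ => rfl }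
  rw [← orderOf_injective g Subtype.val_injective x]
  exact orderOf_injective f μ.toRingHom.injective _

theorem not_upper_of_order {x : Matrix.SpecialLinearGroup (Fin 2) F}
    (hx : ¬ orderOf x ∣ Fintype.card F - 1)
    (htr : ((x : Matrix (Fin 2) (Fin 2) F) 0 0 + (x : Matrix (Fin 2) (Fin 2) F) 1 1) ^ 2 ≠ 4) :
    (x : Matrix (Fin 2) (Fin 2) F) 1 0 ≠ 0 := by
  classical
  intro h
  apply hx
  set M := (x : Matrix (Fin 2) (Fin 2) F) with hM
  have hdet : M 0 0 * M 1 1 = 1 := by
    have := x.det_coe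
    rw [Matrix.det_fin_two, ← hM, h] at this
    simpa using this
  have hne : M 0 0 ≠ M 1 1 := fun e => htr (by rw [← e] at hdet ⊢; linear_combination 4 * hdet)
  obtain ⟨g, hg⟩ : (X - C (M 0 0)) * (X - C (M 1 1)) ∣ (X ^ Fintype.card F - X : F[X]) := by
    refine (isCoprime_X_sub_C_of_isUnit_sub (sub_ne_zero.mpr hne).isUnit).mul_dvd ?_ ?_ <;>
      · rw [dvd_iff_isRoot]
        simp [FiniteField.pow_card]
  have h0 : (aeval M) ((X - C (M 0 0)) * (X - C (M 1 1))) = 0 := by
    simp only [map_mul, map_sub, aeval_X, aeval_C, Algebra.algebraMap_eq_smul_one]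
    ext i j
    fin_cases i <;> fin_cases j <;> simp [Matrix.mul_apply, Fin.sum_univ_two, h]
  have hpow : M ^ Fintype.card F = M := by
    have := congrArg (aeval M) hg
    rw [map_mul, h0, zero_mul, map_sub, map_pow, aeval_X, sub_eq_zero] at this
    exact this
  refine orderOf_dvd_of_pow_eq_one ?_
  have hxx : x ^ Fintype.card F = x := toMat_injective (by rw [map_pow]; exact hpow)
  have hq : Fintype.card F = (Fintype.card F - 1) + 1 := by have := Fintype.card_pos (α := F); omega
  rw [hq, pow_succ] at hxx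
  exact mul_eq_right.mp hxx

/-- An element of trace zero inverting a given semisimple element by conjugation. -/
theorem exists_inverting (h2 : (2 : F) ≠ 0) {x : Matrix.SpecialLinearGroup (Fin 2) F}
    (htr : ((x : Matrix (Fin 2) (Fin 2) F) 0 0 + (x : Matrix (Fin 2) (Fin 2) F) 1 1) ^ 2 ≠ 4)
    (hshape : (x : Matrix (Fin 2) (Fin 2) F) 1 0 ≠ 0 ∨
      ((x : Matrix (Fin 2) (Fin 2) F) 1 0 = 0 ∧ (x : Matrix (Fin 2) (Fin 2) F) 0 1 = 0)) :
    ∃ y : Matrix.SpecialLinearGroup (Fin 2) F, y * x * y⁻¹ = x⁻¹ ∧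
      ((y ^ 2 : Matrix.SpecialLinearGroup (Fin 2) F) : Matrix (Fin 2) (Fin 2) F) = -1 := by
  classical
  set M := (x : Matrix (Fin 2) (Fin 2) F) with hM
  have hdet : M 0 0 * M 1 1 - M 0 1 * M 1 0 = 1 := by
    have := x.det_coe
    rw [Matrix.det_fin_two, ← hM] at this
    exact this
  obtain ⟨a, b, c, hlin, hy⟩ : ∃ a b c : F,
      a * (M 0 0 - M 1 1) + b * M 1 0 + c * M 0 1 = 0 ∧ -(a * a) - b * c = 1 := by
    rcases hshape with ht | ⟨h10, h01⟩
    · set k := (M 0 0 - M 1 1) / M 1 0 with hk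
      set l := k ^ 2 / 4 + M 0 1 / M 1 0 with hl
      have e4 : (4 : F) ≠ 0 := by
        rw [show (4 : F) = 2 * 2 by norm_num]; exact mul_ne_zero h2 h2
      have hl0 : l ≠ 0 := by
        intro e
        apply htr
        have h' : (M 0 0 - M 1 1) ^ 2 + 4 * (M 0 1 * M 1 0) = 0 := by
          have h'' : l * (4 * M 1 0 ^ 2) = (M 0 0 - M 1 1) ^ 2 + 4 * (M 0 1 * M 1 0) := by
            rw [hl, hk]; field_simp
          rw [← h'', e, zero_mul]
        linear_combination h' + 4 * hdet
      obtain ⟨u, c, huc⟩ : ∃ u c : F, eval u (-X ^ 2 - C 1 : F[X]) + eval c (C l * X ^ 2) = 0 := by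
        have hodd : Fintype.card F % 2 = 1 := by
          refine FiniteField.odd_card_of_char_ne_two fun e => h2 ?_
          haveI : CharP F 2 := e ▸ ringChar.charP F
          exact_mod_cast CharP.cast_eq_zero F 2
        refine FiniteField.exists_root_sum_quadratic ?_ ?_ hodd
        · rw [degree_sub_eq_left_of_degree_lt] <;> simp [degree_C]
        · simp [degree_C_mul_X_pow _ hl0]
      simp only [eval_sub, eval_neg, eval_pow, eval_X, eval_C, eval_mul] at huc
      refine ⟨u + k * c / 2, -((u + k * c / 2) * (M 0 0 - M 1 1) + c * M 0 1) / M 1 0, c, ?_, ?_⟩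
      · field_simp
        ring
      · have h' : -((u + k * c / 2) * (u + k * c / 2))
            - -((u + k * c / 2) * (M 0 0 - M 1 1) + c * M 0 1) / M 1 0 * c
            = -u ^ 2 + l * c ^ 2 := by
          rw [hl, hk]
          field_simp
          ring
        rw [h']
        linear_combination huc
    · exact ⟨0, 1, -1, by rw [h10, h01]; ring, by ring⟩
  let y : Matrix.SpecialLinearGroup (Fin 2) F :=
    ⟨!![a, b; c, -a], by rw [Matrix.det_fin_two_of]; linear_combination hy⟩
  have hyx : y * x = x⁻¹ * y := by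
    apply toMat_injective
    rw [map_mul, map_mul, toMat_inv, toMat_apply, toMat_apply,
      Matrix.adjugate_fin_two, ← hM]
    ext i j
    fin_cases i <;> fin_cases j <;> simp [y, Matrix.mul_apply, Fin.sum_univ_two]
    · linear_combination hlin
    · ring
    · ring
    · linear_combination hlin
  refine ⟨y, by rw [hyx, mul_inv_cancel_right], ?_⟩
  rw [← toMat_apply, sq, map_mul, toMat_apply]
  ext i j
  fin_cases i <;> fin_cases j <;> simp [y, Matrix.mul_apply, Fin.sum_univ_two] <;>
    first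
      | linear_combination -hy
      | ring

theorem trace_sq_ne_four {ℓ : ℕ} [CharP F ℓ] [Fact ℓ.Prime]
    {x : Matrix.SpecialLinearGroup (Fin 2) F} (hord : ¬ orderOf x ∣ 2 * ℓ) :
    ((x : Matrix (Fin 2) (Fin 2) F) 0 0 + (x : Matrix (Fin 2) (Fin 2) F) 1 1) ^ 2 ≠ 4 := by
  classical
  intro h
  apply hord
  set M := (x : Matrix (Fin 2) (Fin 2) F) with hM
  set s := M 0 0 + M 1 1 with hs
  have hdet : M 0 0 * M 1 1 - M 0 1 * M 1 0 = 1 := by
    have := x.det_coe
    rw [Matrix.det_fin_two, ← hM] at this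
    exact this
  obtain ⟨ε, hε, hε2⟩ : ∃ ε : F, s = 2 * ε ∧ ε * ε = 1 := by
    have : (s - 2) * (s + 2) = 0 := by linear_combination h
    rcases mul_eq_zero.mp this with e | e
    · exact ⟨1, by linear_combination e, one_mul 1⟩
    · exact ⟨-1, by linear_combination e, by ring⟩
  haveI : CharP (Matrix (Fin 2) (Fin 2) F) ℓ :=
    charP_of_injective_algebraMap (algebraMap F _).injective ℓ
  have hN : (M - ε • (1 : Matrix (Fin 2) (Fin 2) F)) ^ 2 = 0 := by
    rw [sq]
    ext i j
    rw [hs] at hε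
    fin_cases i <;> fin_cases j <;> simp [Matrix.mul_apply, Fin.sum_univ_two]
    · linear_combination (M 0 0) * hε - hdet + hε2
    · linear_combination (M 0 1) * hε
    · linear_combination (M 1 0) * hε
    · linear_combination (M 1 1) * hε - hdet + hε2
  have hp : M ^ ℓ = (ε ^ ℓ) • (1 : Matrix (Fin 2) (Fin 2) F) := by
    have hc : Commute M (ε • (1 : Matrix (Fin 2) (Fin 2) F)) := (Commute.one_right M).smul_right ε
    have h' := sub_pow_char_of_commute (p := ℓ) hc
    rw [pow_eq_zero_of_le (Fact.out : ℓ.Prime).two_le hN, _root_.smul_pow, one_pow] at h'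
    exact sub_eq_zero.mp h'.symm
  refine orderOf_dvd_of_pow_eq_one (toMat_injective ?_)
  rw [map_pow, map_one, toMat_apply, ← hM, mul_comm, pow_mul, hp, _root_.smul_pow, one_pow, ← pow_mul,
    mul_comm, pow_mul, sq, hε2, one_pow, one_smul]

theorem coe_pow_half_eq_neg_one {ℓ : ℕ} [CharP F ℓ] [Fact ℓ.Prime] (hℓ : ℓ ≠ 2)
    {x : Matrix.SpecialLinearGroup (Fin 2) F} (hx : orderOf x = 2) :
    (x : Matrix (Fin 2) (Fin 2) F) = -1 := by
  classical
  have h : x⁻¹ = x := by
    have := pow_orderOf_eq_one x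
    rw [hx, sq] at this
    exact inv_eq_of_mul_eq_one_right this
  have h1 := congrArg toMat h
  rw [toMat_inv, Matrix.adjugate_fin_two, toMat_apply] at h1
  set M := (x : Matrix (Fin 2) (Fin 2) F) with hM
  have h2 : (2 : F) ≠ 0 := Ring.two_ne_zero (by rwa [ringChar.eq F ℓ])
  have e00 := congrFun (congrFun h1 0) 0
  have e01 := congrFun (congrFun h1 0) 1
  have e10 := congrFun (congrFun h1 1) 0
  simp at e00 e01 e10
  have z01 : M 0 1 = 0 := (mul_eq_zero.mp (show (2 : F) * M 0 1 = 0 by linear_combination -e01)).resolve_left h2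
  have z10 : M 1 0 = 0 := (mul_eq_zero.mp (show (2 : F) * M 1 0 = 0 by linear_combination -e10)).resolve_left h2
  have hdet : M 0 0 * M 1 1 = 1 := by
    have := x.det_coe
    rw [Matrix.det_fin_two, ← hM, z01] at this
    simpa using this
  have hsq : (M 0 0 - 1) * (M 0 0 + 1) = 0 := by
    rw [e00] at hdet
    linear_combination hdet
  rcases mul_eq_zero.mp hsq with e | e
  · exfalso
    have : x = 1 := by
      apply toMat_injective
      rw [map_one, toMat_apply, ← hM, Matrix.one_fin_two]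
      ext i j
      fin_cases i <;> fin_cases j <;> simp [z01, z10, e00, sub_eq_zero.mp e]
    rw [this, orderOf_one] at hx
    norm_num at hx
  · rw [Matrix.one_fin_two]
    ext i j
    fin_cases i <;> fin_cases j <;> simp [z01, z10, e00, eq_neg_of_add_eq_zero_left e]

end Cfsg.Agent.Lib.Compute.SL2
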