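import Cfsg.Agent.Lib.Classical.SympGroup
import Cfsg.Agent.Lib.RootSub.SteinbergSL2

/-!
Groups generated by families of lifted symplectic transvections.
-/

set_option autoImplicit false
set_option linter.unusedSectionVars false

namespace Cfsg.Agent.Lib.Compute.SpMult

open Cfsg.Agent.Lib.Classical Cfsg.Agent.Lib.Geometry Cfsg.Agent.Lib.RootSub
open scoped Matrix

variable {F : Type*} [Field F] {m : ℕ} {Γ : Type*} [Group Γ]

set_option quotPrecheck false in
local notation "Spm" => Subtype (fun A => A ∈ Matrix.symplecticGroup (Fin m) F)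
set_option quotPrecheck false in
local notation "Vm" => (Fin m ⊕ Fin m → F)
set_option quotPrecheck false in
local notation "ω" => Cfsg.sympForm m F

/-- The action of a transvection. -/
def tr (a : Vm) (d : F) (v : Vm) : Vm := v + (d * ω v a) • a

/-- A family of lifted transvections. -/
structure Fam (π : Γ →* Spm) (X : Vm → F → Γ) : Prop where
  map : ∀ v c, π (X v c) = spT v c
  add : ∀ v c d, X v c * X v d = X v (c + d)
  smul : ∀ (a : F) v c, X (a • v) c = X v (c * a * a)
  conj : ∀ u d v c, X u d * X v c * (X u d)⁻¹ = X (tr u d v) c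
  plane : ∀ f u b c, ω f u = 0 → b ≠ 0 → c ≠ 0 → b + c ≠ 0 →
    X f c * X u b⁻¹ = X (u + c • f) (b + c)⁻¹ * X (b • f - u) (c / (b * (b + c)))
  seven : Nat.card F = 2 → ∀ w f g, LinearIndependent F ![w, f, g] →
    ω w f = 0 → ω w g = 0 → ω f g = 0 →
    X f 1 * X g 1 * X (f + w) 1 * X (g + w) 1 = X w 1 * X (f + g) 1 * X (f + g + w) 1

/-- The subgroup of a subspace. -/
def gsub (X : Vm → F → Γ) (W : Submodule F Vm) : Subgroup Γ :=
  Subgroup.closure {g | ∃ v ∈ W, ∃ c, X v c = g}

/-- The perpendicular of a vector. -/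
def orth (e : Vm) : Submodule F Vm := LinearMap.ker (sympBilin m F e)

theorem mem_orth {e v : Vm} : v ∈ orth e ↔ ω e v = 0 := by
  rw [orth, LinearMap.mem_ker, sympBilin_apply]

theorem sympForm_add_left (u v w : Vm) : ω (u + v) w = ω u w + ω v w := by
  rw [← sympBilin_apply, ← sympBilin_apply, ← sympBilin_apply, map_add, LinearMap.add_apply]

theorem sympForm_sub_left (u v w : Vm) : ω (u - v) w = ω u w - ω v w := by
  rw [← sympBilin_apply, ← sympBilin_apply, ← sympBilin_apply, map_sub, LinearMap.sub_apply]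

theorem sympForm_zero_right (u : Vm) : ω u 0 = 0 := by
  rw [← sympBilin_apply, map_zero]

theorem sympForm_zero_left (u : Vm) : ω 0 u = 0 := by
  rw [← sympBilin_apply, map_zero, LinearMap.zero_apply]

theorem spT_tr (a : Vm) (d : F) (v : Vm) : (spT a d).1 *ᵥ v = tr a d v := spT_mulVec a d v

theorem tr_form (a : Vm) (d : F) (v w : Vm) : ω (tr a d v) (tr a d w) = ω v w := by
  rw [← spT_tr, ← spT_tr, sp_form]

theorem tr_of_perp {a v : Vm} (d : F) (h : ω v a = 0) : tr a d v = v := by
  rw [tr, h, mul_zero, zero_smul, add_zero]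

theorem tr_tr (a : Vm) (c d : F) (v : Vm) : tr a c (tr a d v) = tr a (c + d) v := by
  rw [← spT_tr, ← spT_tr, ← spT_tr, ← sp_mulVec_mul, spT_add]

theorem tr_zero (a v : Vm) : tr a 0 v = v := by rw [tr, zero_mul, zero_smul, add_zero]

theorem tr_mem {W : Submodule F Vm} {a v : Vm} (d : F) (ha : a ∈ W) (hv : v ∈ W) :
    tr a d v ∈ W := W.add_mem hv (W.smul_mem _ ha)

theorem form_tr (e a : Vm) (d : F) (v : Vm) : ω e (tr a d v) = ω e v + d * ω v a * ω e a := by
  rw [tr, sympForm_add_right, sympForm_smul_right]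

theorem exists_two {W : Submodule F Vm} {e v : Vm} (he : ∃ z ∈ W, ω e z ≠ 0)
    (hv : ∃ z ∈ W, ω v z ≠ 0) : ∃ f ∈ W, ω e f ≠ 0 ∧ ω v f ≠ 0 := by
  obtain ⟨x, hx, hex⟩ := he
  obtain ⟨y, hy, hvy⟩ := hv
  by_cases h1 : ω v x = 0
  · by_cases h2 : ω e y = 0
    · exact ⟨x + y, W.add_mem hx hy, by rw [sympForm_add_right, h2, add_zero]; exact hex,
        by rw [sympForm_add_right, h1, zero_add]; exact hvy⟩
    · exact ⟨y, hy, h2, hvy⟩
  · exact ⟨x, hx, hex, h1⟩

namespace Fam

variable {π : Γ →* Matrix.symplecticGroup (Fin m) F} {X : (Fin m ⊕ Fin m → F) → F → Γ}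

theorem zero (H : Fam π X) (v : Vm) : X v 0 = 1 :=
  mul_eq_left.mp (by rw [H.add, add_zero] : X v 0 * X v 0 = X v 0)

theorem zero_vec (H : Fam π X) (c : F) : X 0 c = 1 := by
  have := H.smul 0 0 c
  rw [zero_smul, mul_zero] at this
  rw [this, H.zero]

theorem inv (H : Fam π X) (v : Vm) (c : F) : (X v c)⁻¹ = X v (-c) :=
  inv_eq_of_mul_eq_one_right (by rw [H.add, add_neg_cancel, H.zero])

theorem commute (H : Fam π X) {u v : Vm} (h : ω v u = 0) (c d : F) :
    Commute (X u d) (X v c) := by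
  have := H.conj u d v c
  rw [tr_of_perp d h] at this
  exact mul_inv_eq_iff_eq_mul.1 this

theorem act (H : Fam π X) (a : Vm) (d : F) (v : Vm) : (π (X a d)).1 *ᵥ v = tr a d v := by
  rw [H.map, spT_tr]

theorem conjP (H : Fam π X) {W : Submodule F Vm} {g : Γ} (hg : g ∈ gsub X W) :
    ∀ v c, g * X v c * g⁻¹ = X ((π g).1 *ᵥ v) c := by
  induction hg using Subgroup.closure_induction with
  | mem x hx =>
    obtain ⟨a, -, d, rfl⟩ := hx
    intro v c
    rw [H.conj, H.act]
  | one => intro v c; rw [map_one, sp_one_mulVec, one_mul, inv_one, mul_one]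
  | mul x y _ _ hx hy =>
    intro v c
    rw [map_mul, sp_mulVec_mul, ← hx, ← hy]
    group
  | inv x _ hx =>
    intro v c
    have := hx ((π x⁻¹).1 *ᵥ v) c
    rw [map_inv, sp_mulVec_inv_cancel] at this
    rw [map_inv, ← this]
    group

theorem mem_gsub {W : Submodule F Vm} {v : Vm} (h : v ∈ W) (c : F) : X v c ∈ gsub X W :=
  Subgroup.subset_closure ⟨v, h, c, rfl⟩

variable [Finite F]

/-- The plane of a non-orthogonal pair. -/
theorem plane_nondeg (H : Fam π X) {W : Submodule F Vm} {e a w : Vm} (ha : a ∈ W) (hw : w ∈ W)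
    (haw : ω a w = 1) (hea : ω e a ≠ 0) :
    ∃ R : Subgroup Γ, (∀ p r c : F, X (p • a + r • w) c ∈ R) ∧
      ∀ g ∈ R, (π g).1 *ᵥ e = e → g ∈ gsub X (W ⊓ orth e) := by
  have hwa : ω w a = -1 := by rw [sympForm_swap, haw]
  let x : F → Γ := fun t => X a (-t)
  let y : F → Γ := fun t => X w t
  have SP : IsSteinbergPair x y := by
    refine ⟨fun t u => ?_, fun t u => H.add _ _ _, fun t ht u => ?_, fun t ht u => ?_⟩
    · show X a (-t) * X a (-u) = X a (-(t + u))
      rw [H.add, neg_add]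
    · have hm : swapElt x y t ∈ gsub X (⊤ : Submodule F Vm) :=
        mul_mem (mul_mem (mem_gsub (W := ⊤) Submodule.mem_top _) (mem_gsub (W := ⊤) Submodule.mem_top _)) (mem_gsub (W := ⊤) Submodule.mem_top _)
      show swapElt x y t * X a (-u) * (swapElt x y t)⁻¹ = X w (-(t⁻¹ ^ 2 * u))
      rw [H.conjP hm]
      have e1 : (π (swapElt x y t)).1 *ᵥ a = (-t⁻¹) • w := by
        simp only [swapElt, x, y, map_mul, sp_mulVec_mul, H.act, tr, sympForm_add_left,
          sympForm_smul_left, sympForm_self, haw, hwa, mul_zero, zero_smul, add_zero, zero_add,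
          mul_one, mul_neg, neg_mul, neg_neg]
        match_scalars <;> field_simp <;> ring
      rw [e1, H.smul]
      congr 1
      ring
    · have hm : swapElt y x t ∈ gsub X (⊤ : Submodule F Vm) :=
        mul_mem (mul_mem (mem_gsub (W := ⊤) Submodule.mem_top _) (mem_gsub (W := ⊤) Submodule.mem_top _)) (mem_gsub (W := ⊤) Submodule.mem_top _)
      show swapElt y x t * X w u * (swapElt y x t)⁻¹ = X a (-(-(t⁻¹ ^ 2 * u)))
      rw [H.conjP hm]
      have e1 : (π (swapElt y x t)).1 *ᵥ w = (-t⁻¹) • a := by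
        simp only [swapElt, x, y, map_mul, sp_mulVec_mul, H.act, tr, sympForm_add_left,
          sympForm_smul_left, sympForm_self, haw, hwa, mul_zero, zero_smul, add_zero, zero_add,
          mul_one, mul_neg, neg_mul, neg_neg]
        match_scalars <;> field_simp <;> ring
      rw [e1, H.smul]
      congr 1
      ring
  obtain ⟨φ, hup, hlo⟩ := exists_hom_sl2 SP
  have hφW : ∀ A, φ A ∈ gsub X (⊤ : Submodule F Vm) ∧
      (π (φ A)).1 *ᵥ a = A.1 0 0 • a + A.1 1 0 • w ∧
      (π (φ A)).1 *ᵥ w = A.1 0 1 • a + A.1 1 1 • w := by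
    intro A
    have hA : A ∈ Cfsg.lowerUnipotentSL2 F ⊔ Cfsg.upperUnipotentSL2 F :=
      (Cfsg.Agent.S5016.result F).1.1 ▸ Subgroup.mem_top A
    rw [← Subgroup.closure_eq (Cfsg.lowerUnipotentSL2 F),
      ← Subgroup.closure_eq (Cfsg.upperUnipotentSL2 F), ← Subgroup.closure_union] at hA
    induction hA using Subgroup.closure_induction_left with
    | one => simp [one_mem]
    | mul_left g hg B _ ih =>
      obtain ⟨ihm, iha, ihw⟩ := ih
      rcases hg with hg | hg
      · obtain ⟨t, rfl⟩ := Cfsg.Agent.S5016.mem_lower.1 hg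
        refine ⟨by rw [map_mul, hlo]; exact mul_mem (mem_gsub (W := ⊤) Submodule.mem_top _) ihm, ?_, ?_⟩ <;>
          rw [map_mul, map_mul, sp_mulVec_mul, hlo] <;>
          simp only [iha, ihw, Matrix.mulVec_add, Matrix.mulVec_smul, y, H.act, tr, sympForm_add_left, sympForm_smul_left, sympForm_self, haw,
            Matrix.SpecialLinearGroup.coe_mul, Cfsg.Agent.S5016.lo_coe, Matrix.mul_apply,
            Fin.sum_univ_two, Matrix.cons_val', Matrix.cons_val_zero, Matrix.cons_val_one,
            Matrix.empty_val', Matrix.cons_val_fin_one, Matrix.of_apply] <;>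
          module
      · obtain ⟨t, rfl⟩ := Cfsg.Agent.S5016.mem_upper.1 hg
        refine ⟨by rw [map_mul, hup]; exact mul_mem (mem_gsub (W := ⊤) Submodule.mem_top _) ihm, ?_, ?_⟩ <;>
          rw [map_mul, map_mul, sp_mulVec_mul, hup] <;>
          simp only [iha, ihw, Matrix.mulVec_add, Matrix.mulVec_smul, x, H.act, tr, sympForm_add_left, sympForm_smul_left, sympForm_self, hwa,
            Matrix.SpecialLinearGroup.coe_mul, Cfsg.Agent.S5016.up_coe, Matrix.mul_apply,
            Fin.sum_univ_two, Matrix.cons_val', Matrix.cons_val_zero, Matrix.cons_val_one,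
            Matrix.empty_val', Matrix.cons_val_fin_one, Matrix.of_apply] <;>
          module
    | inv_mul_cancel g hg B hB ih =>
      obtain ⟨ihm, iha, ihw⟩ := ih
      rcases hg with hg | hg
      · obtain ⟨t, rfl⟩ := Cfsg.Agent.S5016.mem_lower.1 hg
        rw [Cfsg.Agent.S5016.lo_inv]
        refine ⟨by rw [map_mul, hlo]; exact mul_mem (mem_gsub (W := ⊤) Submodule.mem_top _) ihm, ?_, ?_⟩ <;>
          rw [map_mul, map_mul, sp_mulVec_mul, hlo] <;>
          simp only [iha, ihw, Matrix.mulVec_add, Matrix.mulVec_smul, y, H.act, tr, sympForm_add_left, sympForm_smul_left, sympForm_self, haw,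
            Matrix.SpecialLinearGroup.coe_mul, Cfsg.Agent.S5016.lo_coe, Matrix.mul_apply,
            Fin.sum_univ_two, Matrix.cons_val', Matrix.cons_val_zero, Matrix.cons_val_one,
            Matrix.empty_val', Matrix.cons_val_fin_one, Matrix.of_apply] <;>
          module
      · obtain ⟨t, rfl⟩ := Cfsg.Agent.S5016.mem_upper.1 hg
        rw [Cfsg.Agent.S5016.up_inv]
        refine ⟨by rw [map_mul, hup]; exact mul_mem (mem_gsub (W := ⊤) Submodule.mem_top _) ihm, ?_, ?_⟩ <;>
          rw [map_mul, map_mul, sp_mulVec_mul, hup] <;>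
          simp only [iha, ihw, Matrix.mulVec_add, Matrix.mulVec_smul, x, H.act, tr, sympForm_add_left, sympForm_smul_left, sympForm_self, hwa,
            Matrix.SpecialLinearGroup.coe_mul, Cfsg.Agent.S5016.up_coe, Matrix.mul_apply,
            Fin.sum_univ_two, Matrix.cons_val', Matrix.cons_val_zero, Matrix.cons_val_one,
            Matrix.empty_val', Matrix.cons_val_fin_one, Matrix.of_apply] <;>
          module
  refine ⟨φ.range, fun p r c => ?_, ?_⟩
  · by_cases hr : r = 0
    · rw [hr, zero_smul, add_zero, H.smul]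
      exact ⟨Cfsg.Agent.S5016.up (-(c * p * p)), by rw [hup]; exact congrArg _ (neg_neg _)⟩
    · have e1 : p • a + r • w = tr a (-(p / r)) (r • w) := by
        rw [tr, sympForm_smul_left, hwa]
        match_scalars <;> field_simp
      rw [e1, ← H.conj, H.smul]
      refine mul_mem (mul_mem ?_ ⟨_, hlo _⟩) (inv_mem ?_) <;>
        exact ⟨Cfsg.Agent.S5016.up (p / r), hup _⟩
  · rintro _ ⟨A, rfl⟩ he
    set l : F := -(ω e w) / ω e a with hl
    let n := Cfsg.Agent.S5016.up (-l)
    have hn : φ n = X a l := (hup _).trans (congrArg _ (neg_neg _))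
    have he' : (π (φ (n * A * n⁻¹))).1 *ᵥ tr a l e = tr a l e := by
      rw [map_mul, map_mul, map_inv, hn, map_mul, map_mul, map_inv, sp_mulVec_mul, sp_mulVec_mul,
        ← H.act, sp_inv_mulVec_cancel, he]
      rw [hn]
    have e1 : ω (tr a l e) w = 0 := by
      rw [tr, sympForm_add_left, sympForm_smul_left, haw, hl]
      field_simp
      ring
    have e2 : ω (tr a l e) a = ω e a := by
      rw [tr, sympForm_add_left, sympForm_smul_left, sympForm_self, mul_zero, add_zero]
    obtain ⟨-, hBa, hBw⟩ := hφW (n * A * n⁻¹)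
    generalize hB : n * A * n⁻¹ = B at *
    have h00 : B.1 0 0 = 1 := by
      have h := sp_form (π (φ B)) (tr a l e) a
      rw [he', hBa, sympForm_add_right, sympForm_smul_right, sympForm_smul_right, e1, e2,
        mul_zero, add_zero] at h
      exact mul_eq_right₀ hea |>.1 h
    have h01 : B.1 0 1 = 0 := by
      have h := sp_form (π (φ B)) (tr a l e) w
      rw [he', hBw, sympForm_add_right, sympForm_smul_right, sympForm_smul_right, e1, e2,
        mul_zero, add_zero] at h
      exact (mul_eq_zero.1 h).resolve_right hea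
    have h11 : B.1 1 1 = 1 := by
      have h := B.2
      rw [Matrix.det_fin_two, h00, h01] at h
      simpa using h
    have hBlo : B = Cfsg.Agent.S5016.lo (B.1 1 0) := by
      ext i j
      fin_cases i <;> fin_cases j <;> simp [Cfsg.Agent.S5016.lo_coe, h00, h01, h11]
    have hA : A = n⁻¹ * B * n := by rw [← hB]; group
    rw [hA, hBlo, map_mul, map_mul, map_inv, hn, hlo,
      show ∀ t, y t = X w t from fun _ => rfl, H.inv,
      show X a l = (X a (-l))⁻¹ by rw [H.inv, neg_neg], H.conj]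
    refine mem_gsub (Submodule.mem_inf.2 ⟨tr_mem _ ha hw, mem_orth.2 ?_⟩) _
    rw [← tr_form a l e, tr_tr, add_neg_cancel, tr_zero, e1]

/-- The key identity between big cells. -/
theorem big_step (H : Fam π X) {W : Submodule F Vm} {e v a : Vm} (hv : v - e ∈ W) (ha : a ∈ W)
    (d : F) (h1 : ω e v ≠ 0) (h2 : ω e (tr a d v) ≠ 0) :
    (X (tr a d v - e) (ω e (tr a d v))⁻¹)⁻¹ * (X a d * X (v - e) (ω e v)⁻¹) ∈
      gsub X (W ⊓ orth e) := by
  rcases eq_or_ne d 0 with rfl | hd
  · simp only [H.zero, tr_zero, one_mul, inv_mul_cancel]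
    exact one_mem _
  by_cases hea : ω e a = 0
  · have hfix : tr a d e = e := tr_of_perp d hea
    have key : X a d * X (v - e) (ω e v)⁻¹ * (X a d)⁻¹ = X (tr a d v - e) (ω e (tr a d v))⁻¹ := by
      rw [H.conj, form_tr, hea, mul_zero, add_zero]
      congr 1
      rw [← spT_tr, ← spT_tr, Matrix.mulVec_sub, spT_tr a d e, hfix]
    rw [← key]
    have : (X a d * X (v - e) (ω e v)⁻¹ * (X a d)⁻¹)⁻¹ * (X a d * X (v - e) (ω e v)⁻¹) = X a d := by
      group
    rw [this]
    exact mem_gsub (Submodule.mem_inf.2 ⟨ha, mem_orth.2 hea⟩) _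
  by_cases hau : ω a (v - e) = 0
  · have hva : ω v a = ω e a := by
      have := hau
      rw [sympForm_sub_right] at this
      linear_combination sympForm_swap v a - sympForm_swap e a - this
    set C := d * ω e a ^ 2 with hC
    have hCne : C ≠ 0 := mul_ne_zero hd (pow_ne_zero _ hea)
    have hbC : ω e v + C = ω e (tr a d v) := by
      rw [form_tr, hva, hC]; ring
    have hp := H.plane ((ω e a)⁻¹ • a) (v - e) (ω e v) C
      (by rw [sympForm_smul_left, hau, mul_zero]) h1 hCne (hbC ▸ h2)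
    rw [H.smul, show C * (ω e a)⁻¹ * (ω e a)⁻¹ = d by rw [hC]; field_simp, hbC,
      show v - e + C • (ω e a)⁻¹ • a = tr a d v - e by
        rw [tr, hva, hC]; match_scalars <;> field_simp] at hp
    rw [hp, inv_mul_cancel_left]
    refine mem_gsub (Submodule.mem_inf.2 ⟨W.sub_mem (W.smul_mem _ (W.smul_mem _ ha)) hv,
      mem_orth.2 ?_⟩) _
    rw [sympForm_sub_right, sympForm_smul_right, sympForm_smul_right, sympForm_sub_right,
      sympForm_self]
    field_simp
    ring
  · set w := (ω a (v - e))⁻¹ • (v - e) with hw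
    have hvw : v - e = ω a (v - e) • w := by rw [hw, smul_smul, mul_inv_cancel₀ hau, one_smul]
    obtain ⟨R, hR, hfix⟩ := H.plane_nondeg (W := W) (e := e) ha (W.smul_mem _ hv : w ∈ W)
      (by rw [sympForm_smul_right, inv_mul_cancel₀ hau]) hea
    refine hfix _ (mul_mem (inv_mem ?_) (mul_mem ?_ ?_)) ?_
    · rw [show tr a d v - e = (d * ω v a) • a + ω a (v - e) • w by rw [tr, ← hvw]; abel]
      exact hR _ _ _
    · rw [show a = (1 : F) • a + (0 : F) • w by simp]
      exact hR _ _ _
    · rw [show v - e = (0 : F) • a + ω a (v - e) • w by rw [zero_smul, zero_add, ← hvw]]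
      exact hR _ _ _
    · have hb : ∀ u, ω e u ≠ 0 → (π (X (u - e) (ω e u)⁻¹)).1 *ᵥ e = u := fun u hu => by
        rw [H.act, tr, sympForm_sub_right, sympForm_self, sub_zero, inv_mul_cancel₀ hu, one_smul,
          add_sub_cancel]
      rw [map_mul, map_mul, map_inv, sp_mulVec_mul, sp_mulVec_mul, hb v h1, H.act]
      exact (congrArg _ (hb _ h2)).symm.trans (sp_inv_mulVec_cancel _ _)

theorem map_gsub (H : Fam π X) {W : Submodule F (Fin m ⊕ Fin m → F)} {g : Γ} (hg : g ∈ gsub X W)
    {v : Vm} (hv : v ∈ W) : (π g).1 *ᵥ v ∈ W := by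
  induction hg using Subgroup.closure_induction_left with
  | one => rwa [map_one, sp_one_mulVec]
  | mul_left x hx y _ ih =>
    obtain ⟨a, ha, d, rfl⟩ := hx
    rw [map_mul, sp_mulVec_mul, H.act]
    exact tr_mem _ ha ih
  | inv_mul_cancel x hx y _ ih =>
    obtain ⟨a, ha, d, rfl⟩ := hx
    rw [H.inv, map_mul, sp_mulVec_mul, H.act]
    exact tr_mem _ ha ih

/-- The coset sent to a vector outside the perpendicular. -/
noncomputable def beta (X : Vm → F → Γ) (W : Submodule F Vm) (e v : Vm) :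
    Γ ⧸ gsub X (W ⊓ orth e) :=
  QuotientGroup.mk (X (v - e) (ω e v)⁻¹)

/-- A coset sent to a vector in the perpendicular. -/
noncomputable def cand (X : Vm → F → Γ) (W : Submodule F Vm) (e v f : Vm) (k : F) :
    Γ ⧸ gsub X (W ⊓ orth e) :=
  X f (-k) • beta X W e (tr f k v)

/-- The domain. -/
def Dom (W : Submodule F Vm) (e v : Vm) : Prop := v - e ∈ W ∧ ∃ z ∈ W, ω v z ≠ 0

variable {W : Submodule F (Fin m ⊕ Fin m → F)} {e : Fin m ⊕ Fin m → F}

theorem sub_mem_tr {v a : Vm} (hv : v - e ∈ W) (ha : a ∈ W) (d : F) : tr a d v - e ∈ W := by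
  rw [show tr a d v - e = (v - e) + (d * ω v a) • a by rw [tr]; abel]
  exact W.add_mem hv (W.smul_mem _ ha)

theorem beta_step (H : Fam π X) {v a : Vm} (hv : v - e ∈ W) (ha : a ∈ W) (d : F)
    (h1 : ω e v ≠ 0) (h2 : ω e (tr a d v) ≠ 0) :
    X a d • beta X W e v = beta X W e (tr a d v) :=
  (QuotientGroup.eq.2 (H.big_step hv ha d h1 h2)).symm

theorem cand_scalar (H : Fam π X) {v f : Vm} (hv : v - e ∈ W) (hv0 : ω e v = 0) (hf : f ∈ W)
    (hef : ω e f ≠ 0) (hvf : ω v f ≠ 0) {k k' : F} (hk : k ≠ 0) (hk' : k' ≠ 0) :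
    cand X W e v f k = cand X W e v f k' := by
  have hb : ∀ {k : F}, k ≠ 0 → ω e (tr f k v) ≠ 0 := fun {k} hk => by
    rw [form_tr, hv0, zero_add]
    exact mul_ne_zero (mul_ne_zero hk hvf) hef
  have h := H.beta_step (sub_mem_tr hv hf k) hf (k' - k) (hb hk)
    (by rw [tr_tr, sub_add_cancel]; exact hb hk')
  rw [tr_tr, sub_add_cancel] at h
  rw [cand, cand, ← h, smul_smul, H.add]
  congr 2
  ring

/-- Two candidates agree through a vector outside the perpendicular. -/
theorem cand_link (H : Fam π X) {v f f' : Vm} (hv : v - e ∈ W) (hv0 : ω e v = 0) (hf : f ∈ W)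
    (hf' : f' ∈ W) (hef : ω e f ≠ 0) (hef' : ω e f' ≠ 0) (hvf : ω v f ≠ 0) (hvf' : ω v f' ≠ 0)
    {k k' : F} (hk : k ≠ 0) (hk' : k' ≠ 0) (hy : ω e (tr f' k' (tr f k v)) ≠ 0) :
    cand X W e v f k = cand X W e v f' k' := by
  have h1 : ω e (tr f k v) ≠ 0 := by
    rw [form_tr, hv0, zero_add]
    exact mul_ne_zero (mul_ne_zero hk hvf) hef
  have h2 : ω e (tr f' k' v) ≠ 0 := by
    rw [form_tr, hv0, zero_add]
    exact mul_ne_zero (mul_ne_zero hk' hvf') hef'
  have s1 := H.beta_step (sub_mem_tr hv hf k) hf' k' h1 hy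
  have e2 : tr (tr f' k' f) (-k) (tr f' k' (tr f k v)) = tr f' k' v := by
    have := congrArg (fun g => (π g).1 *ᵥ tr f' k' (tr f k v)) (H.conj f' k' f (-k))
    simp only [map_mul, map_inv, sp_mulVec_mul, H.act] at this
    rw [← this, ← H.act f' k' (tr f k v), sp_inv_mulVec_cancel, tr_tr, neg_add_cancel, tr_zero]
  have s2 := H.beta_step (sub_mem_tr (sub_mem_tr hv hf k) hf' k') (tr_mem k' hf' hf) (-k) hy
    (by rw [e2]; exact h2)
  rw [e2, ← s1, smul_smul] at s2
  rw [cand, cand, ← s2, smul_smul, ← H.conj, H.inv]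
  congr 1
  simp only [← mul_assoc, H.add]
  rw [neg_add_cancel, H.zero, one_mul, mul_assoc, H.add, neg_add_cancel, H.zero, mul_one]

theorem cand_indep (H : Fam π X) {v f f' : Vm} (hv : v - e ∈ W) (hv0 : ω e v = 0) (hf : f ∈ W)
    (hf' : f' ∈ W) (hef : ω e f ≠ 0) (hef' : ω e f' ≠ 0) (hvf : ω v f ≠ 0) (hvf' : ω v f' ≠ 0)
    {k k' : F} (hk : k ≠ 0) (hk' : k' ≠ 0) :
    cand X W e v f k = cand X W e v f' k' := by
  have h1 : ω e (tr f 1 v) ≠ 0 := by
    rw [form_tr, hv0, zero_add, one_mul]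
    exact mul_ne_zero hvf hef
  rw [H.cand_scalar hv hv0 hf hef hvf hk one_ne_zero]
  by_cases hy : ∃ l : F, l ≠ 0 ∧ ω e (tr f' l (tr f 1 v)) ≠ 0
  · obtain ⟨l, hl, hy⟩ := hy
    rw [H.cand_link hv hv0 hf hf' hef hef' hvf hvf' one_ne_zero hl hy,
      H.cand_scalar hv hv0 hf' hef' hvf' hl hk']
  push Not at hy
  have h2 : ∀ a : F, a ≠ 0 → a = 1 := by
    intro a ha
    have p := hy a ha
    have q := hy 1 one_ne_zero
    rw [form_tr] at p q
    have : (a - 1) * (ω (tr f 1 v) f' * ω e f') = 0 := by linear_combination p - q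
    refine sub_eq_zero.1 ((mul_eq_zero.1 this).resolve_right fun h => h1 ?_)
    linear_combination q - h
  have hc2 : Nat.card F = 2 := Nat.card_eq_two_iff.2 ⟨0, 1, zero_ne_one, by
    rw [Set.eq_univ_iff_forall]
    intro a
    rcases eq_or_ne a 0 with rfl | h
    · exact Or.inl rfl
    · exact Or.inr (h2 a h)⟩
  have hm1 : (-1 : F) = 1 := h2 _ (neg_ne_zero.2 one_ne_zero)
  have htwo : (2 : F) = 0 := by linear_combination -hm1
  rw [h2 k' hk']
  have a1 := h2 _ hvf
  have a2 := h2 _ hvf'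
  have a3 := h2 _ hef
  have a4 := h2 _ hef'
  have hh : ω f f' = 0 := by
    have q := hy 1 one_ne_zero
    rw [form_tr, form_tr, hv0, tr, sympForm_add_left, sympForm_smul_left, a1, a2, a3, a4] at q
    linear_combination q - htwo
  set u := v - e with hu
  have hwf : ω u f = 0 := by rw [hu, sympForm_sub_left, a1, a3, sub_self]
  have hwf' : ω u f' = 0 := by rw [hu, sympForm_sub_left, a2, a4, sub_self]
  have hfw : ω f u = 0 := by rw [sympForm_swap, hwf, neg_zero]
  have hfw' : ω f' u = 0 := by rw [sympForm_swap, hwf', neg_zero]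
  have heu : ω e u = 0 := by rw [hu, sympForm_sub_right, hv0, sympForm_self, sub_zero]
  have eb : ∀ g, ω v g = 1 → ω e g = 1 → cand X W e v g 1 =
      QuotientGroup.mk (X g 1 * X (g + u) 1) := by
    intro g g1 g2
    rw [cand, beta, MulAction.Quotient.smul_mk, smul_eq_mul, hm1, form_tr, hv0, g1, g2]
    simp only [mul_one, zero_add, inv_one, tr, g1, one_smul, hu]
    rw [show v + g - e = g + (v - e) by abel]
  rw [eb f a1 a3, eb f' a2 a4]
  have sq : ∀ g, X g 1 * X g 1 = 1 := fun g => by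
    rw [H.add, show (1 : F) + 1 = 0 by linear_combination htwo, H.zero]
  have iv : ∀ g, (X g 1)⁻¹ = X g 1 := fun g => inv_eq_of_mul_eq_one_right (sq g)
  rw [QuotientGroup.eq, mul_inv_rev, iv, iv]
  by_cases e1 : f = f'
  · subst e1
    have : X (f + u) 1 * X f 1 * (X f 1 * X (f + u) 1) = 1 := by
      rw [mul_assoc, ← mul_assoc (X f 1), sq, one_mul, sq]
    rw [this]
    exact one_mem _
  by_cases e2 : f' = f + u
  · have hc : Commute (X f 1) (X (f + u) 1) :=
      H.commute (by rw [sympForm_add_left, sympForm_self, sympForm_swap, hfw, zero_add, neg_zero]) _ _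
    have hfu : f' + u = f := by
      rw [e2, add_assoc, ← two_smul F u, htwo, zero_smul, add_zero]
    rw [hfu, e2, ← hc.eq]
    have : X f 1 * X (f + u) 1 * (X f 1 * X (f + u) 1) = 1 := by
      nth_rewrite 2 [hc.eq]
      rw [mul_assoc, ← mul_assoc (X (f + u) 1), sq, one_mul, sq]
    rw [this]
    exact one_mem _
  by_cases e0 : u = 0
  · simp only [e0, add_zero]
    rw [sq, sq, mul_one]
    exact one_mem _
  have hli : LinearIndependent F ![u, f, f'] := by
    rw [Fintype.linearIndependent_iff]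
    intro c hc
    rw [Fin.sum_univ_three] at hc
    simp only [Matrix.cons_val_zero, Matrix.cons_val_one, Matrix.cons_val_two, Matrix.head_cons,
      Matrix.tail_cons] at hc
    have hce := congrArg (fun z => ω e z) hc
    simp only [sympForm_add_right, sympForm_smul_right, heu, a3, a4, sympForm_zero_right] at hce
    have c12 : c 1 = c 2 := by linear_combination hce + (-c 2) * htwo
    have c2 : c 2 = 0 := by
      by_contra h
      rw [c12, h2 _ h, one_smul, one_smul] at hc
      rcases eq_or_ne (c 0) 0 with h0 | h0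
      · rw [h0, zero_smul, zero_add] at hc
        refine e1 ?_
        calc f = f + (f' + f') := by rw [← two_smul F f', htwo, zero_smul, add_zero]
          _ = f' := by rw [← add_assoc, hc, zero_add]
      · rw [h2 _ h0, one_smul] at hc
        refine e2 ?_
        calc f' = f' + (u + f + f') := by rw [hc, add_zero]
          _ = f + u + (f' + f') := by abel
          _ = f + u := by rw [← two_smul F f', htwo, zero_smul, add_zero]
    have c1 : c 1 = 0 := c12.trans c2
    rw [c1, c2, zero_smul, zero_smul, add_zero, add_zero, smul_eq_zero] at hc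
    intro i
    fin_cases i
    · exact hc.resolve_right e0
    · exact c1
    · exact c2
  have h7 := H.seven hc2 u f f' hli hwf hwf' hh
  have cc : ∀ p q : Vm, ω q p = 0 → X p 1 * X q 1 = X q 1 * X p 1 := fun p q h => (H.commute h 1 1).eq
  have hff : ω f' f = 0 := by rw [sympForm_swap, hh, neg_zero]
  have key : X (f + u) 1 * X f 1 * (X f' 1 * X (f' + u) 1) =
      X u 1 * X (f + f') 1 * X (f + f' + u) 1 := by
    rw [← h7]
    calc X (f + u) 1 * X f 1 * (X f' 1 * X (f' + u) 1)
        = X (f + u) 1 * (X f 1 * X f' 1) * X (f' + u) 1 := by simp only [mul_assoc]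
      _ = (X f 1 * X f' 1) * X (f + u) 1 * X (f' + u) 1 := by
          rw [(Commute.mul_right (H.commute (u := f + u) (v := f) (by
              rw [sympForm_add_right, sympForm_self, hfw, add_zero]) 1 1)
            (H.commute (u := f + u) (v := f') (by
              rw [sympForm_add_right, hff, hfw', add_zero]) 1 1)).eq]
      _ = _ := by simp only [mul_assoc]
  rw [key]
  have me : ∀ p ∈ W, ω e p = 0 → X p 1 ∈ gsub X (W ⊓ orth e) := fun p hp h =>
    mem_gsub (Submodule.mem_inf.2 ⟨hp, mem_orth.2 h⟩) 1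
  have hW : u ∈ W := hv
  refine mul_mem (mul_mem (me _ hW heu) (me _ (W.add_mem hf hf') ?_))
    (me _ (W.add_mem (W.add_mem hf hf') hW) ?_)
  · rw [sympForm_add_right, a3, a4]; linear_combination htwo
  · rw [sympForm_add_right, sympForm_add_right, a3, a4, heu]; linear_combination htwo

/-- The section of the orbit map. -/
noncomputable def sect (X : Vm → F → Γ) (W : Submodule F Vm) (e v : Vm) :
    Γ ⧸ gsub X (W ⊓ orth e) := by
  classical
  exact if ω e v ≠ 0 then beta X W e v
    else if h : ∃ f ∈ W, ω e f ≠ 0 ∧ ω v f ≠ 0 then cand X W e v h.choose 1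
    else QuotientGroup.mk 1

theorem sect_big {v : Vm} (h : ω e v ≠ 0) : sect X W e v = beta X W e v := by
  rw [sect, if_pos h]

theorem sect_bad (H : Fam π X) {v f : Vm} (hv : v - e ∈ W) (hv0 : ω e v = 0) (hf : f ∈ W)
    (hef : ω e f ≠ 0) (hvf : ω v f ≠ 0) {k : F} (hk : k ≠ 0) :
    sect X W e v = cand X W e v f k := by
  have h : ∃ f ∈ W, ω e f ≠ 0 ∧ ω v f ≠ 0 := ⟨f, hf, hef, hvf⟩
  rw [sect, if_neg (not_not.2 hv0), dif_pos h]
  obtain ⟨c1, c2, c3⟩ := h.choose_spec
  exact H.cand_indep hv hv0 c1 hf c2 hef c3 hvf one_ne_zero hk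

theorem dom_tr {v a : Vm} (hv : Dom W e v) (ha : a ∈ W) (d : F) : Dom W e (tr a d v) := by
  obtain ⟨h1, z, hz, h2⟩ := hv
  exact ⟨sub_mem_tr h1 ha d, tr a d z, tr_mem d ha hz, by rwa [tr_form]⟩

theorem sect_step (H : Fam π X) (he : ∃ z ∈ W, ω e z ≠ 0) {v a : Vm} (hv : Dom W e v)
    (ha : a ∈ W) (d : F) : X a d • sect X W e v = sect X W e (tr a d v) := by
  obtain ⟨hvW, hvz⟩ := hv
  have hft : ω e (tr a d v) = ω e v + d * ω v a * ω e a := form_tr e a d v
  have hva : ω (tr a d v) a = ω v a := by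
    rw [tr, sympForm_add_left, sympForm_smul_left, sympForm_self, mul_zero, add_zero]
  by_cases h1 : ω e v = 0 <;> by_cases h2 : ω e (tr a d v) = 0
  · obtain ⟨f, hf, hef, hvf, hxf⟩ : ∃ f ∈ W, ω e f ≠ 0 ∧ ω v f ≠ 0 ∧ ω e (tr a d f) ≠ 0 := by
      obtain ⟨f, hf, hef, hvf⟩ := exists_two he hvz
      by_cases hxf : ω e (tr a d f) = 0
      · have hda : d ≠ 0 ∧ ω e a ≠ 0 := by
          constructor <;> intro h <;> apply hef <;> rw [form_tr, h] at hxf <;>
            simpa using hxf
        have hv2 : ω v a = 0 := by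
          have := hft
          rw [h1, h2, zero_add] at this
          rcases mul_eq_zero.1 this.symm with h | h
          · exact (mul_eq_zero.1 h).resolve_left hda.1
          · exact absurd h hda.2
        refine ⟨f + (v - e), W.add_mem hf hvW, ?_, ?_, ?_⟩
        · rwa [sympForm_add_right, sympForm_sub_right, h1, sympForm_self, sub_zero, add_zero]
        · rwa [sympForm_add_right, sympForm_sub_right, sympForm_self, sympForm_swap v e, h1,
            neg_zero, sub_zero, add_zero]
        · rw [form_tr] at hxf ⊢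
          rw [sympForm_add_right, sympForm_sub_right, h1, sympForm_self, sub_zero, add_zero,
            sympForm_add_left, sympForm_sub_left, hv2, zero_sub, mul_add, add_mul, ← add_assoc, hxf,
            zero_add]
          exact mul_ne_zero (mul_ne_zero hda.1 (neg_ne_zero.2 hda.2)) hda.2
      · exact ⟨f, hf, hef, hvf, hxf⟩
    have hxvf : ω (tr a d v) (tr a d f) = ω v f := tr_form a d v f
    rw [H.sect_bad hvW h1 hf hef hvf one_ne_zero, H.sect_bad (sub_mem_tr hvW ha d) h2
      (tr_mem d ha hf) hxf (hxvf ▸ hvf) one_ne_zero]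
    have e1 : tr a d (tr f 1 v) = tr (tr a d f) 1 (tr a d v) := by
      have := congrArg (fun g => (π g).1 *ᵥ tr a d v) (H.conj a d f 1)
      simp only [map_mul, map_inv, sp_mulVec_mul, H.act] at this
      rw [← this, ← H.act a d v, sp_inv_mulVec_cancel]
    have hb : ω e (tr f 1 v) ≠ 0 := by
      rw [form_tr, h1, zero_add, one_mul]; exact mul_ne_zero hvf hef
    have hb' : ω e (tr a d (tr f 1 v)) ≠ 0 := by
      rw [e1, form_tr, h2, zero_add, one_mul, hxvf]; exact mul_ne_zero hvf hxf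
    rw [cand, cand, ← e1, ← H.beta_step (sub_mem_tr hvW hf 1) ha d hb hb', smul_smul, smul_smul,
      ← H.conj, inv_mul_cancel_right]
  · have hd : d * ω v a * ω e a ≠ 0 := by rwa [hft, h1, zero_add] at h2
    obtain ⟨⟨hd0, hva0⟩, hea⟩ : (d ≠ 0 ∧ ω v a ≠ 0) ∧ ω e a ≠ 0 := by
      simpa [mul_ne_zero_iff] using hd
    rw [sect_big h2, H.sect_bad hvW h1 ha hea hva0 hd0, cand, smul_smul, H.add, add_neg_cancel,
      H.zero, one_smul]
  · have hd : d * ω v a * ω e a ≠ 0 := fun h => h1 (by rw [hft, h, add_zero] at h2; exact h2)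
    obtain ⟨⟨hd0, hva0⟩, hea⟩ : (d ≠ 0 ∧ ω v a ≠ 0) ∧ ω e a ≠ 0 := by
      simpa [mul_ne_zero_iff] using hd
    rw [sect_big h1, H.sect_bad (sub_mem_tr hvW ha d) h2 ha hea (hva ▸ hva0) (neg_ne_zero.2 hd0),
      cand, tr_tr, neg_add_cancel, tr_zero, neg_neg]
  · rw [sect_big h1, sect_big h2]
    exact H.beta_step hvW ha d h1 h2

theorem sect_self (H : Fam π X) (he : ∃ z ∈ W, ω e z ≠ 0) :
    sect X W e e = QuotientGroup.mk 1 := by
  obtain ⟨f, hf, hef⟩ := he
  rw [H.sect_bad (by rw [sub_self]; exact W.zero_mem) (sympForm_self e) hf hef hef one_ne_zero,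
    cand, beta, MulAction.Quotient.smul_mk, smul_eq_mul, form_tr, sympForm_self, zero_add,
    one_mul, tr, one_mul, add_sub_cancel_left, H.smul, H.add]
  congr 1
  rw [show (ω e f * ω e f)⁻¹ * ω e f * ω e f = 1 by field_simp, neg_add_cancel, H.zero]

/-- The stabiliser of a vector. -/
theorem stab (H : Fam π X) {g : Γ} (hg : g ∈ gsub X W) (hfix : (π g).1 *ᵥ e = e) :
    g ∈ gsub X (W ⊓ orth e) := by
  by_cases he : ∃ z ∈ W, ω e z ≠ 0
  · have key : ∀ v, Dom W e v → Dom W e ((π g).1 *ᵥ v) ∧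
        g • sect X W e v = sect X W e ((π g).1 *ᵥ v) := by
      clear hfix
      induction hg using Subgroup.closure_induction_left with
      | one => intro v hv; rw [map_one, sp_one_mulVec, one_smul]; exact ⟨hv, rfl⟩
      | mul_left x hx y _ ih =>
        obtain ⟨a, ha, d, rfl⟩ := hx
        intro v hv
        obtain ⟨hd, hs⟩ := ih v hv
        rw [map_mul, sp_mulVec_mul, H.act, mul_smul, hs]
        exact ⟨dom_tr hd ha d, H.sect_step he hd ha d⟩
      | inv_mul_cancel x hx y _ ih =>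
        obtain ⟨a, ha, d, rfl⟩ := hx
        intro v hv
        obtain ⟨hd, hs⟩ := ih v hv
        rw [H.inv, map_mul, sp_mulVec_mul, H.act, mul_smul, hs]
        exact ⟨dom_tr hd ha _, H.sect_step he hd ha _⟩
    obtain ⟨-, hs⟩ := key e ⟨by rw [sub_self]; exact W.zero_mem, he⟩
    rw [hfix, H.sect_self he, MulAction.Quotient.smul_mk, smul_eq_mul, mul_one, QuotientGroup.eq,
      mul_one] at hs
    simpa using inv_mem hs
  · push Not at he
    rwa [inf_eq_left.2 fun z hz => mem_orth.2 (he z hz)]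

/-- The kernel meets the generated subgroup trivially. -/
theorem eq_one (H : Fam π X) : ∀ (n : ℕ) (W : Submodule F Vm), Module.finrank F W ≤ n →
    ∀ g ∈ gsub X W, π g = 1 → g = 1 := by
  intro n
  induction n with
  | zero =>
    intro W hW g hg _
    rw [Submodule.finrank_eq_zero.1 (Nat.le_zero.1 hW)] at hg
    have : gsub X (⊥ : Submodule F Vm) ≤ ⊥ := (Subgroup.closure_le _).2 (by
      rintro _ ⟨v, hv, c, rfl⟩
      rw [(Submodule.mem_bot F).1 hv, H.zero_vec]
      rfl)
    exact Subgroup.mem_bot.1 (this hg)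
  | succ n ih =>
    intro W hW g hg hπ
    rcases eq_or_ne W ⊥ with rfl | hne
    · exact ih ⊥ (by rw [finrank_bot]; exact Nat.zero_le _) g hg hπ
    obtain ⟨v, hv, hv0⟩ := W.exists_mem_ne_zero_of_ne_bot hne
    obtain ⟨x, hx⟩ := exists_sympForm_eq_one hv0
    have hne' : ω x v ≠ 0 := by rw [sympForm_swap, hx]; exact neg_ne_zero.2 one_ne_zero
    refine ih (W ⊓ orth x) ?_ g (H.stab hg (by rw [hπ, sp_one_mulVec])) hπ
    have hlt : W ⊓ orth x < W := lt_of_le_not_ge inf_le_left fun h =>
      hne' (mem_orth.1 (Submodule.mem_inf.1 (h hv)).2)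
    have := Submodule.finrank_lt_finrank_of_lt hlt
    omega

theorem eq_one' (H : Fam π X) {g : Γ} (hg : g ∈ gsub X (⊤ : Submodule F Vm)) (hπ : π g = 1) :
    g = 1 :=
  H.eq_one _ ⊤ le_rfl g hg hπ

theorem map_gsub_top (H : Fam π X) : (gsub X (⊤ : Submodule F Vm)).map π = ⊤ :=
  sp_eq_top_of_transvections fun v c => ⟨X v c, mem_gsub Submodule.mem_top c, H.map v c⟩

/-- A family gives a section. -/
theorem exists_section (H : Fam π X) : ∃ τ : Spm →* Γ, ∀ g, π (τ g) = g := by
  let p : gsub X (⊤ : Submodule F Vm) →* Spm := π.comp (gsub X ⊤).subtype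
  have hp : Function.Bijective p := by
    refine ⟨(injective_iff_map_eq_one p).2 fun x hx => Subtype.ext (H.eq_one' x.2 hx), fun g => ?_⟩
    obtain ⟨x, hx, e⟩ := (H.map_gsub_top ▸ Subgroup.mem_top g : g ∈ (gsub X ⊤).map π)
    exact ⟨⟨x, hx⟩, e⟩
  exact ⟨(gsub X ⊤).subtype.comp (MulEquiv.ofBijective p hp).symm.toMonoidHom,
    fun g => (MulEquiv.ofBijective p hp).apply_symm_apply g⟩

end Fam

end Cfsg.Agent.Lib.Compute.SpMult
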