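import Cfsg.Agent.Lib.Compute.SpEngine
import Cfsg.Agent.Lib.Compute.SLLiftBasic
import Cfsg.Agent.Lib.Geometry.IsotropicTuples

/-!
Commuting lifts of symplectic transvections in central extensions.
-/

set_option autoImplicit false
set_option linter.unusedSectionVars false

namespace Cfsg.Agent.Lib.Compute.SpMult

open Cfsg.Agent.Lib.Classical Cfsg.Agent.Lib.Geometry Cfsg.Agent.Lib.Compute.SLSt
open scoped Matrix commutatorElement

variable {F : Type*} [Field F] {m : ℕ} {Γ : Type*} [Group Γ]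

set_option quotPrecheck false in
local notation "Spm" => Subtype (fun A => A ∈ Matrix.symplecticGroup (Fin m) F)
set_option quotPrecheck false in
local notation "Vm" => (Fin m ⊕ Fin m → F)
set_option quotPrecheck false in
local notation "ω" => Cfsg.sympForm m F

theorem sympForm_neg_left (u v : Vm) : ω (-u) v = -ω u v := by
  rw [← neg_one_smul F u, sympForm_smul_left, neg_one_mul]

theorem sympForm_neg_right (u v : Vm) : ω u (-v) = -ω u v := by
  rw [← neg_one_smul F v, sympForm_smul_right, neg_one_mul]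

theorem spT_zero_vec (c : F) : spT (0 : Vm) c = 1 :=
  sp_ext fun x => by rw [spT_mulVec, smul_zero, add_zero, sp_one_mulVec]

theorem spT_tr' (a : Vm) (d : F) (v : Vm) (c : F) :
    spT a d * spT v c * (spT a d)⁻¹ = spT (tr a d v) c := by
  rw [spT_conj, spT_tr]

theorem sp_mulVec_sub (g : Spm) (u v : Vm) : g.1 *ᵥ (u - v) = g.1 *ᵥ u - g.1 *ᵥ v :=
  Matrix.mulVec_sub _ _ _

theorem commute_of_fix {g : Spm} {v : Vm} (h : g.1 *ᵥ v = v) (c : F) :
    Commute (spT v c) g := by
  have := spT_conj g v c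
  rw [h] at this
  exact (mul_inv_eq_iff_eq_mul.1 this).symm

theorem spT_plane (f u : Vm) (b c k : F) (hfu : ω f u = 0) (hb : b ≠ 0) (hbc : b + c ≠ 0) :
    spT f (c * k) * spT u (b⁻¹ * k) =
      spT (u + c • f) ((b + c)⁻¹ * k) * spT (b • f - u) (c / (b * (b + c)) * k) := by
  refine sp_ext fun x => ?_
  have huf : ω u f = 0 := by rw [sympForm_swap, hfu, neg_zero]
  simp only [sp_mulVec_mul, spT_mulVec, sympForm_add_left, sympForm_add_right, sympForm_sub_left,
    sympForm_sub_right, sympForm_smul_left, sympForm_smul_right, sympForm_self, hfu, huf, mul_zero,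
    add_zero, sub_zero]
  match_scalars <;> field_simp <;> ring

theorem char_two_of_card (h : Nat.card F = 2) : (2 : F) = 0 := by
  haveI : Finite F := Nat.finite_of_card_ne_zero (by omega)
  haveI := Fintype.ofFinite F
  have e := Nat.cast_card_eq_zero F
  rw [← Nat.card_eq_fintype_card, h] at e
  exact_mod_cast e

theorem spT_seven (h2 : Nat.card F = 2) (w f g : Vm) (hwf : ω w f = 0) (hwg : ω w g = 0)
    (hfg : ω f g = 0) :
    spT f 1 * spT g 1 * spT (f + w) 1 * spT (g + w) 1 =
      spT w 1 * spT (f + g) 1 * spT (f + g + w) 1 := by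
  refine sp_ext fun x => ?_
  have htwo := char_two_of_card h2
  have hfw : ω f w = 0 := by rw [sympForm_swap, hwf, neg_zero]
  have hgw : ω g w = 0 := by rw [sympForm_swap, hwg, neg_zero]
  have hgf : ω g f = 0 := by rw [sympForm_swap, hfg, neg_zero]
  simp only [sp_mulVec_mul, spT_mulVec, sympForm_add_left, sympForm_add_right, sympForm_smul_left,
    sympForm_self, hwf, hwg, hfg, hfw, hgw, hgf, mul_zero, add_zero, one_mul]
  match_scalars
  · ring
  all_goals grind

/-- The transvections themselves. -/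
theorem famId [Finite F] : Fam (MonoidHom.id Spm) (fun v c => spT (m := m) (F := F) v c) where
  map _ _ := rfl
  add := spT_add
  smul a v c := spT_smul a v c
  conj u d v c := spT_tr' u d v c
  plane f u b c h hb _ hbc := by simpa using spT_plane f u b c 1 h hb hbc
  seven h w f g _ := spT_seven h w f g

/-- The stabiliser of a vector is generated by transvections. -/
theorem stab_le [Finite F] {v : Vm} {H : Subgroup Spm}
    (h : ∀ (u : Vm) (c : F), ω v u = 0 → spT u c ∈ H) {g : Spm} (hg : g.1 *ᵥ v = v) : g ∈ H := by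
  have hI := famId (F := F) (m := m)
  have hm : g ∈ (gsub (fun v c => spT (m := m) (F := F) v c) (⊤ : Submodule F Vm)).map
      (MonoidHom.id Spm) := hI.map_gsub_top ▸ Subgroup.mem_top g
  rw [Subgroup.map_id] at hm
  refine (Subgroup.closure_le H).2 ?_ (hI.stab (e := v) hm hg)
  rintro _ ⟨u, hu, c, rfl⟩
  exact h u c (mem_orth.1 (Submodule.mem_inf.1 hu).2)

theorem exists_map_two {u v u' v' : Vm} (h : LinearIndependent F ![u, v])
    (h' : LinearIndependent F ![u', v']) (ho : ω u v = 0) (ho' : ω u' v' = 0) :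
    ∃ g : Spm, g.1 *ᵥ u = u' ∧ g.1 *ᵥ v = v' := by
  have key : ∀ {p q : Vm}, LinearIndependent F ![p, q] → ω p q = 0 → IsoTuple m 2 ![p, q] := by
    intro p q hp hq
    refine ⟨hp, fun a b => ?_⟩
    fin_cases a <;> fin_cases b <;> simp [sympForm_self, hq]
    rw [sympForm_swap, hq, neg_zero]
  obtain ⟨g, hg⟩ := exists_sp_map_tuple (key h ho) (key h' ho')
  exact ⟨g, hg 0, hg 1⟩

theorem exists_map_three {u v w u' v' w' : Vm} (h : LinearIndependent F ![u, v, w])
    (h' : LinearIndependent F ![u', v', w']) (ho : ω u v = 0 ∧ ω u w = 0 ∧ ω v w = 0)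
    (ho' : ω u' v' = 0 ∧ ω u' w' = 0 ∧ ω v' w' = 0) :
    ∃ g : Spm, g.1 *ᵥ u = u' ∧ g.1 *ᵥ v = v' ∧ g.1 *ᵥ w = w' := by
  have key : ∀ {p q r : Vm}, LinearIndependent F ![p, q, r] → ω p q = 0 ∧ ω p r = 0 ∧ ω q r = 0 →
      IsoTuple m 3 ![p, q, r] := by
    intro p q r hp ⟨h1, h2, h3⟩
    refine ⟨hp, fun a b => ?_⟩
    fin_cases a <;> fin_cases b <;> simp [sympForm_self, h1, h2, h3] <;>
      rw [sympForm_swap] <;> simp [h1, h2, h3]
  obtain ⟨g, hg⟩ := exists_sp_map_tuple (key h ho) (key h' ho')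
  exact ⟨g, hg 0, hg 1, hg 2⟩

theorem exists_perp_indep (hm : 2 ≤ m) {v : Vm} (hv : v ≠ 0) :
    ∃ p : Vm, ω v p = 0 ∧ ∀ a : F, p ≠ a • v := by
  by_contra hcon
  push Not at hcon
  have hle : orth v ≤ Submodule.span F {v} := fun p hp => by
    obtain ⟨a, rfl⟩ := hcon p (mem_orth.1 hp)
    exact Submodule.mem_span_singleton.2 ⟨a, rfl⟩
  have h1 := Submodule.finrank_mono hle
  rw [finrank_span_singleton hv] at h1
  have h2 := LinearMap.finrank_range_add_finrank_ker (sympBilin m F v)
  have h3 : Module.finrank F (LinearMap.range (sympBilin m F v)) ≤ 1 :=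
    (Submodule.finrank_le _).trans_eq (Module.finrank_self F)
  have h4 : Module.finrank F Vm = m + m := by
    rw [Module.finrank_fintype_fun_eq_card, Fintype.card_sum, Fintype.card_fin]
  rw [h4] at h2
  rw [orth] at h1
  omega

theorem li_pair {u v : Vm} (hv : v ≠ 0) (h : ∀ a : F, u ≠ a • v) :
    LinearIndependent F ![v, u] :=
  (LinearIndependent.pair_iff' hv).2 fun a e => h a e.symm

variable (π : Γ →* Matrix.symplecticGroup (Fin m) F) (hs : Function.Surjective π)
  (hc : π.ker ≤ Subgroup.center Γ)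

/-- The elements whose lifts commute with the lifts of `T`. -/
noncomputable def lcomm (T : Spm) : Subgroup Spm :=
  (Subgroup.centralizer {sec π hs T}).map π

include hc

theorem mem_lcomm_iff {g T : Spm} :
    g ∈ lcomm π hs T ↔ cpair π hs g T = 1 := by
  constructor
  · rintro ⟨a, ha, rfl⟩
    rw [← cpair_eq π hs hc (a := a) (b := sec π hs T) rfl (sigma_sec π hs T),
      commutatorElement_eq_one_iff_mul_comm]
    exact Subgroup.mem_centralizer_singleton_iff.1 ha
  · intro h
    refine ⟨sec π hs g, Subgroup.mem_centralizer_singleton_iff.2 ?_, sigma_sec π hs g⟩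
    exact commutatorElement_eq_one_iff_mul_comm.1 h

theorem lcomm_symm {g T : Spm} (h : g ∈ lcomm π hs T) : T ∈ lcomm π hs g := by
  rw [mem_lcomm_iff π hs hc] at h ⊢
  rw [← cpair_symm π hs hc, h, inv_one]

theorem lcomm_self (T : Spm) : T ∈ lcomm π hs T := by
  rw [mem_lcomm_iff π hs hc, cpair, commutatorElement_self]

theorem lcomm_fix {g : Spm} {v : Vm} {k : F} [Finite F]
    (h : ∀ (u : Vm) (c : F), ω v u = 0 → spT u c ∈ lcomm π hs (spT v k))
    (hg : g.1 *ᵥ v = v) : cpair π hs g (spT v k) = 1 :=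
  (mem_lcomm_iff π hs hc).1 (stab_le h hg)

end Cfsg.Agent.Lib.Compute.SpMult
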