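import Cfsg.Agent.Lib.Compute.SpLiftBasic

/-!
Lifted transvection families for fields with more than three elements.
-/

set_option autoImplicit false
set_option linter.unusedSectionVars false

namespace Cfsg.Agent.Lib.Compute.SpMult

open Cfsg.Agent.Lib.Classical Cfsg.Agent.Lib.Geometry Cfsg.Agent.Lib.Compute.SLSt
open scoped Matrix commutatorElement

variable {F : Type*} [Field F] [Finite F] {m : ℕ} {Γ : Type*} [Group Γ]
  (π : Γ →* Matrix.symplecticGroup (Fin m) F) (hs : Function.Surjective π)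
  (hc : π.ker ≤ Subgroup.center Γ)

set_option quotPrecheck false in
local notation "Spm" => Subtype (fun A => A ∈ Matrix.symplecticGroup (Fin m) F)
set_option quotPrecheck false in
local notation "Vm" => (Fin m ⊕ Fin m → F)
set_option quotPrecheck false in
local notation "ω" => Cfsg.sympForm m F

/-- The short root element. -/
noncomputable def shortT (v p : Vm) (k : F) : Spm :=
  spT (v + p) k * spT p (-k) * spT v (-k)

theorem shortT_mulVec {v p : Vm} (h : ω v p = 0) (k : F) (x : Vm) :
    (shortT v p k).1 *ᵥ x = x + (k * ω x v) • p + (k * ω x p) • v := by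
  have h' : ω p v = 0 := by rw [sympForm_swap, h, neg_zero]
  simp only [shortT, sp_mulVec_mul, spT_mulVec, sympForm_add_left, sympForm_add_right,
    sympForm_smul_left, sympForm_self, h, h', mul_zero, add_zero]
  match_scalars <;> ring

theorem shortT_conj (g : Spm) (v p : Vm) (k : F) :
    g * shortT v p k * g⁻¹ = shortT (g.1 *ᵥ v) (g.1 *ᵥ p) k := by
  rw [shortT, shortT, ← Matrix.mulVec_add, ← spT_conj, ← spT_conj, ← spT_conj]
  group

theorem shortT_fix {v p : Vm} (h : ω v p = 0) (k : F) : (shortT v p k).1 *ᵥ v = v := by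
  rw [shortT_mulVec h, sympForm_self, h, mul_zero, zero_smul, add_zero, zero_smul, add_zero]

/-- A short root element as a commutator. -/
theorem shortT_comm {v p : Vm} (h : ω v p = 0) {D : Spm} {a : F} (hv : D.1 *ᵥ v = v)
    (hp : D.1 *ᵥ p = a • p) (t : F) :
    ⁅D, shortT v p t⁆ = shortT v p (a * t - t) := by
  rw [commutatorElement_def, shortT_conj, hv, hp, mul_inv_eq_iff_eq_mul]
  have ha : ω v (a • p) = 0 := by rw [sympForm_smul_right, h, mul_zero]
  refine sp_ext fun x => ?_
  have h' : ω p v = 0 := by rw [sympForm_swap, h, neg_zero]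
  rw [sp_mulVec_mul, shortT_mulVec ha, shortT_mulVec h, shortT_mulVec h]
  simp only [sympForm_add_left, sympForm_smul_left, sympForm_smul_right, sympForm_self, h, h',
    mul_zero, add_zero]
  module

theorem exists_sq_ne (hq : 4 ≤ Nat.card F) : ∃ s : F, s ≠ 0 ∧ s * s - 1 ≠ 0 := by
  obtain ⟨a, ha, ha2⟩ : ∃ a : F, a ≠ 0 ∧ a ^ 2 ≠ 1 := exists_pow_ne_one fun hd => by
    have := Nat.le_of_dvd two_pos hd
    omega
  exact ⟨a, ha, by rw [← sq]; exact sub_ne_zero.2 ha2⟩

theorem exists_scale (s : F) (hs0 : s ≠ 0) (v : Vm) : ∃ g : Spm, g.1 *ᵥ v = s • v := by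
  rcases eq_or_ne v 0 with rfl | hv
  · exact ⟨1, by rw [Matrix.mulVec_zero, smul_zero]⟩
  · exact exists_sp_mulVec_eq hv (smul_ne_zero hs0 hv)

variable (hm : 2 ≤ m) {s : F} (hs0 : s ≠ 0) (hs2 : s * s - 1 ≠ 0)
include hc hm hs0 hs2

/-- Lifts of transvections with independent orthogonal centres commute. -/
theorem indep_comm {u v : Vm} (hv : v ≠ 0) (hu : ∀ a : F, u ≠ a • v) (ho : ω v u = 0) (d k : F) :
    spT u d ∈ lcomm π hs (spT v k) := by
  have hli := li_pair hv hu
  have hli' : LinearIndependent F ![v, s • u] := li_pair hv fun a e => hu (s⁻¹ * a) (by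
    rw [← smul_smul, ← e, smul_smul, inv_mul_cancel₀ hs0, one_smul])
  obtain ⟨D, hDv, hDu⟩ := exists_map_two hli hli' ho (by rw [sympForm_smul_right, ho, mul_zero])
  have hcomm : ∀ e, Commute (spT u e) (spT v k) := fun e =>
    commute_of_fix (by rw [spT_tr, tr_of_perp _ (by rw [sympForm_swap, ho, neg_zero])]) e
  set d' := d / (s * s - 1) with hd'
  have h1 := cpair_conj_fix π hs hc (hcomm d') (sec π hs D) (g' := spT u (d' * s * s))
    (h' := spT v k) (by rw [sigma_sec, spT_conj, hDu, spT_smul])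
    (by rw [sigma_sec, spT_conj, hDv])
  rw [show d' * s * s = d + d' by linear_combination div_mul_cancel₀ d hs2, ← spT_add,
    cpair_mul_left_comm π hs hc (hcomm d'), mul_eq_right] at h1
  exact (mem_lcomm_iff π hs hc).2 h1

/-- Lifts of transvections with orthogonal centres commute. -/
theorem perp_comm {u v : Vm} (ho : ω v u = 0) (d k : F) :
    spT u d ∈ lcomm π hs (spT v k) := by
  rcases eq_or_ne v 0 with rfl | hv
  · rw [spT_zero_vec]
    exact lcomm_symm π hs hc (one_mem _)
  by_cases hu : ∀ a : F, u ≠ a • v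
  · exact indep_comm π hs hc hm hs0 hs2 hv hu ho d k
  push Not at hu
  obtain ⟨a, rfl⟩ := hu
  rw [spT_smul]
  obtain ⟨p, hp, hpi⟩ := exists_perp_indep hm hv
  set l := d * a * a
  have hli := li_pair hv hpi
  have hli' : LinearIndependent F ![v, s • p] := li_pair hv fun b e => hpi (s⁻¹ * b) (by
    rw [← smul_smul, ← e, smul_smul, inv_mul_cancel₀ hs0, one_smul])
  obtain ⟨D, hDv, hDp⟩ := exists_map_two hli hli' hp (by rw [sympForm_smul_right, hp, mul_zero])
  have hs1 : s - 1 ≠ 0 := fun h => hs2 (by rw [sub_eq_zero.1 h, one_mul, sub_self])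
  have hS : ∀ t, shortT v p t ∈ lcomm π hs (spT v k) := fun t => by
    have e : ⁅D, shortT v p (t / (s - 1))⁆ = shortT v p t := by
      rw [shortT_comm hp hDv hDp]
      congr 1
      field_simp
    refine lcomm_symm π hs hc ((mem_lcomm_iff π hs hc).2 ?_)
    rw [← e]
    exact cpair_comm π hs hc (commute_of_fix hDv k) (commute_of_fix (shortT_fix hp _) k)
  have hv1 : ω v (v + p) = 0 := by rw [sympForm_add_right, sympForm_self, hp, add_zero]
  have e : spT v l = spT (v + p) l * spT p (-l) * (shortT v p l)⁻¹ := by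
    rw [shortT, mul_inv_rev, spT_inv, neg_neg]
    have hcm : Commute (spT v l) (spT (v + p) l * spT p (-l))⁻¹ :=
      (commute_of_fix (by rw [sp_mulVec_mul, spT_tr, spT_tr, tr_of_perp _ hp, tr_of_perp _ hv1])
        l).inv_right
    rw [hcm.eq, mul_inv_cancel_left]
  rw [e]
  refine mul_mem (mul_mem (indep_comm π hs hc hm hs0 hs2 hv ?_ hv1 _ _)
    (indep_comm π hs hc hm hs0 hs2 hv hpi hp _ _)) (inv_mem (hS _))
  · intro b e'
    exact hpi (b - 1) (by rw [sub_smul, one_smul, ← e']; abel)

omit hc hm hs2 in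
/-- The scaling element. -/
theorem scale_spec (v : Vm) : (Classical.choose (exists_scale s hs0 v)).1 *ᵥ v = s • v :=
  Classical.choose_spec (exists_scale s hs0 v)

/-- The lifted transvection. -/
noncomputable def xFour (v : Vm) (c : F) : Γ :=
  cpair π hs (Classical.choose (exists_scale s hs0 v)) (spT v (c / (s * s - 1)))

theorem xFour_eq {D : Spm} {v : Vm} (hD : D.1 *ᵥ v = s • v) (c : F) :
    xFour π hs hs0 v c = cpair π hs D (spT v (c / (s * s - 1))) := by
  set D₀ := Classical.choose (exists_scale s hs0 v) with hD₀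
  have hfix : (D₀⁻¹ * D).1 *ᵥ v = v := by
    rw [sp_mulVec_mul, hD, Matrix.mulVec_smul]
    have := congrArg (fun z => (D₀⁻¹).1 *ᵥ z) (scale_spec (m := m) hs0 v)
    simp only [← hD₀, sp_inv_mulVec_cancel, Matrix.mulVec_smul] at this
    exact this.symm
  have h := cpair_mul_left π hs hc D₀ (D₀⁻¹ * D) (spT v (c / (s * s - 1)))
  rw [mul_inv_cancel_left, lcomm_fix π hs hc (fun u e hu => perp_comm π hs hc hm hs0 hs2 hu e _) hfix,
    mul_one, mul_inv_cancel, one_mul] at h
  rw [xFour, ← hD₀, h]

theorem xFour_equiv (a : Γ) (v : Vm) (c : F) :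
    a * xFour π hs hs0 v c * a⁻¹ = xFour π hs hs0 ((π a).1 *ᵥ v) c := by
  rw [xFour_eq π hs hc hm hs0 hs2 (v := (π a).1 *ᵥ v)
    (D := π a * Classical.choose (exists_scale s hs0 v) * (π a)⁻¹)
    (by rw [sp_mulVec_mul, sp_mulVec_mul, sp_inv_mulVec_cancel, scale_spec hs0, Matrix.mulVec_smul]),
    ← spT_conj, ← cpair_conj π hs hc, xFour]

theorem xFour_map (v : Vm) (c : F) : π (xFour π hs hs0 v c) = spT v c := by
  rw [xFour, sigma_cpair, commutatorElement_def, spT_conj, scale_spec hs0, spT_inv, spT_smul, spT_add]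
  congr 1
  linear_combination div_mul_cancel₀ c hs2

theorem xFour_mul {T : Spm} {D : Spm} {w : Vm} {d : F}
    (hw : T.1 *ᵥ w = w) (hD : D.1 *ᵥ w = s • w) :
    cpair π hs D (T * spT w (d / (s * s - 1))) = cpair π hs D T * xFour π hs hs0 w d := by
  rw [cpair_mul_right π hs hc, ← xFour_eq π hs hc hm hs0 hs2 hD, xFour_equiv π hs hc hm hs0 hs2,
    sigma_sec, hw]

theorem famFour : Fam π (xFour π hs hs0) where
  map := xFour_map π hs hc hm hs0 hs2
  add v c d := by
    have hD := scale_spec (m := m) hs0 v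
    rw [xFour_eq π hs hc hm hs0 hs2 hD c, xFour_eq π hs hc hm hs0 hs2 hD (c + d), add_div,
      ← spT_add, xFour_mul π hs hc hm hs0 hs2
        (by rw [spT_tr, tr_of_perp _ (sympForm_self v)]) hD]
  smul a v c := by
    have hD := scale_spec (m := m) hs0 v
    rw [xFour_eq π hs hc hm hs0 hs2 hD, xFour_eq π hs hc hm hs0 hs2 (D := Classical.choose
      (exists_scale s hs0 v)) (v := a • v) (by rw [Matrix.mulVec_smul, hD, smul_comm]), spT_smul]
    congr 2
    ring
  conj u d v c := by
    rw [xFour_equiv π hs hc hm hs0 hs2, xFour_map π hs hc hm hs0 hs2, spT_tr]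
  plane f u b c hfu hb hc' hbc := by
    obtain ⟨D, hDf, hDu⟩ : ∃ D : Spm, D.1 *ᵥ f = s • f ∧ D.1 *ᵥ u = s • u := by
      rcases eq_or_ne u 0 with rfl | hu0
      · obtain ⟨D, hD⟩ := exists_scale (m := m) s hs0 f
        exact ⟨D, hD, by rw [Matrix.mulVec_zero, smul_zero]⟩
      by_cases hl : ∀ a : F, f ≠ a • u
      · have huf : ω u f = 0 := by rw [sympForm_swap, hfu, neg_zero]
        have hli : LinearIndependent F ![s • u, s • f] := li_pair (smul_ne_zero hs0 hu0) fun a e =>
          hl a (smul_right_injective Vm hs0 (by simpa [smul_comm a s] using e))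
        obtain ⟨D, h1, h2⟩ := exists_map_two (li_pair hu0 hl) hli huf
          (by rw [sympForm_smul_left, sympForm_smul_right, huf, mul_zero, mul_zero])
        exact ⟨D, h2, h1⟩
      · push Not at hl
        obtain ⟨a, rfl⟩ := hl
        obtain ⟨D, hD⟩ := exists_scale (m := m) s hs0 u
        exact ⟨D, by rw [Matrix.mulVec_smul, hD, smul_comm], hD⟩
    have huf : ω u f = 0 := by rw [sympForm_swap, hfu, neg_zero]
    have hD1 : D.1 *ᵥ (u + c • f) = s • (u + c • f) := by
      rw [Matrix.mulVec_add, Matrix.mulVec_smul, hDf, hDu, smul_add, smul_comm s c]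
    have hD2 : D.1 *ᵥ (b • f - u) = s • (b • f - u) := by
      rw [Matrix.mulVec_sub, Matrix.mulVec_smul, hDf, hDu, smul_sub, smul_comm s b]
    rw [xFour_eq π hs hc hm hs0 hs2 hDf, xFour_eq π hs hc hm hs0 hs2 hD1,
      ← xFour_mul π hs hc hm hs0 hs2
        (by rw [spT_tr, tr_of_perp _ huf]) hDu,
      ← xFour_mul π hs hc hm hs0 hs2 (by
        rw [spT_tr, tr_of_perp]
        rw [sympForm_sub_left, sympForm_add_right, sympForm_add_right, sympForm_smul_left,
          sympForm_smul_left, sympForm_smul_right, sympForm_smul_right, sympForm_self,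
          sympForm_self, hfu, huf]
        ring) hD2]
    congr 1
    simp only [div_eq_mul_inv _ (s * s - 1)]
    exact spT_plane f u b c _ hfu hb hbc
  seven h := by
    exfalso
    haveI := Fintype.ofFinite F
    have h1 := FiniteField.pow_card_sub_one_eq_one s hs0
    rw [← Nat.card_eq_fintype_card, h, pow_one] at h1
    exact hs2 (by rw [h1, one_mul, sub_self])

end Cfsg.Agent.Lib.Compute.SpMult
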