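import Cfsg.Agent.Lib.Compute.SpLiftFour

/-!
Lifted transvection families over the field with three elements.
-/

set_option autoImplicit false
set_option linter.unusedSectionVars false

namespace Cfsg.Agent.Lib.Compute.SpMult

open Cfsg.Agent.Lib.Classical Cfsg.Agent.Lib.Geometry Cfsg.Agent.Lib.Compute.SLSt
open scoped Matrix commutatorElement

variable {F : Type*} [Field F] [Finite F] {m : ℕ} {Γ : Type*} [Group Γ]
  (π : Γ →* Matrix.symplecticGroup (Fin m) F) (hs : Function.Surjective π)
  (hc : π.ker ≤ Subgroup.center Γ)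

set_option quotPrecheck false in
local notation "Spm" => Subtype (fun A => A ∈ Matrix.symplecticGroup (Fin m) F)
set_option quotPrecheck false in
local notation "Vm" => (Fin m ⊕ Fin m → F)
set_option quotPrecheck false in
local notation "ω" => Cfsg.sympForm m F

theorem three_cases (h3 : Nat.card F = 3) (a : F) : a = 0 ∨ a = 1 ∨ a = -1 := by
  rcases eq_or_ne a 0 with rfl | ha
  · exact Or.inl rfl
  haveI := Fintype.ofFinite F
  have h1 := FiniteField.pow_card_sub_one_eq_one a ha
  rw [← Nat.card_eq_fintype_card, h3, show 3 - 1 = 2 from rfl] at h1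
  exact Or.inr (sq_eq_one_iff.1 h1)

theorem three_zero (h3 : Nat.card F = 3) : (3 : F) = 0 := by
  haveI := Fintype.ofFinite F
  have e := Nat.cast_card_eq_zero F
  rw [← Nat.card_eq_fintype_card, h3] at e
  exact_mod_cast e

theorem shortT_zero_left (p : Vm) (k : F) : shortT (0 : Vm) p k = 1 := by
  rw [shortT, zero_add, spT_zero_vec, spT_add, add_neg_cancel, spT_zero, one_mul]

theorem shortT_zero_right (v : Vm) (k : F) : shortT v (0 : Vm) k = 1 := by
  rw [shortT, add_zero, spT_zero_vec, mul_one, spT_add, add_neg_cancel, spT_zero]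

theorem shortT_add {v x x' : Vm} (h : ω v x = 0) (h' : ω v x' = 0) :
    shortT v (x + x') 1 = shortT v x 1 * shortT v x' 1 * spT v (-(ω x' x)) := by
  have ha : ω v (x + x') = 0 := by rw [sympForm_add_right, h, h', add_zero]
  have hxv : ω x v = 0 := by rw [sympForm_swap, h, neg_zero]
  have hxv' : ω x' v = 0 := by rw [sympForm_swap, h', neg_zero]
  refine sp_ext fun y => ?_
  rw [sp_mulVec_mul, sp_mulVec_mul, spT_mulVec, shortT_mulVec ha, shortT_mulVec h', shortT_mulVec h]
  simp only [sympForm_add_left, sympForm_add_right, sympForm_smul_left, sympForm_self, h, h', hxv,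
    hxv', mul_zero, add_zero, one_mul]
  module

theorem shortT_smul (a : F) {v x : Vm} (h : ω v x = 0) : shortT v (a • x) 1 = shortT v x a := by
  refine sp_ext fun y => ?_
  rw [shortT_mulVec (by rw [sympForm_smul_right, h, mul_zero]), shortT_mulVec h]
  simp only [sympForm_smul_right]
  module

theorem shortT_smul_left (a : F) {v x : Vm} (h : ω v x = 0) :
    shortT (a • v) x 1 = shortT v (a • x) 1 := by
  refine sp_ext fun y => ?_
  rw [shortT_mulVec (by rw [sympForm_smul_left, h, mul_zero]),
    shortT_mulVec (by rw [sympForm_smul_right, h, mul_zero])]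
  simp only [sympForm_smul_right]
  module

theorem shortT_self (v : Vm) (a k : F) : shortT v (a • v) k = spT v (2 * a * k) := by
  have h : ω v (a • v) = 0 := by rw [sympForm_smul_right, sympForm_self, mul_zero]
  refine sp_ext fun y => ?_
  rw [shortT_mulVec h, spT_mulVec, sympForm_smul_right]
  module

theorem commute_short {v x y : Vm} (hx : ω v x = 0) (hy : ω v y = 0) (h : ω x y = 0) :
    Commute (shortT v x 1) (shortT v y 1) := by
  have h' : ω y x = 0 := by rw [sympForm_swap, h, neg_zero]
  have e1 := shortT_add hx hy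
  have e2 := shortT_add hy hx
  rw [add_comm y x, h] at e2
  rw [h', neg_zero, spT_zero, mul_one] at e1
  rw [neg_zero, spT_zero, mul_one] at e2
  exact e1.symm.trans e2

theorem exists_z {v p : Vm} (hv : v ≠ 0) (hp : ∀ a : F, p ≠ a • v) (c : F) :
    ∃ z, ω v z = 0 ∧ ω p z = c := by
  obtain ⟨u, hu, hu'⟩ := exists_perp_apply_eq_one (sympBilin m F) (sympBilin_nondegenerate F m)
    (Submodule.span F {v}) (x := p) fun h => by
      obtain ⟨a, ha⟩ := Submodule.mem_span_singleton.1 h
      exact hp a ha.symm
  have h1 := hu v (Submodule.mem_span_singleton_self v)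
  rw [sympBilin_apply] at h1 hu'
  refine ⟨(-c) • u, ?_, ?_⟩
  · rw [sympForm_smul_right, sympForm_swap, h1, neg_zero, mul_zero]
  · rw [sympForm_smul_right, sympForm_swap, hu']; ring

theorem exists_pair (hm : 2 ≤ m) (v : Vm) (c : F) :
    ∃ q : Vm × Vm, ω v q.1 = 0 ∧ ω v q.2 = 0 ∧ ω q.1 q.2 = c := by
  rcases eq_or_ne v 0 with rfl | hv
  · have hne : (Pi.single (Sum.inl ⟨0, by omega⟩) (1 : F) : Vm) ≠ 0 :=
      Pi.single_ne_zero_iff.2 one_ne_zero
    obtain ⟨x, hx⟩ := exists_sympForm_eq_one hne
    exact ⟨(Pi.single (Sum.inl ⟨0, by omega⟩) (1 : F), c • x), sympForm_zero_left _,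
      sympForm_zero_left _, by rw [sympForm_smul_right, hx, mul_one]⟩
  · obtain ⟨p, hp, hpi⟩ := exists_perp_indep hm hv
    obtain ⟨z, hz, hz'⟩ := exists_z hv hpi c
    exact ⟨(p, z), hp, hz, hz'⟩

/-- The commutator of lifts of two short root elements. -/
noncomputable def bThree (v x y : Vm) : Γ :=
  cpair π hs (shortT v x 1) (shortT v y 1)

variable (hm : 2 ≤ m) (h3 : Nat.card F = 3)
include hc hm h3

theorem single_comm (v : Vm) (k l : F) : spT v l ∈ lcomm π hs (spT v k) := by
  have h1 : ∀ k : F, spT v (1 : F) ∈ lcomm π hs (spT v k) := by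
    intro k
    rcases three_cases h3 k with rfl | rfl | rfl
    · rw [spT_zero]; exact lcomm_symm π hs hc (one_mem _)
    · exact lcomm_self π hs hc _
    · rw [← spT_inv]; exact lcomm_symm π hs hc (inv_mem (lcomm_self π hs hc _))
  rcases three_cases h3 l with rfl | rfl | rfl
  · rw [spT_zero]; exact one_mem _
  · exact h1 k
  · rw [← spT_inv]; exact inv_mem (h1 k)

theorem long_short {v y : Vm} (hy : ω v y = 0) (k t : F) :
    cpair π hs (spT v k) (shortT v y t) = 1 := by
  rw [← mem_lcomm_iff π hs hc]
  refine lcomm_symm π hs hc ?_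
  rcases eq_or_ne v 0 with rfl | hv
  · rw [shortT_zero_left]; exact one_mem _
  by_cases hi : ∀ a : F, y ≠ a • v
  · have hli := li_pair hv hi
    have hli' : LinearIndependent F ![v, (-1 : F) • y] := li_pair hv fun a e => hi (-a) (by
      rw [neg_smul, ← e, neg_one_smul, neg_neg])
    obtain ⟨D, hDv, hDy⟩ := exists_map_two hli hli' hy (by rw [sympForm_smul_right, hy, mul_zero])
    have e : ⁅D, shortT v y t⁆ = shortT v y t := by
      rw [shortT_comm hy hDv hDy]
      congr 1
      linear_combination (-t) * three_zero h3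
    refine lcomm_symm π hs hc ((mem_lcomm_iff π hs hc).2 ?_)
    rw [← e]
    exact cpair_comm π hs hc (commute_of_fix hDv k) (commute_of_fix (shortT_fix hy _) k)
  · push Not at hi
    obtain ⟨a, rfl⟩ := hi
    rw [shortT_self]
    exact single_comm π hs hc hm h3 v k _

theorem bThree_map {v x y : Vm} (hx : ω v x = 0) (hy : ω v y = 0) :
    π (bThree π hs v x y) = spT v (ω x y) := by
  rw [bThree, sigma_cpair, commutatorElement_def, mul_inv_eq_iff_eq_mul, mul_inv_eq_iff_eq_mul]
  refine sp_ext fun z => ?_
  have hxv : ω x v = 0 := by rw [sympForm_swap, hx, neg_zero]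
  have hyv : ω y v = 0 := by rw [sympForm_swap, hy, neg_zero]
  simp only [sp_mulVec_mul, spT_mulVec, shortT_mulVec hx, shortT_mulVec hy, sympForm_add_left,
    sympForm_smul_left, sympForm_self, hx, hy, hxv, hyv, mul_zero, add_zero, one_mul]
  rw [sympForm_swap y x]
  match_scalars <;> grind [three_zero h3]

theorem bThree_add_left {v x x' y : Vm} (hx : ω v x = 0) (hx' : ω v x' = 0) (hy : ω v y = 0) :
    bThree π hs v (x + x') y = bThree π hs v x' y * bThree π hs v x y := by
  rw [bThree, shortT_add hx hx', cpair_mul_left_comm π hs hc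
    (commute_of_fix (shortT_fix hy _) _), long_short π hs hc hm h3 hy, mul_one,
    cpair_mul_left π hs hc]
  have hcm : Commute (cpair π hs (shortT v x' 1) (shortT v y 1)) (sec π hs (shortT v x 1)) :=
    lifts_commute π hs hc (long_short π hs hc hm h3 hx (ω x' y) 1)
      (bThree_map π hs hc hm h3 hx' hy) (sigma_sec π hs _)
  rw [← hcm.eq, mul_inv_cancel_right]
  rfl

theorem bThree_symm (v x y : Vm) : (bThree π hs v x y)⁻¹ = bThree π hs v y x :=
  cpair_symm π hs hc _ _

theorem bThree_add_right {v x y y' : Vm} (hx : ω v x = 0) (hy : ω v y = 0) (hy' : ω v y' = 0) :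
    bThree π hs v x (y + y') = bThree π hs v x y * bThree π hs v x y' := by
  rw [← bThree_symm π hs hc hm h3 v (y + y'), bThree_add_left π hs hc hm h3 hy hy' hx, mul_inv_rev,
    bThree_symm π hs hc hm h3, bThree_symm π hs hc hm h3]

theorem bThree_zero_left (v y : Vm) : bThree π hs v 0 y = 1 := by
  rw [bThree, shortT_zero_right, ← mem_lcomm_iff π hs hc]
  exact one_mem _

theorem bThree_zero_right (v x : Vm) : bThree π hs v x 0 = 1 := by
  rw [← bThree_symm π hs hc hm h3, bThree_zero_left π hs hc hm h3, inv_one]

theorem bThree_neg_left {v x y : Vm} (hx : ω v x = 0) (hy : ω v y = 0) :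
    bThree π hs v (-x) y = (bThree π hs v x y)⁻¹ := by
  have h := bThree_add_left π hs hc hm h3 hx
    (by rw [sympForm_neg_right, hx, neg_zero] : ω v (-x) = 0) hy
  rw [add_neg_cancel, bThree_zero_left π hs hc hm h3] at h
  exact eq_inv_of_mul_eq_one_left h.symm

theorem bThree_line {v y : Vm} (hy : ω v y = 0) (a : F) : bThree π hs v (a • v) y = 1 := by
  rw [bThree, shortT_self, long_short π hs hc hm h3 hy]

theorem bThree_orth {v x y : Vm} (hx : ω v x = 0) (hy : ω v y = 0) (h : ω x y = 0) :
    bThree π hs v x y = 1 := by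
  rcases eq_or_ne v 0 with rfl | hv
  · rw [bThree, shortT_zero_left, ← mem_lcomm_iff π hs hc]
    exact one_mem _
  by_cases hx1 : ∀ a : F, x ≠ a • v
  · by_cases hy1 : ∀ a b : F, y ≠ a • v + b • x
    · have hli : LinearIndependent F ![v, x, y] := by
        rw [Fintype.linearIndependent_iff]
        intro g hg
        rw [Fin.sum_univ_three] at hg
        simp only [Matrix.cons_val_zero, Matrix.cons_val_one, Matrix.cons_val_two, Matrix.head_cons,
          Matrix.tail_cons] at hg
        have g2 : g 2 = 0 := by
          by_contra hne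
          refine hy1 (-(g 0 / g 2)) (-(g 1 / g 2)) ?_
          have := congrArg (fun z => (g 2)⁻¹ • z) hg
          simp only [smul_add, smul_smul, smul_zero, inv_mul_cancel₀ hne, one_smul] at this
          rw [← sub_eq_zero, ← this]
          match_scalars <;> field_simp
        rw [g2, zero_smul, add_zero] at hg
        have g01 := LinearIndependent.pair_iff.1 (li_pair hv hx1) _ _ hg
        intro i
        fin_cases i
        exacts [g01.1, g01.2, g2]
      have hli' : LinearIndependent F ![v, -x, y] := by
        rw [Fintype.linearIndependent_iff] at hli ⊢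
        intro g hg
        have := hli ![g 0, -g 1, g 2] (by
          rw [Fin.sum_univ_three] at hg ⊢
          simpa using hg)
        intro i
        fin_cases i
        · simpa using this 0
        · simpa using this 1
        · simpa using this 2
      obtain ⟨D, hDv, hDx, hDy⟩ := exists_map_three hli hli' ⟨hx, hy, h⟩
        ⟨by rw [sympForm_neg_right, hx, neg_zero], hy, by rw [sympForm_neg_left, h, neg_zero]⟩
      have e1 := cpair_conj_fix π hs hc (commute_short hx hy h) (sec π hs D)
        (g' := shortT v (-x) 1) (h' := shortT v y 1)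
        (by rw [sigma_sec, shortT_conj, hDv, hDx]) (by rw [sigma_sec, shortT_conj, hDv, hDy])
      change bThree π hs v (-x) y = bThree π hs v x y at e1
      rw [bThree_neg_left π hs hc hm h3 hx hy] at e1
      have e2 := bThree_add_left π hs hc hm h3 hx hx hy
      have hxx : x + x = -x := by
        rw [eq_neg_iff_add_eq_zero, ← add_zero (x + x + x)]
        rw [show x + x + x + 0 = (3 : F) • x by module, three_zero h3, zero_smul]
      rw [hxx, bThree_neg_left π hs hc hm h3 hx hy, e1] at e2
      exact mul_eq_left.1 e2.symm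
    · push Not at hy1
      obtain ⟨a, b, rfl⟩ := hy1
      rw [bThree_add_right π hs hc hm h3 hx (by rw [sympForm_smul_right, sympForm_self, mul_zero])
        (by rw [sympForm_smul_right, hx, mul_zero]), ← bThree_symm π hs hc hm h3 v (a • v),
        bThree_line π hs hc hm h3 hx, inv_one, one_mul]
      rcases three_cases h3 b with rfl | rfl | rfl
      · rw [zero_smul, bThree_zero_right π hs hc hm h3]
      · rw [one_smul, bThree, cpair, commutatorElement_self]
      · rw [neg_one_smul, ← bThree_symm π hs hc hm h3, bThree_neg_left π hs hc hm h3 hx hx, inv_inv,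
          bThree, cpair, commutatorElement_self]
  · push Not at hx1
    obtain ⟨a, rfl⟩ := hx1
    exact bThree_line π hs hc hm h3 hy a

theorem bThree_congr_right {v x y y' : Vm} (hx : ω v x = 0) (hy : ω v y = 0) (hy' : ω v y' = 0)
    (h : ω x y = ω x y') : bThree π hs v x y = bThree π hs v x y' := by
  have := bThree_add_right π hs hc hm h3 hx (y := y') (y' := y - y') hy'
    (by rw [sympForm_sub_right, hy, hy', sub_zero])
  rwa [add_sub_cancel, bThree_orth π hs hc hm h3 (x := x) (y := y - y') hx
    (by rw [sympForm_sub_right, hy, hy', sub_zero]) (by rw [sympForm_sub_right, h, sub_self]),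
    mul_one] at this

theorem bThree_congr_left {v x x' y : Vm} (hx : ω v x = 0) (hx' : ω v x' = 0) (hy : ω v y = 0)
    (h : ω x y = ω x' y) : bThree π hs v x y = bThree π hs v x' y := by
  rw [← bThree_symm π hs hc hm h3 v y x, ← bThree_symm π hs hc hm h3 v y x',
    bThree_congr_right π hs hc hm h3 hy hx hx'
      (by rw [sympForm_swap y x, h, ← sympForm_swap y x'])]

theorem bThree_indep {v x y x' y' : Vm} (hx : ω v x = 0) (hy : ω v y = 0) (hx' : ω v x' = 0)
    (hy' : ω v y' = 0) (h : ω x y = ω x' y') : bThree π hs v x y = bThree π hs v x' y' := by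
  rcases eq_or_ne (ω x y) 0 with h0 | h0
  · rw [bThree_orth π hs hc hm h3 hx hy h0, bThree_orth π hs hc hm h3 hx' hy' (h ▸ h0)]
  have hgen : ∀ z, ω v z = 0 → ω x z = ω x y → y' ∉ Submodule.span F {v, z} →
      bThree π hs v x y = bThree π hs v x' y' := by
    intro z hz hxz hnot
    have hnot2 : z ∉ Submodule.span F {v, y'} := by
      intro hmem
      obtain ⟨a, b, e⟩ := Submodule.mem_span_pair.1 hmem
      rcases eq_or_ne b 0 with rfl | hb
      · apply h0
        rw [← hxz, ← e, zero_smul, add_zero, sympForm_smul_right, sympForm_swap x v, hx, neg_zero,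
          mul_zero]
      · refine hnot (Submodule.mem_span_pair.2 ⟨-(a / b), b⁻¹, ?_⟩)
        rw [← e]
        match_scalars <;> field_simp
        ring
    obtain ⟨u, hu, hu1⟩ := exists_perp_apply_eq_one (sympBilin m F)
      (sympBilin_nondegenerate F m) _ hnot
    obtain ⟨u', hu', hu2⟩ := exists_perp_apply_eq_one (sympBilin m F)
      (sympBilin_nondegenerate F m) _ hnot2
    have a1 := hu v (Submodule.subset_span (by simp))
    have a2 := hu z (Submodule.subset_span (by simp))
    have a3 := hu' v (Submodule.subset_span (by simp))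
    have a4 := hu' y' (Submodule.subset_span (by simp))
    rw [sympBilin_apply] at a1 a2 a3 a4 hu1 hu2
    set w := ω x y • (u + u')
    have hw : ω v w = 0 := by
      rw [sympForm_smul_right, sympForm_add_right, sympForm_swap v u, sympForm_swap v u', a1, a3]
      ring
    have hwz : ω w z = ω x y := by rw [sympForm_smul_left, sympForm_add_left, a2, hu2]; ring
    have hwy : ω w y' = ω x y := by rw [sympForm_smul_left, sympForm_add_left, a4, hu1]; ring
    rw [bThree_congr_right π hs hc hm h3 hx hy hz hxz.symm,
      bThree_congr_left π hs hc hm h3 hx hw hz (hxz.trans hwz.symm),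
      bThree_congr_right π hs hc hm h3 hw hz hy' (hwz.trans hwy.symm),
      bThree_congr_left π hs hc hm h3 hw hx' hy' (hwy.trans h)]
  by_cases hm1 : y' ∈ Submodule.span F {v, y}
  · refine hgen (y + x) (by rw [sympForm_add_right, hy, hx, add_zero])
      (by rw [sympForm_add_right, sympForm_self, add_zero]) fun hm2 => ?_
    obtain ⟨a, b, e⟩ := Submodule.mem_span_pair.1 hm1
    obtain ⟨a', b', e'⟩ := Submodule.mem_span_pair.1 hm2
    have hxv : ω x v = 0 := by rw [sympForm_swap, hx, neg_zero]
    have hyv : ω y v = 0 := by rw [sympForm_swap, hy, neg_zero]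
    have p1 := congrArg (fun z => ω x z) (e.trans e'.symm)
    have p2 := congrArg (fun z => ω y z) (e.trans e'.symm)
    simp only [sympForm_add_right, sympForm_smul_right, hxv, hyv, sympForm_self, mul_zero,
      zero_add, add_zero] at p1 p2
    have hbb : b = b' := mul_right_cancel₀ h0 p1
    have hb' : b' = 0 := (mul_eq_zero.1 p2.symm).resolve_right (by
      rw [sympForm_swap]; exact neg_ne_zero.2 h0)
    have hb : b = 0 := hbb.trans hb'
    apply h0
    rw [h, ← e, hb, zero_smul, add_zero, sympForm_smul_right, sympForm_swap x' v, hx', neg_zero,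
      mul_zero]
  · exact hgen y hy rfl hm1

omit hc h3 in
theorem pair_spec (v : Vm) (c : F) :
    ω v (Classical.choose (exists_pair hm v c)).1 = 0 ∧
      ω v (Classical.choose (exists_pair hm v c)).2 = 0 ∧
      ω (Classical.choose (exists_pair hm v c)).1 (Classical.choose (exists_pair hm v c)).2 = c :=
  Classical.choose_spec (exists_pair hm v c)

/-- The lifted transvection. -/
noncomputable def xThree (v : Vm) (c : F) : Γ :=
  bThree π hs v (Classical.choose (exists_pair hm v c)).1 (Classical.choose (exists_pair hm v c)).2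

theorem xThree_eq {v x y : Vm} {c : F} (hx : ω v x = 0) (hy : ω v y = 0) (h : ω x y = c) :
    xThree π hs hm v c = bThree π hs v x y := by
  obtain ⟨h1, h2, h3'⟩ := pair_spec hm v c
  exact bThree_indep π hs hc hm h3 h1 h2 hx hy (h3'.trans h.symm)

theorem xThree_map (v : Vm) (c : F) : π (xThree π hs hm v c) = spT v c := by
  obtain ⟨h1, h2, h3'⟩ := pair_spec hm v c
  rw [xThree, bThree_map π hs hc hm h3 h1 h2, h3']

theorem xThree_equiv (a : Γ) (v : Vm) (c : F) :
    a * xThree π hs hm v c * a⁻¹ = xThree π hs hm ((π a).1 *ᵥ v) c := by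
  obtain ⟨h1, h2, h3'⟩ := pair_spec hm v c
  rw [xThree_eq π hs hc hm h3 (v := (π a).1 *ᵥ v)
    (x := (π a).1 *ᵥ (Classical.choose (exists_pair hm v c)).1)
    (y := (π a).1 *ᵥ (Classical.choose (exists_pair hm v c)).2)
    (by rw [sp_form, h1]) (by rw [sp_form, h2]) (by rw [sp_form, h3']), xThree, bThree, bThree,
    cpair_conj π hs hc, shortT_conj, shortT_conj]

theorem xThree_add (v : Vm) (c d : F) :
    xThree π hs hm v c * xThree π hs hm v d = xThree π hs hm v (c + d) := by
  obtain ⟨⟨x, y⟩, hx, hy, hxy⟩ := exists_pair hm v (1 : F)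
  simp only at hx hy hxy
  have e : ∀ c : F, xThree π hs hm v c = bThree π hs v x (c • y) := fun c =>
    xThree_eq π hs hc hm h3 hx (by rw [sympForm_smul_right, hy, mul_zero])
      (by rw [sympForm_smul_right, hxy, mul_one])
  rw [e, e, e, add_smul, bThree_add_right π hs hc hm h3 hx
    (by rw [sympForm_smul_right, hy, mul_zero]) (by rw [sympForm_smul_right, hy, mul_zero])]

theorem xThree_zero_vec (c : F) : xThree π hs hm (0 : Vm) c = 1 := by
  rw [xThree, bThree, shortT_zero_left, ← mem_lcomm_iff π hs hc]
  exact one_mem _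

theorem xThree_smul (a : F) (v : Vm) (c : F) :
    xThree π hs hm (a • v) c = xThree π hs hm v (c * a * a) := by
  obtain ⟨h1, h2, h3'⟩ := pair_spec hm v c
  rcases eq_or_ne a 0 with rfl | ha
  · rw [zero_smul, xThree_zero_vec π hs hc hm h3, mul_zero]
    exact ((mul_eq_left).1 (by rw [xThree_add π hs hc hm h3, add_zero] :
      xThree π hs hm v 0 * xThree π hs hm v 0 = xThree π hs hm v 0)).symm
  rw [xThree_eq π hs hc hm h3 (v := a • v) (c := c)
    (x := (Classical.choose (exists_pair hm v c)).1) (y := (Classical.choose (exists_pair hm v c)).2)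
    (by rw [sympForm_smul_left, h1, mul_zero]) (by rw [sympForm_smul_left, h2, mul_zero]) h3',
    xThree_eq π hs hc hm h3 (v := v) (c := c * a * a)
    (x := a • (Classical.choose (exists_pair hm v c)).1)
    (y := a • (Classical.choose (exists_pair hm v c)).2)
    (by rw [sympForm_smul_right, h1, mul_zero]) (by rw [sympForm_smul_right, h2, mul_zero])
    (by rw [sympForm_smul_left, sympForm_smul_right, h3']; ring), bThree, bThree,
    shortT_smul_left a h1, shortT_smul_left a h2]

/-- The relation in a totally isotropic plane. -/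
theorem four_lines {f u : Vm} (hfu : ω f u = 0) (k : F) :
    xThree π hs hm (u + f) k * xThree π hs hm (u - f) k * xThree π hs hm f k * xThree π hs hm u k
      = 1 := by
  set X := xThree π hs hm with hX
  have hz : ∀ v, X v 0 = 1 := fun v =>
    (mul_eq_left).1 (by rw [hX, xThree_add π hs hc hm h3, add_zero] : X v 0 * X v 0 = X v 0)
  have h30 := three_zero h3
  have hneg : ∀ v, X (-v) k = X v k := fun v => by
    rw [← neg_one_smul F v, hX, xThree_smul π hs hc hm h3]; congr 1; ring
  have hzv : X 0 k = 1 := xThree_zero_vec π hs hc hm h3 k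
  have hcube : ∀ v, X v k * X v k * X v k = 1 := fun v => by
    rw [hX, xThree_add π hs hc hm h3, xThree_add π hs hc hm h3,
      show k + k + k = 0 by linear_combination k * h30]
    exact hz v
  rcases eq_or_ne f 0 with rfl | hf
  · rw [add_zero, sub_zero, hzv, mul_one, hcube]
  by_cases hu : ∀ a : F, u ≠ a • f
  swap
  · push Not at hu
    obtain ⟨a, rfl⟩ := hu
    have e2 : ∀ b : F, b = 1 ∨ b = -1 → X (b • f) k = X f k := fun b hb => by
      rcases hb with rfl | rfl <;> simp [hneg]
    rcases three_cases h3 a with rfl | rfl | rfl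
    · rw [zero_smul, zero_add, zero_sub, hneg, hzv, mul_one, hcube]
    · rw [one_smul, sub_self, hzv, mul_one, show f + f = -f by
        rw [eq_neg_iff_add_eq_zero, show f + f + f = (3 : F) • f by module, h30, zero_smul],
        hneg, hcube]
    · rw [neg_one_smul, neg_add_cancel, hzv, one_mul, hneg, show -f - f = f by
        rw [sub_eq_iff_eq_add, neg_eq_iff_add_eq_zero,
          show f + (f + f) = (3 : F) • f by module, h30, zero_smul], hcube]
  obtain ⟨w', hw1, hw2⟩ := exists_perp_apply_eq_one (sympBilin m F) (sympBilin_nondegenerate F m)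
    (Submodule.span F {f}) (x := u) fun h => by
      obtain ⟨a, ha⟩ := Submodule.mem_span_singleton.1 h
      exact hu a ha.symm
  have hw1' := hw1 f (Submodule.mem_span_singleton_self f)
  rw [sympBilin_apply] at hw1' hw2
  have hfw : ω f (-w') = 0 := by rw [sympForm_neg_right, sympForm_swap f w', hw1', neg_zero, neg_zero]
  have huw : ω u (-w') = 1 := by rw [sympForm_neg_right, sympForm_swap u w', hw2, neg_neg]
  have huf : ω u f = 0 := by rw [sympForm_swap, hfu, neg_zero]
  set s := sec π hs (shortT f (-w') 1) with hsdef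
  have act : ∀ v, (π s).1 *ᵥ v = v + ω v f • (-w') + ω v (-w') • f := fun v => by
    rw [hsdef, sigma_sec, shortT_mulVec hfw, one_mul, one_mul]
  have su : (π s).1 *ᵥ u = u + f := by rw [act, huf, huw, zero_smul, add_zero, one_smul]
  have suf : (π s).1 *ᵥ (u + f) = u - f := by
    rw [Matrix.mulVec_add, su, act, sympForm_self, hfw, zero_smul, zero_smul, add_zero, add_zero,
      show u + f + f = u - f + (3 : F) • f by module, h30, zero_smul, add_zero]
  set ξ := X (u + f) k * X u (-k) with hξ
  have hπ : π ξ = shortT f u k * spT f k := by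
    have hcm : Commute (spT f k) (spT u (-k) * spT f (-k)) :=
      (commute_of_fix (by rw [spT_tr, tr_of_perp _ hfu]) k).mul_right
        (commute_of_fix (by rw [spT_tr, tr_of_perp _ (sympForm_self f)]) k)
    rw [hξ, map_mul, hX, xThree_map π hs hc hm h3, xThree_map π hs hc hm h3, shortT, add_comm u f,
      mul_assoc, mul_assoc, spT_add, neg_add_cancel, spT_zero, mul_one]
  have hb : ⁅s, ξ⁆ = X f (-k) := by
    rw [cpair_eq π hs hc (sigma_sec π hs _) hπ, cpair_mul_right_comm π hs hc
      (commute_of_fix (shortT_fix hfw _) k).symm,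
      ← cpair_symm π hs hc (spT f k), long_short π hs hc hm h3 hfw, inv_one, mul_one,
      ← shortT_smul k hfu]
    refine (xThree_eq π hs hc hm h3 hfw (by rw [sympForm_smul_right, hfu, mul_zero]) ?_).symm
    rw [sympForm_smul_right, sympForm_swap (-w') u, huw, mul_neg_one]
  have hc2 : s * ξ * s⁻¹ = X (u - f) k * X (u + f) (-k) := by
    rw [hξ, hX, show s * (xThree π hs hm (u + f) k * xThree π hs hm u (-k)) * s⁻¹ =
      (s * xThree π hs hm (u + f) k * s⁻¹) * (s * xThree π hs hm u (-k) * s⁻¹) by group,
      xThree_equiv π hs hc hm h3, xThree_equiv π hs hc hm h3, su, suf]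
  rw [commutatorElement_def, hc2, mul_inv_eq_iff_eq_mul, hξ, hX] at hb
  simp only [← hX] at hb
  have cm : ∀ p q : Vm, ω q p = 0 → ∀ a b, Commute (X p a) (X q b) := fun p q h a b => by
    have := xThree_equiv π hs hc hm h3 (X p a) q b
    rw [hX, xThree_map π hs hc hm h3, spT_tr, tr_of_perp _ h] at this
    exact mul_inv_eq_iff_eq_mul.1 this
  have h4 : X (u - f) k = X f (-k) * X u (-k) * (X (u + f) k * X (u + f) k) := by
    have e := congrArg (· * X (u + f) k) hb
    simp only [mul_assoc] at e
    rw [hX, xThree_add π hs hc hm h3, neg_add_cancel] at e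
    rw [← hX, hz, mul_one] at e
    rw [e, (cm (u + f) u (by rw [sympForm_add_right, sympForm_self, huf, add_zero]) k (-k)).left_comm,
      mul_assoc]
  have hi : ∀ v, X v (-k) * X v k = 1 := fun v => by
    rw [hX, xThree_add π hs hc hm h3, neg_add_cancel]; exact hz v
  rw [h4, ← mul_assoc (X (u + f) k)]
  calc X (u + f) k * (X f (-k) * X u (-k)) * (X (u + f) k * X (u + f) k) * X f k * X u k
      = (X f (-k) * X u (-k)) * (X (u + f) k * X (u + f) k * X (u + f) k) * X f k * X u k := by
        rw [((cm (u + f) f (by rw [sympForm_add_right, sympForm_self, hfu, add_zero]) k (-k)).mul_right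
          (cm (u + f) u (by rw [sympForm_add_right, sympForm_self, huf, add_zero]) k (-k))).eq]
        simp only [mul_assoc]
    _ = X f (-k) * X u (-k) * X f k * X u k := by rw [hcube, mul_one]
    _ = (X f (-k) * X f k) * (X u (-k) * X u k) := by
        simp only [mul_assoc]
        rw [(cm u f hfu (-k) k).left_comm]
    _ = 1 := by rw [hi, hi, mul_one]

theorem famThree : Fam π (xThree π hs hm) where
  map := xThree_map π hs hc hm h3
  add := xThree_add π hs hc hm h3
  smul := xThree_smul π hs hc hm h3
  conj u d v c := by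
    rw [xThree_equiv π hs hc hm h3, xThree_map π hs hc hm h3, spT_tr]
  seven h := by omega
  plane f u b c hfu hb hc' hbc := by
    have h30 := three_zero h3
    have hcc : c * c = 1 := by
      rcases three_cases h3 c with rfl | rfl | rfl
      · exact absurd rfl hc'
      · exact one_mul _
      · ring
    have hbeq : b = c := by
      rcases three_cases h3 b with rfl | rfl | rfl <;> rcases three_cases h3 c with rfl | rfl | rfl <;>
        first | rfl | contradiction | (exfalso; exact hbc (by ring))
    subst hbeq
    have hbi : b⁻¹ = b := inv_eq_of_mul_eq_one_right hcc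
    have h2b : (b + b)⁻¹ = -b := inv_eq_of_mul_eq_one_right (by
      linear_combination -2 * hcc - h30)
    have h4 : b / (b * (b + b)) = -b := by
      rw [div_mul_eq_div_div, div_self hb, one_div, h2b]
    rw [hbi, h2b, h4]
    set X := xThree π hs hm with hX
    set g := b • f
    have hg : X g b = X f b := by
      rw [hX, xThree_smul π hs hc hm h3]; congr 1; rw [mul_assoc, hcc, mul_one]
    have h := four_lines π hs hc hm h3 (f := g) (u := u)
      (by rw [sympForm_smul_left, hfu, mul_zero]) b
    rw [← hX] at h
    have hinv : ∀ v, (X v b)⁻¹ = X v (-b) := fun v => inv_eq_of_mul_eq_one_right (by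
      rw [hX, xThree_add π hs hc hm h3, add_neg_cancel]
      exact (mul_eq_left).1 (by rw [xThree_add π hs hc hm h3, add_zero] :
        xThree π hs hm v 0 * xThree π hs hm v 0 = xThree π hs hm v 0))
    have hsub : X (g - u) (-b) = X (u - g) (-b) := by
      rw [← neg_sub u g, ← neg_one_smul F (u - g), hX, xThree_smul π hs hc hm h3]
      congr 1; ring
    have huf : ω u g = 0 := by rw [sympForm_smul_right, sympForm_swap u f, hfu, neg_zero, mul_zero]
    have hgu : ω g u = 0 := by rw [sympForm_smul_left, hfu, mul_zero]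
    have hcm : Commute (X (u + g) (-b)) (X (u - g) (-b)) := by
      have := xThree_equiv π hs hc hm h3 (X (u + g) (-b)) (u - g) (-b)
      rw [hX, xThree_map π hs hc hm h3, spT_tr, tr_of_perp] at this
      · exact mul_inv_eq_iff_eq_mul.1 this
      · simp [sympForm_sub_left, sympForm_add_right, sympForm_self, huf, hgu]
    rw [← hg, hsub, hcm.eq, ← hinv, ← hinv, ← mul_inv_rev]
    exact eq_inv_of_mul_eq_one_right (by rw [← mul_assoc]; exact h)

end Cfsg.Agent.Lib.Compute.SpMult
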