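import Cfsg.Agent.Lib.Compute.SpLiftBasic

/-!
Lifted transvection families over the field with two elements.
-/

set_option autoImplicit false
set_option linter.unusedSectionVars false

namespace Cfsg.Agent.Lib.Compute.SpMult

open Cfsg.Agent.Lib.Classical Cfsg.Agent.Lib.Geometry Cfsg.Agent.Lib.Compute.SLSt
open scoped Matrix commutatorElement

variable {F : Type*} [Field F] [Finite F] {m : ℕ} {Γ : Type*} [Group Γ]
  (π : Γ →* Matrix.symplecticGroup (Fin m) F) (hs : Function.Surjective π)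
  (hc : π.ker ≤ Subgroup.center Γ)

set_option quotPrecheck false in
local notation "Spm" => Subtype (fun A => A ∈ Matrix.symplecticGroup (Fin m) F)
set_option quotPrecheck false in
local notation "Vm" => (Fin m ⊕ Fin m → F)
set_option quotPrecheck false in
local notation "ω" => Cfsg.sympForm m F

theorem two_cases (h2 : Nat.card F = 2) (a : F) : a = 0 ∨ a = 1 := by
  rcases eq_or_ne a 0 with rfl | ha
  · exact Or.inl rfl
  haveI := Fintype.ofFinite F
  have h1 := FiniteField.pow_card_sub_one_eq_one a ha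
  rw [← Nat.card_eq_fintype_card, h2, pow_one] at h1
  exact Or.inr h1

/-- A standard basis vector. -/
noncomputable def bas (hm : 4 ≤ m) (i : Fin 4) : Vm :=
  Pi.single (Sum.inl (Fin.castLE hm i)) 1

theorem bas_iso (hm : 4 ≤ m) (i j : Fin 4) : ω (bas (F := F) hm i) (bas hm j) = 0 := by
  rw [sympForm_eq_sum]
  refine Finset.sum_eq_zero fun k _ => ?_
  simp [bas]

theorem li_of_ne (h2 : Nat.card F = 2) {u v : Vm} (hv : v ≠ 0) (h0 : u ≠ 0) (hne : u ≠ v) :
    LinearIndependent F ![v, u] :=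
  li_pair hv fun a e => by
    rcases two_cases h2 a with rfl | rfl
    · exact h0 (by rw [e, zero_smul])
    · exact hne (by rw [e, one_smul])

variable (hm : 4 ≤ m) (h2 : Nat.card F = 2)
include hc hm h2

/-- Lifts of transvections with orthogonal centres commute. -/
theorem perp_comm_two {u v : Vm} (ho : ω v u = 0) (c : F) :
    spT u c ∈ lcomm π hs (spT v (1 : F)) := by
  rcases two_cases h2 c with rfl | rfl
  · rw [spT_zero]; exact one_mem _
  rcases eq_or_ne v 0 with rfl | hv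
  · rw [spT_zero_vec]; exact lcomm_symm π hs hc (one_mem _)
  rcases eq_or_ne u 0 with rfl | hu
  · rw [spT_zero_vec]; exact one_mem _
  rcases eq_or_ne u v with rfl | hne
  · exact lcomm_self π hs hc _
  rw [mem_lcomm_iff π hs hc]
  let b : Fin 4 → Vm := bas hm
  have hb : ∀ i j, ω (b i) (b j) = 0 := bas_iso hm
  have hev : ∀ (z : Vm) (i : Fin 4), z ≠ 0 → z (Sum.inl (Fin.castLE hm i)) = 0 →
      LinearIndependent F ![b i, z] := fun z i hz hzi => li_of_ne h2
    (Pi.single_ne_zero_iff.2 one_ne_zero) hz fun e => by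
      rw [e] at hzi
      simp [b, bas] at hzi
  set ε := cpair π hs (spT (b 1) (1 : F)) (spT (b 0) 1) with hε
  have hcom : ∀ z, ω (b 0) z = 0 → Commute (spT z (1 : F)) (spT (b 0) 1) := fun z h =>
    (commute_of_fix (by rw [spT_tr, tr_of_perp _ h]) 1).symm
  have htr : ∀ (p q : Vm), LinearIndependent F ![q, p] → ω q p = 0 →
      cpair π hs (spT p (1 : F)) (spT q 1) = ε := by
    intro p q hli h
    obtain ⟨g, g0, g1⟩ := exists_map_two (hev (b 1) 0 (Pi.single_ne_zero_iff.2 one_ne_zero)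
      (by simp [b, bas, Pi.single_apply, Fin.ext_iff])) hli (hb 0 1) h
    exact cpair_conj_fix π hs hc (hcom _ (hb 0 1)) (sec π hs g)
      (by rw [sigma_sec, spT_conj, g1]) (by rw [sigma_sec, spT_conj, g0])
  have h7 := spT_seven h2 (b 1) (b 2) (b 3) (hb _ _) (hb _ _) (hb _ _)
  have hz : ∀ z : Vm, z (Sum.inl (Fin.castLE hm 0)) = 0 → z ≠ 0 → ω (b 0) z = 0 →
      cpair π hs (spT z (1 : F)) (spT (b 0) 1) = ε := fun z a1 a2 a3 => htr z (b 0) (hev z 0 a2 a1) a3
  have z2 : b 2 (Sum.inl (Fin.castLE hm 0)) = 0 := by simp [b, bas, Pi.single_apply, Fin.ext_iff]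
  have z1 : b 1 (Sum.inl (Fin.castLE hm 0)) = 0 := by simp [b, bas, Pi.single_apply, Fin.ext_iff]
  have z3 : b 3 (Sum.inl (Fin.castLE hm 0)) = 0 := by simp [b, bas, Pi.single_apply, Fin.ext_iff]
  have o : ∀ p q, ω (b 0) (b p + b q) = 0 := fun p q => by
    rw [sympForm_add_right, hb, hb, add_zero]
  have nz : ∀ z : Vm, (∃ i, z (Sum.inl (Fin.castLE hm i)) = 1) → z ≠ 0 := by
    rintro z ⟨i, hi⟩ rfl
    simp at hi
  have n2 : b 2 ≠ 0 := nz _ ⟨2, by simp [b, bas]⟩
  have n1 : b 1 ≠ 0 := nz _ ⟨1, by simp [b, bas]⟩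
  have n3 : b 3 ≠ 0 := nz _ ⟨3, by simp [b, bas]⟩
  have n21 : b 2 + b 1 ≠ 0 := nz _ ⟨2, by simp [b, bas, Pi.single_apply, Fin.ext_iff]⟩
  have n31 : b 3 + b 1 ≠ 0 := nz _ ⟨3, by simp [b, bas, Pi.single_apply, Fin.ext_iff]⟩
  have n23 : b 2 + b 3 ≠ 0 := nz _ ⟨2, by simp [b, bas, Pi.single_apply, Fin.ext_iff]⟩
  have n231 : b 2 + b 3 + b 1 ≠ 0 := nz _ ⟨2, by simp [b, bas, Pi.single_apply, Fin.ext_iff]⟩
  have o3 : ω (b 0) (b 2 + b 3 + b 1) = 0 := by
    rw [sympForm_add_right, o, hb, add_zero]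
  have hl := congrArg (fun g => cpair π hs g (spT (b 0) (1 : F))) h7
  rw [cpair_mul_left_comm π hs hc (hcom _ (o 3 1)), cpair_mul_left_comm π hs hc (hcom _ (o 2 1)),
    cpair_mul_left_comm π hs hc (hcom _ (hb 0 3)), cpair_mul_left_comm π hs hc (hcom _ o3),
    cpair_mul_left_comm π hs hc (hcom _ (o 2 3)),
    hz _ z2 n2 (hb _ _), hz _ z3 n3 (hb _ _), hz _ z1 n1 (hb _ _),
    hz _ (by simp [z2, z1]) n21 (o 2 1), hz _ (by simp [z3, z1]) n31 (o 3 1),
    hz _ (by simp [z2, z3]) n23 (o 2 3), hz _ (by simp [z2, z3, z1]) n231 o3] at hl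
  have e1 : ε = 1 := mul_eq_left.1 hl
  rw [htr u v (li_of_ne h2 hv hu hne) ho, e1]

theorem fix_comm {g : Spm} {v : Vm} (hg : g.1 *ᵥ v = v) :
    cpair π hs g (spT v (1 : F)) = 1 :=
  lcomm_fix π hs hc (fun _ c h => perp_comm_two π hs hc hm h2 h c) hg

omit hc hm h2 in
theorem exists_trans (v0 v : Vm) (h0 : v0 ≠ 0) : ∃ g : Spm, v ≠ 0 → g.1 *ᵥ v0 = v := by
  by_cases hv : v = 0
  · exact ⟨1, fun h => absurd hv h⟩
  · obtain ⟨g, hg⟩ := exists_sp_mulVec_eq h0 hv
    exact ⟨g, fun _ => hg⟩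

include hs in
/-- A family of lifts. -/
theorem exists_famTwo : ∃ X : Vm → F → Γ, Fam π X := by
  classical
  let b : Fin 4 → Vm := bas hm
  have hb : ∀ i j, ω (b i) (b j) = 0 := bas_iso hm
  have hb0 : b 0 ≠ 0 := Pi.single_ne_zero_iff.2 one_ne_zero
  choose tg htg using fun v => exists_trans (b 0) v hb0
  set Y0 := sec π hs (spT (b 0) (1 : F)) with hY0
  let Y : Vm → Γ := fun v => if v = 0 then 1 else sec π hs (tg v) * Y0 * (sec π hs (tg v))⁻¹
  have hY : ∀ a : Γ, ∀ v, v ≠ 0 → (π a).1 *ᵥ b 0 = v → Y v = a * Y0 * a⁻¹ := by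
    intro a v hv ha
    set t := sec π hs (tg v)
    have hfix : (π (t⁻¹ * a)).1 *ᵥ b 0 = b 0 := by
      rw [map_mul, sp_mulVec_mul, ha, map_inv, sigma_sec]
      exact (congrArg _ (htg v hv)).symm.trans (sp_inv_mulVec_cancel _ _)
    have hcm : Commute (t⁻¹ * a) Y0 :=
      lifts_commute π hs hc (fix_comm π hs hc hm h2 hfix) rfl (sigma_sec π hs _)
    show (if v = 0 then 1 else t * Y0 * t⁻¹) = a * Y0 * a⁻¹
    rw [if_neg hv]
    calc t * Y0 * t⁻¹ = t * (Y0 * (t⁻¹ * a)) * a⁻¹ := by group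
      _ = a * Y0 * a⁻¹ := by rw [← hcm.eq]; group
  have Yeq : ∀ a v, a * Y v * a⁻¹ = Y ((π a).1 *ᵥ v) := by
    intro a v
    rcases eq_or_ne v 0 with rfl | hv
    · rw [Matrix.mulVec_zero]
      simp [Y]
    · have hne : (π a).1 *ᵥ v ≠ 0 := fun h => hv (by
        have := congrArg (fun z => ((π a)⁻¹).1 *ᵥ z) h
        simpa only [sp_inv_mulVec_cancel, Matrix.mulVec_zero] using this)
      rw [hY (sec π hs (tg v)) v hv (by rw [sigma_sec, htg v hv]),
        hY (a * sec π hs (tg v)) _ hne (by rw [map_mul, sp_mulVec_mul, sigma_sec, htg v hv])]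
      group
  have Ymap : ∀ v, π (Y v) = spT v (1 : F) := by
    intro v
    rcases eq_or_ne v 0 with rfl | hv
    · simp [Y, spT_zero_vec]
    · rw [hY (sec π hs (tg v)) v hv (by rw [sigma_sec, htg v hv]), map_mul, map_mul, map_inv,
        sigma_sec, hY0, sigma_sec, spT_conj, htg v hv]
  set ζ := Y0 * Y0 with hζ
  have hζc : ζ ∈ Subgroup.center Γ := hc (by
    rw [MonoidHom.mem_ker, hζ, map_mul, hY0, sigma_sec, spT_add,
      show (1 : F) + 1 = 0 by linear_combination char_two_of_card h2, spT_zero])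
  rw [Subgroup.mem_center_iff] at hζc
  have Ysq : ∀ v, v ≠ 0 → Y v * Y v = ζ := by
    intro v hv
    rw [hY (sec π hs (tg v)) v hv (by rw [sigma_sec, htg v hv])]
    calc _ = sec π hs (tg v) * ζ * (sec π hs (tg v))⁻¹ := by rw [hζ]; group
      _ = ζ := by rw [hζc, mul_inv_cancel_right]
  let four : Vm → Vm → Vm → Γ := fun w f g => Y f * Y g * Y (f + w) * Y (g + w)
  let three : Vm → Vm → Vm → Γ := fun w f g => Y w * Y (f + g) * Y (f + g + w)
  set σ := four (b 1) (b 2) (b 3) * (three (b 1) (b 2) (b 3))⁻¹ with hσ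
  have hσc : σ ∈ Subgroup.center Γ := hc (by
    rw [MonoidHom.mem_ker, hσ, map_mul, map_inv, map_mul, map_mul, map_mul, map_mul, map_mul, Ymap,
      Ymap, Ymap, Ymap, Ymap, Ymap, Ymap,
      spT_seven h2 (b 1) (b 2) (b 3) (hb _ _) (hb _ _) (hb _ _), mul_inv_cancel])
  rw [Subgroup.mem_center_iff] at hσc
  have hev : ∀ i : Fin 4, ∀ j : Fin 4, b j (Sum.inl (Fin.castLE hm i)) = if i = j then 1 else 0 := by
    intro i j
    simp [b, bas, Pi.single_apply, Fin.ext_iff]
  have hli : LinearIndependent F ![b 1, b 2, b 3] := by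
    rw [Fintype.linearIndependent_iff]
    intro c hcs
    rw [Fin.sum_univ_three] at hcs
    have e1 := congrFun hcs (Sum.inl (Fin.castLE hm 1))
    have e2 := congrFun hcs (Sum.inl (Fin.castLE hm 2))
    have e3 := congrFun hcs (Sum.inl (Fin.castLE hm 3))
    simp [hev] at e1 e2 e3
    intro i
    fin_cases i
    exacts [e1, e2, e3]
  have hall : ∀ w f g, LinearIndependent F ![w, f, g] → ω w f = 0 → ω w g = 0 → ω f g = 0 →
      four w f g = σ * three w f g := by
    intro w f g h o1 o2 o3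
    obtain ⟨t, t1, t2, t3⟩ := exists_map_three hli h ⟨hb _ _, hb _ _, hb _ _⟩ ⟨o1, o2, o3⟩
    set a := sec π hs t
    have hy : ∀ v, a * Y v * a⁻¹ = Y (t.1 *ᵥ v) := fun v => by rw [Yeq, sigma_sec]
    have hf : a * four (b 1) (b 2) (b 3) * a⁻¹ = four w f g := by
      simp only [four]
      rw [← t1, ← t2, ← t3, ← Matrix.mulVec_add, ← Matrix.mulVec_add, ← hy, ← hy, ← hy, ← hy]
      group
    have ht : a * three (b 1) (b 2) (b 3) * a⁻¹ = three w f g := by
      simp only [three]
      rw [← t1, ← t2, ← t3, ← Matrix.mulVec_add, ← Matrix.mulVec_add, ← hy, ← hy, ← hy]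
      group
    rw [← hf, ← ht, show four (b 1) (b 2) (b 3) = σ * three (b 1) (b 2) (b 3) by
      rw [hσ, inv_mul_cancel_right], ← mul_assoc a σ, hσc a]
    group
  have hcm : ∀ p q : Vm, ω q p = 0 → Commute (Y p) (Y q) := fun p q h => by
    have := Yeq (Y p) q
    rw [Ymap, spT_tr, tr_of_perp _ h] at this
    exact mul_inv_eq_iff_eq_mul.1 this
  have hne : ∀ {z : Vm} (i : Fin 4), z (Sum.inl (Fin.castLE hm i)) = 1 → z ≠ 0 := fun {z} i h e => by
    rw [e] at h; simp at h
  have hb2 : ∀ p q r, ω (b p + b q) (b r) = 0 := fun p q r => by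
    rw [sympForm_add_left, hb, hb, add_zero]
  have sqm : ∀ {x y : Γ}, Commute x y → x * y * (x * y) = (x * x) * (y * y) := fun h =>
    h.symm.mul_mul_mul_comm _ _
  have fsq : four (b 1) (b 2) (b 3) * four (b 1) (b 2) (b 3) = ζ * ζ * ζ * ζ := by
    simp only [four]
    have c12 : Commute (Y (b 2)) (Y (b 3)) := hcm _ _ (hb _ _)
    have c123 : Commute (Y (b 2) * Y (b 3)) (Y (b 2 + b 1)) :=
      (hcm _ _ (hb2 _ _ _)).mul_left (hcm _ _ (hb2 _ _ _))
    have c1234 : Commute (Y (b 2) * Y (b 3) * Y (b 2 + b 1)) (Y (b 3 + b 1)) :=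
      ((hcm _ _ (hb2 _ _ _)).mul_left (hcm _ _ (hb2 _ _ _))).mul_left (hcm _ _ (by
        rw [sympForm_add_right, hb2, hb2, add_zero]))
    rw [sqm c1234, sqm c123, sqm c12, Ysq _ (hne 2 (by simp [hev])), Ysq _ (hne 3 (by simp [hev])),
      Ysq _ (hne 2 (by simp [hev])), Ysq _ (hne 3 (by simp [hev]))]
  have tsq : three (b 1) (b 2) (b 3) * three (b 1) (b 2) (b 3) = ζ * ζ * ζ := by
    simp only [three]
    have c12 : Commute (Y (b 1)) (Y (b 2 + b 3)) := hcm _ _ (hb2 _ _ _)
    have c123 : Commute (Y (b 1) * Y (b 2 + b 3)) (Y (b 2 + b 3 + b 1)) :=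
      (hcm _ _ (by rw [sympForm_add_left, hb2, hb, add_zero])).mul_left (hcm _ _ (by
        rw [sympForm_add_left, sympForm_self, sympForm_add_right, hb, hb, add_zero, add_zero]))
    rw [sqm c123, sqm c12, Ysq _ (hne 1 (by simp [hev])), Ysq _ (hne 2 (by simp [hev])),
      Ysq _ (hne 2 (by simp [hev]))]
  have hσ2 : σ * σ = ζ := by
    have e : four (b 1) (b 2) (b 3) = σ * three (b 1) (b 2) (b 3) := by
      rw [hσ, inv_mul_cancel_right]
    have h := fsq
    rw [e, sqm (hσc _).symm, tsq] at h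
    refine mul_right_cancel (b := ζ * ζ * ζ) ?_
    rw [h]
    simp only [mul_assoc]
  set z := σ⁻¹ with hz
  have hzc : ∀ x, Commute x z := fun x => (show Commute x σ from hσc x).inv_right
  refine ⟨fun v c => if c = 0 ∨ v = 0 then 1 else Y v * z, ?_⟩
  have hmap : ∀ v c, π (if c = 0 ∨ v = 0 then 1 else Y v * z) = spT v c := by
    intro v c
    split_ifs with h
    · rcases h with rfl | rfl
      · rw [map_one, spT_zero]
      · rw [map_one, spT_zero_vec]
    · push Not at h
      rw [(two_cases h2 c).resolve_left h.1, map_mul, Ymap, hz, map_inv,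
        show π σ = 1 from by
          rw [hσ, map_mul, map_inv, map_mul, map_mul, map_mul, map_mul, map_mul, Ymap, Ymap, Ymap,
            Ymap, Ymap, Ymap, Ymap,
            spT_seven h2 (b 1) (b 2) (b 3) (hb _ _) (hb _ _) (hb _ _), mul_inv_cancel],
        inv_one, mul_one]
  refine ⟨hmap, fun v c d => ?_, fun a v c => ?_, fun u d v c => ?_, fun f u b c _ hb' hc' hbc => ?_,
    fun _ w f g hl o1 o2 o3 => ?_⟩
  · rcases eq_or_ne v 0 with rfl | hv
    · simp
    rcases two_cases h2 c with rfl | rfl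
    · simp
    rcases two_cases h2 d with rfl | rfl
    · simp
    rw [show (1 : F) + 1 = 0 by linear_combination char_two_of_card h2]
    simp only [one_ne_zero, hv, or_self, if_false, true_or, if_true]
    calc Y v * z * (Y v * z) = (Y v * Y v) * (z * z) := sqm (hzc _)
      _ = 1 := by rw [Ysq v hv, hz, ← mul_inv_rev, hσ2, mul_inv_cancel]
  · rcases two_cases h2 a with rfl | rfl
    · simp
    · simp
  · have hfix : (spT u d).1 *ᵥ v = 0 ↔ v = 0 := by
      constructor
      · intro h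
        have := congrArg (fun x => ((spT u d)⁻¹).1 *ᵥ x) h
        simpa only [sp_inv_mulVec_cancel, Matrix.mulVec_zero] using this
      · rintro rfl; rw [Matrix.mulVec_zero]
    rw [← spT_tr]
    set A : Γ := if d = 0 ∨ u = 0 then 1 else Y u * z
    by_cases h : c = 0 ∨ v = 0
    · rw [if_pos h, if_pos (h.imp_right hfix.2), mul_one, mul_inv_cancel]
    · rw [if_neg h, if_neg (fun h' => h (h'.imp_right hfix.1)),
        show A * (Y v * z) * A⁻¹ = A * Y v * A⁻¹ * z by
          rw [mul_assoc (A * Y v) A⁻¹, (hzc A⁻¹).eq]; group, Yeq, hmap]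
  · exfalso
    apply hbc
    rw [(two_cases h2 b).resolve_left hb', (two_cases h2 c).resolve_left hc']
    linear_combination char_two_of_card h2
  · have key := hall w f g hl o1 o2 o3
    have hl' := hl
    rw [Fintype.linearIndependent_iff] at hl'
    have nn : ∀ c : Fin 3 → F, c ≠ 0 → c 0 • w + c 1 • f + c 2 • g ≠ 0 := fun c hc' e =>
      hc' (funext fun i => hl' c (by rw [Fin.sum_univ_three]; simpa using e) i)
    have hw : w ≠ 0 := by simpa using nn ![1, 0, 0] (by intro h; simpa using congrFun h 0)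
    have hf : f ≠ 0 := by simpa using nn ![0, 1, 0] (by intro h; simpa using congrFun h 1)
    have hg : g ≠ 0 := by simpa using nn ![0, 0, 1] (by intro h; simpa using congrFun h 2)
    have hfw : f + w ≠ 0 := by
      simpa [add_comm] using nn ![1, 1, 0] (by intro h; simpa using congrFun h 0)
    have hgw : g + w ≠ 0 := by
      simpa [add_comm] using nn ![1, 0, 1] (by intro h; simpa using congrFun h 0)
    have hfg : f + g ≠ 0 := by
      simpa using nn ![0, 1, 1] (by intro h; simpa using congrFun h 1)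
    have hfgw : f + g + w ≠ 0 := by
      have := nn ![1, 1, 1] (by intro h; simpa using congrFun h 0)
      intro e; apply this; rw [← e]; simp; abel
    simp only [one_ne_zero, hw, hf, hg, hfw, hgw, hfg, hfgw, or_self, if_false]
    have mv : ∀ x y : Γ, x * z * (y * z) = x * y * (z * z) := fun x y => by
      rw [mul_assoc x z, ← mul_assoc z y, ← (hzc y).eq]; group
    calc Y f * z * (Y g * z) * (Y (f + w) * z) * (Y (g + w) * z)
        = four w f g * (z * z * z * z) := by
          simp only [four]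
          rw [mv]
          have p : ∀ (x : Γ) (k : Γ), (∀ y, Commute y k) → ∀ y, x * k * (y * z) = x * y * (k * z) :=
            fun x k hk y => by rw [mul_assoc x k, ← mul_assoc k y, ← (hk y).eq]; group
          rw [p _ (z * z) (fun y => (hzc y).mul_right (hzc y)),
            p _ (z * z * z) (fun y => ((hzc y).mul_right (hzc y)).mul_right (hzc y))]
      _ = σ * three w f g * (z * z * z * z) := by rw [key]
      _ = three w f g * (z * z * z) := by
          rw [← hσc (three w f g), hz]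
          have : σ * (σ⁻¹ * σ⁻¹ * σ⁻¹ * σ⁻¹) = σ⁻¹ * σ⁻¹ * σ⁻¹ := by group
          rw [mul_assoc, this]
      _ = _ := by
          simp only [three]
          rw [mv, mul_assoc _ (z * z), ← mul_assoc (z * z),
            ← ((hzc (Y (f + g + w))).mul_right (hzc (Y (f + g + w)))).eq]
          group

end Cfsg.Agent.Lib.Compute.SpMult
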