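import Cfsg.Agent.Lib.Compute.SpLiftTwo
import Cfsg.Agent.Lib.Compute.SpLiftThree
import Cfsg.Agent.Lib.Chev.Mult.Basic
import Cfsg.Agent.Lib.Classical.SympSimple

/-!
The Schur multiplier of `PSp_{2m}`.
-/

set_option autoImplicit false
set_option linter.unusedSectionVars false

namespace Cfsg.Agent.Lib.Compute.SpMult

open Cfsg.Agent.Lib.Classical Cfsg.Agent.Lib.Geometry
open scoped Matrix commutatorElement

universe u

variable {F : Type u} [Field F] [Finite F] {m : ℕ}

/-- Central extensions of `Sp_{2m}` split. -/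
theorem exists_splitting (hm : 2 ≤ m) (h2 : m = 2 → 3 ≤ Nat.card F)
    (hexc : m = 3 → Nat.card F ≠ 2) {Γ : Type u} [Group Γ]
    (π : Γ →* Matrix.symplecticGroup (Fin m) F) (hs : Function.Surjective π)
    (hc : π.ker ≤ Subgroup.center Γ) :
    ∃ τ : Matrix.symplecticGroup (Fin m) F →* Γ, ∀ g, π (τ g) = g := by
  have hq : 2 ≤ Nat.card F := Finite.one_lt_card
  by_cases h4 : 4 ≤ Nat.card F
  · obtain ⟨s, hs0, hs2⟩ := exists_sq_ne h4
    exact (famFour π hs hc hm hs0 hs2).exists_section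
  by_cases h3 : Nat.card F = 3
  · exact (famThree π hs hc hm h3).exists_section
  have hc2 : Nat.card F = 2 := by omega
  have hm4 : 4 ≤ m := by
    have h22 : m ≠ 2 := fun h => by have := h2 h; omega
    have h33 : m ≠ 3 := fun h => hexc h hc2
    omega
  obtain ⟨X, hX⟩ := exists_famTwo π hs hc hm4 hc2
  exact hX.exists_section

/-- The multiplier. -/
theorem psp_multiplier [Fintype F] {q : ℕ} (hF : Fintype.card F = q) (hm : 2 ≤ m)
    (h2 : m = 2 → 3 ≤ q) (hexc : ¬ (m = 3 ∧ q = 2)) :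
    Cfsg.HasCyclicSchurMultiplier (Cfsg.PSp m F) (Nat.gcd 2 (q - 1)) := by
  subst hF
  have hperf : commutator (Matrix.symplecticGroup (Fin m) F) = ⊤ :=
    commutator_sp_eq_top (sp_perfect_cond_of_card (by
      rcases hm.eq_or_lt with rfl | hm'
      · exact Or.inr (Or.inl ⟨rfl, h2 rfl⟩)
      · exact Or.inl hm'))
  have hker : (QuotientGroup.mk' (Subgroup.center (Matrix.symplecticGroup (Fin m) F))).ker ≤
      Subgroup.center _ := (QuotientGroup.ker_mk' _).le
  haveI hcy : IsCyclic (Subgroup.center (Matrix.symplecticGroup (Fin m) F)) := by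
    rcases (Nat.dvd_prime Nat.prime_two).1 (card_center_sp (F := F) (m := m) (by omega) ▸
      Nat.gcd_dvd_left 2 (Fintype.card F - 1)) with h | h
    · haveI := (Nat.card_eq_one_iff_unique.1 h).1
      infer_instance
    · haveI : Fact (Nat.Prime 2) := ⟨Nat.prime_two⟩
      exact isCyclic_of_prime_card h
  have e0 : (QuotientGroup.mk' (Subgroup.center (Matrix.symplecticGroup (Fin m) F))).ker ≃*
      Multiplicative (ZMod (Nat.gcd 2 (Fintype.card F - 1))) :=
    (MulEquiv.subgroupCongr (QuotientGroup.ker_mk' _)).trans (mulEquivOfCyclicCardEq (by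
      rw [card_center_sp (by omega), Nat.card_congr Multiplicative.toAdd, Nat.card_zmod]))
  refine Cfsg.Agent.Lib.Chev.hasSchurMultiplier_of_universal
    (QuotientGroup.mk' (Subgroup.center (Matrix.symplecticGroup (Fin m) F)))
    (QuotientGroup.mk'_surjective _) hker hperf (fun Γ _ _ σ hs hc => ?_) e0
  let P : Subgroup (Matrix.symplecticGroup (Fin m) F × Γ) :=
    ((QuotientGroup.mk' (Subgroup.center _)).comp (MonoidHom.fst _ Γ)).eqLocus
      (σ.comp (MonoidHom.snd _ Γ))
  let p : P →* Matrix.symplecticGroup (Fin m) F := (MonoidHom.fst _ Γ).comp P.subtype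
  have hp : Function.Surjective p := fun s => by
    obtain ⟨g, hg⟩ := hs (QuotientGroup.mk' _ s)
    exact ⟨⟨(s, g), hg.symm⟩, rfl⟩
  have hpk : p.ker ≤ Subgroup.center P := by
    intro x hx
    have h1 : x.1.1 = 1 := hx
    have h2' : x.1.2 ∈ Subgroup.center Γ := hc (by
      rw [MonoidHom.mem_ker]
      refine (x.2 : QuotientGroup.mk' _ x.1.1 = σ x.1.2).symm.trans ?_
      show QuotientGroup.mk' (Subgroup.center _) x.1.1 = 1
      rw [h1, map_one])
    refine Subgroup.mem_center_iff.2 fun y => Subtype.ext (Prod.ext ?_ ?_)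
    · show y.1.1 * x.1.1 = x.1.1 * y.1.1
      rw [h1, mul_one, one_mul]
    · exact Subgroup.mem_center_iff.1 h2' _
  obtain ⟨τ, hτ⟩ := exists_splitting hm (fun h => by rw [Nat.card_eq_fintype_card]; exact h2 h)
    (fun h e => hexc ⟨h, by rwa [Nat.card_eq_fintype_card] at e⟩) p hp hpk
  refine ⟨(MonoidHom.snd _ Γ).comp (P.subtype.comp τ), MonoidHom.ext fun s => ?_⟩
  exact ((τ s).2 : QuotientGroup.mk' _ (τ s).1.1 = σ (τ s).1.2).symm.trans
    (congrArg (QuotientGroup.mk' _) (hτ s))

end Cfsg.Agent.Lib.Compute.SpMult
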