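import Cfsg.Agent.Lib.Compute.MultCert
import Cfsg.Agent.Lib.Compute.FusionSimple

/-!
# A central extension by a group of order two splits over a certified Sylow subgroup

The tails `v a i` of `s a * G i` against `s (a * g i)` satisfy linear equations over `ZMod 2`:
loops of a relator do not depend on the starting point, and squares and commutators are invariant
under conjugation in the whole group.  A triangular certificate shows that all tails vanish.
-/

set_option autoImplicit false
set_option linter.unusedSectionVars false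

namespace Cfsg.Agent.Lib.Compute

open Equiv
open scoped commutatorElement

/-- Lookup in a list cut into chunks of `64`. -/
def getC {α : Type} (d : α) (L : List (List α)) (i : ℕ) : α := (L.getD (i / 64) []).getD (i % 64) d

/-- The equations. -/
inductive SEq where
  | tree (a : ℕ)
  | loop (a : ℕ) (w₁ w₂ : List ℕ)
  | sq (x y : ℕ) (g : List ℕ)
  | com (x y x' y' : ℕ) (g : List ℕ)
  | sqs (x y x' y' : ℕ) (g : List ℕ)

/-- The table of the Sylow subgroup: packed elements, their words, and the packed tables of right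
multiplication by the generators. -/
structure STab where
  N : ℕ
  k : ℕ
  els : List (List ℕ)
  word : List (List (List ℕ))
  T : List ℕ

/-- The `a`-th element. -/
def STab.el (t : STab) (a : ℕ) : ℕ := getC 0 t.els a

/-- The word of the `a`-th element. -/
def STab.wd (t : STab) (a : ℕ) : List ℕ := getC [] t.word a

/-- Right multiplication by a generator. -/
def STab.next (t : STab) (a i : ℕ) : ℕ := app (t.T.getD i 0) a

/-- The mask of the tails met along a word. -/
def STab.mask (t : STab) : ℕ → List ℕ → ℕ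
  | _, [] => 0
  | a, i :: w => (1 <<< (a * t.k + i)) ^^^ t.mask (t.next a i) w

/-- The end point of a word. -/
def STab.stop (t : STab) : ℕ → List ℕ → ℕ
  | a, [] => a
  | a, i :: w => t.stop (t.next a i) w

variable {n : ℕ}

/-- Conjugation `g * x * g⁻¹ = y` on table elements. -/
def STab.conjOk (t : STab) (n : ℕ) (c : List Lvl) (g : List ℕ) (x y : ℕ) : Bool :=
  (List.range n).all fun i => sift c g (app (t.el x) i) == app (t.el y) (sift c g i)

/-- The mask of an equation. -/
def STab.eqMask (t : STab) : SEq → ℕ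
  | .tree a => t.mask 0 (t.wd a)
  | .loop a w₁ w₂ => t.mask 0 w₁ ^^^ t.mask 0 w₂ ^^^ (t.mask a w₁ ^^^ t.mask a w₂)
  | .sq x y _ => t.mask 0 (t.wd x ++ t.wd x) ^^^ t.mask 0 (t.wd y ++ t.wd y)
  | .com x y x' y' _ => t.mask 0 (t.wd x ++ t.wd y) ^^^ t.mask 0 (t.wd y ++ t.wd x) ^^^
      (t.mask 0 (t.wd x' ++ t.wd y') ^^^ t.mask 0 (t.wd y' ++ t.wd x'))
  | .sqs x y x' y' _ => t.mask 0 (t.wd x ++ t.wd x) ^^^ t.mask 0 (t.wd y ++ t.wd y) ^^^
      (t.mask 0 (t.wd x' ++ t.wd x') ^^^ t.mask 0 (t.wd y' ++ t.wd y'))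

/-- The side conditions of an equation. -/
def STab.eqOk (t : STab) (n : ℕ) (c : List Lvl) : SEq → Bool
  | .tree a => decide (a < t.N)
  | .loop a w₁ w₂ => decide (a < t.N) && (w₁ ++ w₂).all (fun i => decide (i < t.k)) &&
      t.stop 0 w₁ == t.stop 0 w₂ && t.stop a w₁ == t.stop a w₂
  | .sq x y g => decide (x < t.N) && decide (y < t.N) && t.conjOk n c g x y &&
      t.stop 0 (t.wd x ++ t.wd x) == 0 && t.stop 0 (t.wd y ++ t.wd y) == 0
  | .com x y x' y' g => decide (x < t.N) && decide (y < t.N) && decide (x' < t.N) &&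
      decide (y' < t.N) && t.conjOk n c g x x' && t.conjOk n c g y y' &&
      t.stop 0 (t.wd x ++ t.wd y) == t.stop 0 (t.wd y ++ t.wd x) &&
      t.stop 0 (t.wd x' ++ t.wd y') == t.stop 0 (t.wd y' ++ t.wd x')
  | .sqs x y x' y' g => decide (x < t.N) && decide (y < t.N) && decide (x' < t.N) &&
      decide (y' < t.N) && t.conjOk n c g x x' && t.conjOk n c g y y' &&
      t.stop 0 (t.wd x ++ t.wd x) == t.stop 0 (t.wd y ++ t.wd y) &&
      t.stop 0 (t.wd x' ++ t.wd x') == t.stop 0 (t.wd y' ++ t.wd y')

/-- The table is the one of a subgroup of the certified group. -/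
def STab.tabOk (t : STab) (n : ℕ) (gens : List ℕ) : Bool :=
  (t.k == gens.length) && decide (0 < t.N) && (t.wd 0 == []) &&
    (List.range t.N).all fun a =>
      (t.stop 0 (t.wd a) == a) && (t.wd a).all (fun i => decide (i < t.k)) &&
      ((a == 0) || (List.range n).any fun j => app (t.el a) j != j) &&
      (List.range n).all (fun j => decide (app (t.el 0) j = j)) &&
      (List.range t.k).all fun i => decide (t.next a i < t.N) &&
        (List.range n).all fun j => app (t.el (t.next a i)) j == app (t.el a) (app (gens.getD i 0) j)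

/-- The mask of a row given by its top and its other bits. -/
def rowMask (r : ℕ × List ℕ) : ℕ := r.2.foldl (fun m j => m ^^^ (1 <<< j)) (1 <<< r.1)

/-- A step of the certificate: an equation, earlier rows, and the new row. -/
structure SStep where
  eq : SEq
  chain : List ℕ
  top : ℕ
  rest : List ℕ

/-- The default step. -/
def SStep.dflt : SStep := ⟨.tree 0, [], 0, []⟩

/-- The triangular certificate. -/
def STab.certOk (t : STab) (n : ℕ) (c : List Lvl) (len : ℕ) (steps : List (List SStep))
    (pos : List (List ℕ)) : Bool :=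
  ((List.range len).all fun j =>
    let s := getC SStep.dflt steps j
    t.eqOk n c s.eq && s.chain.all (fun l => decide (l < j)) &&
      s.rest.all (fun l => decide (l < s.top)) &&
      (s.chain.foldl (fun m l =>
        m ^^^ rowMask ((getC SStep.dflt steps l).top, (getC SStep.dflt steps l).rest))
        (t.eqMask s.eq) == rowMask (s.top, s.rest))) &&
  (List.range (t.N * t.k)).all fun h =>
    decide (getC 0 pos h < len) && (getC SStep.dflt steps (getC 0 pos h)).top == h

/-- The parity of the tails in a mask. -/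
noncomputable def par (M : ℕ) (v : ℕ → ZMod 2) (m : ℕ) : ZMod 2 :=
  ∑ j ∈ Finset.range M, if m.testBit j then v j else 0

theorem par_xor (M : ℕ) (v : ℕ → ZMod 2) (a b : ℕ) : par M v (a ^^^ b) = par M v a + par M v b := by
  rw [par, par, par, ← Finset.sum_add_distrib]
  refine Finset.sum_congr rfl fun j _ => ?_
  rw [Nat.testBit_xor]
  cases a.testBit j <;> cases b.testBit j <;> simp [CharTwo.add_self_eq_zero]

theorem par_shift {M : ℕ} (v : ℕ → ZMod 2) {j : ℕ} (hj : j < M) : par M v (1 <<< j) = v j := by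
  rw [par, Finset.sum_eq_single_of_mem j (Finset.mem_range.mpr hj)]
  · rw [Nat.one_shiftLeft, Nat.testBit_two_pow_self, if_pos rfl]
  · intro b _ hb
    rw [Nat.one_shiftLeft, Nat.testBit_two_pow_of_ne (Ne.symm hb)]
    simp

theorem par_zero (M : ℕ) (v : ℕ → ZMod 2) : par M v 0 = 0 := by simp [par]

theorem par_foldl {β : Type*} (M : ℕ) (v : ℕ → ZMod 2) (f : β → ℕ) (l : List β) (m : ℕ)
    (h : ∀ b ∈ l, par M v (f b) = 0) :
    par M v (l.foldl (fun m b => m ^^^ f b) m) = par M v m := by
  induction l generalizing m with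
  | nil => rfl
  | cons b l ih =>
    rw [List.foldl_cons, ih _ fun x hx => h x (List.mem_cons_of_mem _ hx), par_xor,
      h b List.mem_cons_self, add_zero]

variable {Δ : Type*} [Group Δ]

/-- **Splitting over the Sylow subgroup.** -/
theorem eq_one_of_twoSplit [Finite Δ] {c : List Lvl} (hc : chk n c = true)
    (τ : Δ →* grp n c) (hτ : Function.Surjective τ) (hcen : τ.ker ≤ Subgroup.center Δ) {z : Δ}
    (hz : z ∈ τ.ker) (hz' : z ∈ commutator Δ) (hz2 : z ^ 2 = 1)
    (hker : ∀ u ∈ τ.ker, u = 1 ∨ u = z) {gens : List ℕ} {wit : List (List ℕ)}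
    (hgens : ((List.range gens.length).all fun i =>
      memOk n c (gens.getD i 0) (wit.getD i [])) = true)
    (t : STab) (ht : t.tabOk n gens = true) {len : ℕ} {steps : List (List SStep)}
    {pos : List (List ℕ)} (hcert : t.certOk n c len steps pos = true)
    {cS : List Lvl} (hS : chk n cS = true) {ssteps : List (ℕ × ℕ × ℕ × Bool)}
    (hslp : slpOk n gens ssteps = true) (hcov : slpCovers gens ssteps cS = true)
    {d : ℕ} (hd : certOrder c = certOrder cS * d) (hodd : Nat.Coprime 2 d) : z = 1 := by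
  classical
  by_contra hz1
  simp only [List.all_eq_true, List.mem_range] at hgens
  have hgm : ∀ i < gens.length, Valid n (gens.getD i 0) ∧ toPerm n (gens.getD i 0) ∈ grp n c :=
    fun i hi => mem_grp_of_memOk hc (hgens i hi)
  let gi : ℕ → grp n c := fun i =>
    if h : i < gens.length then ⟨_, (hgm i h).2⟩ else 1
  choose G hG using fun i => hτ (gi i)
  let W : List ℕ → Δ := fun w => (w.map G).prod
  simp only [STab.tabOk, Bool.and_eq_true, beq_iff_eq, decide_eq_true_eq, List.all_eq_true,
    Bool.or_eq_true, List.any_eq_true, bne_iff_ne, List.mem_range] at ht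
  obtain ⟨⟨⟨hk, hN⟩, hw0⟩, htab⟩ := ht
  let s : ℕ → Δ := fun a => W (t.wd a)
  have hs0 : s 0 = 1 := by simp [s, W, hw0]
  have hWapp : ∀ u w, W (u ++ w) = W u * W w := fun u w => by simp [W]
  -- images
  have hrepr : ∀ a < t.N, ∀ w : List ℕ, (∀ i ∈ w, i < t.k) → ∀ σ : Perm (Fin n),
      Repr σ (app (t.el a)) → t.stop a w < t.N ∧
        Repr (σ * ((τ (W w) : grp n c) : Perm (Fin n))) (app (t.el (t.stop a w))) := by
    intro a ha w
    induction w generalizing a with
    | nil =>
      intro _ σ hσ
      exact ⟨ha, by simpa [W, STab.stop] using hσ⟩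
    | cons i w ih =>
      intro hw σ hσ
      have hi : i < t.k := hw i List.mem_cons_self
      obtain ⟨hlt, hmul⟩ := (htab a ha).2 i hi
      have hi' : i < gens.length := hk ▸ hi
      have hgi : ((τ (G i) : grp n c) : Perm (Fin n)) = toPerm n (gens.getD i 0) := by
        rw [hG]; simp only [gi, dif_pos hi']
      have hr : Repr (σ * ((τ (G i) : grp n c) : Perm (Fin n))) (app (t.el (t.next a i))) := by
        intro j
        rw [hgi, Perm.mul_apply, hσ, (hgm i hi').1.repr, hmul j j.isLt]
      obtain ⟨h1, h2⟩ := ih (t.next a i) hlt (fun j hj => hw j (List.mem_cons_of_mem _ hj)) _ hr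
      refine ⟨h1, ?_⟩
      simp only [W, List.map_cons, List.prod_cons, map_mul, Subgroup.coe_mul, ← mul_assoc]
      exact h2
  have hone : Repr (1 : Perm (Fin n)) (app (t.el 0)) := fun j =>
    ((htab 0 hN).1.2 j j.isLt).symm
  have hwd : ∀ a < t.N, ∀ i ∈ t.wd a, i < t.k := fun a ha => (htab a ha).1.1.1.2
  have himg : ∀ a < t.N, Repr ((τ (s a) : grp n c) : Perm (Fin n)) (app (t.el a)) := by
    intro a ha
    have h := (hrepr 0 hN (t.wd a) (hwd a ha) 1 hone).2
    rwa [one_mul, (htab a ha).1.1.1.1] at h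
  -- the tails
  let zp : ZMod 2 → Δ := fun u => if u = 0 then 1 else z
  have hzadd : ∀ u w, zp (u + w) = zp u * zp w := by
    intro u w
    have : ∀ u : ZMod 2, u = 0 ∨ u = 1 := by decide
    rcases this u with rfl | rfl <;> rcases this w with rfl | rfl <;>
      simp [zp, CharTwo.add_self_eq_zero, ← sq, hz2]
  have hzinj : ∀ u w, zp u = zp w → u = w := by
    intro u w h
    have : ∀ u : ZMod 2, u = 0 ∨ u = 1 := by decide
    rcases this u with rfl | rfl <;> rcases this w with rfl | rfl <;> simp_all [zp]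
  have hzc : ∀ u, zp u ∈ Subgroup.center Δ := fun u => by
    simp only [zp]; split
    · exact one_mem _
    · exact hcen hz
  let v : ℕ → ZMod 2 := fun j =>
    if s (j / t.k) * G (j % t.k) = s (t.next (j / t.k) (j % t.k)) then 0 else 1
  have hstep : ∀ a < t.N, ∀ i < t.k,
      s a * G i = zp (v (a * t.k + i)) * s (t.next a i) := by
    intro a ha i hi
    have hk0 : 0 < t.k := by omega
    have e1 : (a * t.k + i) / t.k = a := by
      rw [mul_comm, Nat.mul_add_div hk0, Nat.div_eq_of_lt hi, add_zero]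
    have e2 : (a * t.k + i) % t.k = i := by
      rw [mul_comm, Nat.mul_add_mod, Nat.mod_eq_of_lt hi]
    simp only [v, e1, e2]
    split
    · next h => simpa [zp] using h
    · next h =>
      have hmem : s a * G i * (s (t.next a i))⁻¹ ∈ τ.ker := by
        rw [MonoidHom.mem_ker, map_mul, map_inv, mul_inv_eq_one]
        have h1 := (hrepr a ha [i] (by simpa using hi) _ (himg a ha)).2
        simp only [STab.stop, W, List.map_cons, List.map_nil, List.prod_cons, List.prod_nil,
          mul_one] at h1
        refine Subtype.ext (Repr.eq ?_ (himg _ ((htab a ha).2 i hi).1) fun _ _ => rfl)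
        rw [map_mul, Subgroup.coe_mul]
        exact h1
      rcases hker _ hmem with h1 | h1
      · exact absurd (mul_inv_eq_one.mp h1) h
      · rw [show zp 1 = z from if_neg one_ne_zero]
        exact mul_inv_eq_iff_eq_mul.mp h1
  set M := t.N * t.k with hM
  have hbit : ∀ a < t.N, ∀ i < t.k, a * t.k + i < M := by
    intro a ha i hi
    have := Nat.mul_le_mul_right t.k (Nat.succ_le_of_lt ha)
    rw [Nat.succ_mul] at this
    omega
  have hpath : ∀ a < t.N, ∀ w : List ℕ, (∀ i ∈ w, i < t.k) →
      s a * W w = zp (par M v (t.mask a w)) * s (t.stop a w) := by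
    intro a ha w
    induction w generalizing a with
    | nil => intro _; simp [STab.mask, STab.stop, par_zero, zp, W]
    | cons i w ih =>
      intro hw
      have hi : i < t.k := hw i List.mem_cons_self
      have e : W (i :: w) = G i * W w := by simp [W]
      rw [e, ← mul_assoc, hstep a ha i hi, mul_assoc,
        ih (t.next a i) ((htab a ha).2 i hi).1 fun j hj => hw j (List.mem_cons_of_mem _ hj),
        STab.mask, STab.stop, par_xor, par_shift v (hbit a ha i hi), hzadd, mul_assoc]
  have hprod : ∀ x < t.N, ∀ y < t.N,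
      s x * s y = zp (par M v (t.mask 0 (t.wd x ++ t.wd y))) * s (t.stop 0 (t.wd x ++ t.wd y)) := by
    intro x hx y hy
    have h := hpath 0 hN (t.wd x ++ t.wd y) (by
      intro i hi
      rcases List.mem_append.mp hi with h | h
      exacts [hwd x hx i h, hwd y hy i h])
    rwa [hs0, one_mul, hWapp] at h
  have hconj : ∀ g x y, x < t.N → y < t.N → t.conjOk n c g x y = true →
      ∀ L, τ L = ⟨siftPerm n c g, (sift_spec hc g).2⟩ →
      L * s x * L⁻¹ * (s y)⁻¹ ∈ τ.ker := by
    intro g x y hx hy hg L hL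
    simp only [STab.conjOk, List.all_eq_true, List.mem_range, beq_iff_eq] at hg
    rw [MonoidHom.mem_ker, map_mul, map_inv, mul_inv_eq_one, map_mul, map_mul, map_inv,
      mul_inv_eq_iff_eq_mul]
    refine Subtype.ext ?_
    rw [Subgroup.coe_mul, Subgroup.coe_mul, hL]
    exact ((sift_spec hc g).1.mul (himg x hx)).eq ((himg y hy).mul (sift_spec hc g).1) hg
  have hsame : ∀ u w, zp u = zp w → u + w = 0 := fun u w h => by
    rw [hzinj _ _ h, CharTwo.add_self_eq_zero]
  have heq : ∀ q, t.eqOk n c q = true → par M v (t.eqMask q) = 0 := by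
    intro q hq
    cases q with
    | tree a =>
      simp only [STab.eqOk, decide_eq_true_eq] at hq
      have h := hpath 0 hN (t.wd a) (hwd a hq)
      rw [hs0, one_mul, (htab a hq).1.1.1.1] at h
      apply hzinj
      rw [show zp 0 = 1 from if_pos rfl]
      exact mul_eq_right.mp h.symm
    | loop a w₁ w₂ =>
      simp only [STab.eqOk, Bool.and_eq_true, decide_eq_true_eq, List.all_eq_true, beq_iff_eq,
        List.mem_append] at hq
      obtain ⟨⟨⟨ha, hw⟩, h0⟩, ha'⟩ := hq
      have q1 := hpath 0 hN w₁ fun i hi => hw i (Or.inl hi)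
      have q2 := hpath 0 hN w₂ fun i hi => hw i (Or.inr hi)
      have q3 := hpath a ha w₁ fun i hi => hw i (Or.inl hi)
      have q4 := hpath a ha w₂ fun i hi => hw i (Or.inr hi)
      rw [hs0, one_mul, h0] at q1
      rw [hs0, one_mul] at q2
      rw [ha'] at q3
      set S0 := s (t.stop 0 w₂)
      set Sa := s (t.stop a w₂)
      simp only [STab.eqMask, par_xor]
      set p1 := par M v (t.mask 0 w₁)
      set p2 := par M v (t.mask 0 w₂)
      set p3 := par M v (t.mask a w₁)
      set p4 := par M v (t.mask a w₂)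
      refine hsame (p1 + p2) (p3 + p4) ?_
      have e12 : W w₁ = zp (p1 + p2) * W w₂ := by
        rw [q1, q2, hzadd, ← mul_assoc, mul_assoc (zp p1), ← hzadd p2 p2,
          CharTwo.add_self_eq_zero, show zp 0 = 1 from if_pos rfl, mul_one]
      rw [e12, ← mul_assoc, Subgroup.mem_center_iff.mp (hzc (p1 + p2)) (s a), mul_assoc, q4,
        ← mul_assoc, ← hzadd] at q3
      have h5 : p1 + p2 + p4 = p3 := hzinj _ _ (mul_right_cancel q3)
      congr 1
      rw [← h5]
      rcases (show ∀ u : ZMod 2, u = 0 ∨ u = 1 by decide) p4 with h | h <;> rw [h] <;>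
        simp [add_assoc, CharTwo.add_self_eq_zero]
    | sq x y g =>
      simp only [STab.eqOk, Bool.and_eq_true, decide_eq_true_eq, beq_iff_eq] at hq
      obtain ⟨⟨⟨⟨hx, hy⟩, hg⟩, hxx⟩, hyy⟩ := hq
      have q1 := hprod x hx x hx
      have q2 := hprod y hy y hy
      rw [hxx, hs0, mul_one] at q1
      rw [hyy, hs0, mul_one] at q2
      obtain ⟨L, hL⟩ := hτ ⟨siftPerm n c g, (sift_spec hc g).2⟩
      have hk := hconj g x y hx hy hg L hL
      set u := L * s x * L⁻¹ * (s y)⁻¹ with hu
      have hu2 : u * u = 1 := by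
        rcases hker u hk with h | h <;> simp [h, ← sq, hz2]
      simp only [STab.eqMask, par_xor]
      refine hsame _ _ ?_
      have e : L * s x * L⁻¹ = u * s y := by rw [hu]; group
      calc zp (par M v (t.mask 0 (t.wd x ++ t.wd x)))
          = L * (s x * s x) * L⁻¹ := by
            rw [q1, Subgroup.mem_center_iff.mp (hzc _) L, mul_inv_cancel_right]
        _ = (L * s x * L⁻¹) * (L * s x * L⁻¹) := by group
        _ = u * (u * (s y * s y)) := by
            rw [e, mul_assoc, ← mul_assoc (s y) u, Subgroup.mem_center_iff.mp (hcen hk) (s y),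
              mul_assoc u (s y)]
        _ = _ := by rw [← mul_assoc, hu2, one_mul, q2]
    | com x y x' y' g =>
      simp only [STab.eqOk, Bool.and_eq_true, decide_eq_true_eq, beq_iff_eq] at hq
      obtain ⟨⟨⟨⟨⟨⟨⟨hx, hy⟩, hx'⟩, hy'⟩, hg⟩, hg'⟩, hxy⟩, hxy'⟩ := hq
      obtain ⟨L, hL⟩ := hτ ⟨siftPerm n c g, (sift_spec hc g).2⟩
      have hk1 := hconj g x x' hx hx' hg L hL
      have hk2 := hconj g y y' hy hy' hg' L hL
      have hcomm : ∀ a < t.N, ∀ b < t.N,
          t.stop 0 (t.wd a ++ t.wd b) = t.stop 0 (t.wd b ++ t.wd a) →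
          ⁅s a, s b⁆ = zp (par M v (t.mask 0 (t.wd a ++ t.wd b)) +
            par M v (t.mask 0 (t.wd b ++ t.wd a))) := by
        intro a ha b hb hab
        have q1 := hprod a ha b hb
        have q2 := hprod b hb a ha
        rw [hab] at q1
        rw [commutatorElement_def, show s a * s b * (s a)⁻¹ * (s b)⁻¹ = (s a * s b) * (s b * s a)⁻¹
          by group, q1, q2, mul_inv_rev, ← mul_assoc, mul_inv_cancel_right, ← div_eq_mul_inv,
          div_eq_iff_eq_mul, ← hzadd, add_assoc, CharTwo.add_self_eq_zero, add_zero]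
      simp only [STab.eqMask, par_xor]
      refine hsame _ _ ?_
      rw [← hcomm x hx y hy hxy, ← hcomm x' hx' y' hy' hxy']
      set u := L * s x * L⁻¹ * (s x')⁻¹ with hu
      set w := L * s y * L⁻¹ * (s y')⁻¹ with hw
      have e1 : L * s x * L⁻¹ = u * s x' := by rw [hu]; group
      have e2 : L * s y * L⁻¹ = w * s y' := by rw [hw]; group
      have hcen' : ⁅s x, s y⁆ ∈ Subgroup.center Δ := by rw [hcomm x hx y hy hxy]; exact hzc _
      calc ⁅s x, s y⁆ = L * ⁅s x, s y⁆ * L⁻¹ := by
            rw [Subgroup.mem_center_iff.mp hcen' L, mul_inv_cancel_right]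
        _ = ⁅L * s x * L⁻¹, L * s y * L⁻¹⁆ := by simp only [commutatorElement_def]; group
        _ = ⁅u * s x', w * s y'⁆ := by rw [e1, e2]
        _ = ⁅s x', s y'⁆ := by
            have h1 := Subgroup.mem_center_iff.mp (hcen hk1)
            have h2 := Subgroup.mem_center_iff.mp (hcen hk2)
            rw [← h1 (s x'), ← h2 (s y')]
            simp only [commutatorElement_def, mul_inv_rev]
            calc s x' * u * (s y' * w) * (u⁻¹ * (s x')⁻¹) * (w⁻¹ * (s y')⁻¹)
                = s x' * (u * (s y' * w)) * u⁻¹ * ((s x')⁻¹ * w⁻¹) * (s y')⁻¹ := by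
                  simp only [mul_assoc]
              _ = s x' * (s y' * w) * ((s x')⁻¹ * w⁻¹) * (s y')⁻¹ := by
                  rw [← h1 (s y' * w)]; simp only [mul_assoc, mul_inv_cancel_left]
              _ = s x' * s y' * (w * ((s x')⁻¹ * w⁻¹)) * (s y')⁻¹ := by simp only [mul_assoc]
              _ = s x' * s y' * (s x')⁻¹ * (s y')⁻¹ := by
                  rw [← h2 ((s x')⁻¹ * w⁻¹)]; simp only [mul_assoc, inv_mul_cancel, mul_one]
    | sqs x y x' y' g =>
      simp only [STab.eqOk, Bool.and_eq_true, decide_eq_true_eq, beq_iff_eq] at hq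
      obtain ⟨⟨⟨⟨⟨⟨⟨hx, hy⟩, hx'⟩, hy'⟩, hg⟩, hg'⟩, hxy⟩, hxy'⟩ := hq
      obtain ⟨L, hL⟩ := hτ ⟨siftPerm n c g, (sift_spec hc g).2⟩
      have hk1 := hconj g x x' hx hx' hg L hL
      have hk2 := hconj g y y' hy hy' hg' L hL
      have hdiv : ∀ a < t.N, ∀ b < t.N,
          t.stop 0 (t.wd a ++ t.wd a) = t.stop 0 (t.wd b ++ t.wd b) →
          s a * s a * (s b * s b)⁻¹ = zp (par M v (t.mask 0 (t.wd a ++ t.wd a)) +
            par M v (t.mask 0 (t.wd b ++ t.wd b))) := by
        intro a ha b hb hab
        have q1 := hprod a ha a ha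
        have q2 := hprod b hb b hb
        rw [hab] at q1
        rw [q1, q2, mul_inv_rev, ← mul_assoc, mul_inv_cancel_right, ← div_eq_mul_inv,
          div_eq_iff_eq_mul, ← hzadd, add_assoc, CharTwo.add_self_eq_zero, add_zero]
      simp only [STab.eqMask, par_xor]
      refine hsame _ _ ?_
      rw [← hdiv x hx y hy hxy, ← hdiv x' hx' y' hy' hxy']
      have hcen' : s x * s x * (s y * s y)⁻¹ ∈ Subgroup.center Δ := by
        rw [hdiv x hx y hy hxy]; exact hzc _
      have hsqr : ∀ a a', L * s a * L⁻¹ * (s a')⁻¹ ∈ τ.ker →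
          L * (s a * s a) * L⁻¹ = s a' * s a' := by
        intro a a' ha
        set u := L * s a * L⁻¹ * (s a')⁻¹ with hu
        have hu2 : u * u = 1 := by
          rcases hker u ha with h | h <;> simp [h, ← sq, hz2]
        have hc' := Subgroup.mem_center_iff.mp (hcen ha) (s a')
        calc L * (s a * s a) * L⁻¹ = (L * s a * L⁻¹) * (L * s a * L⁻¹) := by group
          _ = (u * s a') * (u * s a') := by rw [show L * s a * L⁻¹ = u * s a' by rw [hu]; group]
          _ = u * u * (s a' * s a') := by
              rw [mul_assoc, ← mul_assoc (s a') u, hc']; simp only [mul_assoc]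
          _ = s a' * s a' := by rw [hu2, one_mul]
      calc s x * s x * (s y * s y)⁻¹ = L * (s x * s x * (s y * s y)⁻¹) * L⁻¹ := by
            rw [Subgroup.mem_center_iff.mp hcen' L, mul_inv_cancel_right]
        _ = (L * (s x * s x) * L⁻¹) * (L * (s y * s y) * L⁻¹)⁻¹ := by group
        _ = _ := by rw [hsqr x x' hk1, hsqr y y' hk2]
  -- all tails vanish
  simp only [STab.certOk, Bool.and_eq_true, List.all_eq_true, List.mem_range, decide_eq_true_eq,
    beq_iff_eq] at hcert
  obtain ⟨hrows, hpos⟩ := hcert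
  have hrow : ∀ j < len, par M v (rowMask ((getC SStep.dflt steps j).top,
      (getC SStep.dflt steps j).rest)) = 0 := by
    intro j
    induction j using Nat.strong_induction_on with
    | _ j ih =>
      intro hj
      obtain ⟨⟨⟨hok, hch⟩, -⟩, hm⟩ := hrows j hj
      rw [← hm, par_foldl M v _ _ _ fun l hl => ih l (hch l hl) ((hch l hl).trans hj)]
      exact heq _ hok
  have hv0 : ∀ h < M, v h = 0 := by
    intro h
    induction h using Nat.strong_induction_on with
    | _ h ih =>
      intro hh
      obtain ⟨hp, htop⟩ := hpos h hh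
      obtain ⟨⟨-, hrest⟩, -⟩ := hrows _ hp
      have := hrow _ hp
      rw [rowMask, htop, par_foldl M v _ _ _ (fun l hl => by
        rw [par_shift v ((htop ▸ hrest l hl).trans hh)]
        exact ih l (htop ▸ hrest l hl) ((htop ▸ hrest l hl).trans hh)), par_shift v hh] at this
      exact this
  -- the complement
  set H : Subgroup Δ := Subgroup.closure (G '' {i | i < t.k}) with hH
  have hHs : ∀ x ∈ H, ∃ a < t.N, x = s a := by
    intro x hx
    rw [hH, ← Subgroup.mem_toSubmonoid, Subgroup.closure_toSubmonoid_of_finite] at hx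
    induction hx using Submonoid.closure_induction_right with
    | one => exact ⟨0, hN, hs0.symm⟩
    | mul_right x _ y hy ih =>
      obtain ⟨a, ha, rfl⟩ := ih
      obtain ⟨i, hi, rfl⟩ := hy
      refine ⟨_, ((htab a ha).2 i hi).1, ?_⟩
      rw [hstep a ha i hi, hv0 _ (hbit a ha i hi), show zp 0 = 1 from if_pos rfl, one_mul]
  have hS' : z ∈ ⁅(H.map τ).comap τ, (H.map τ).comap τ⁆ := by
    refine mem_commutator_comap τ hτ hcen hz hz' hz2 ?_
    have hle : grp n cS ≤ (H.map τ).map (grp n c).subtype := by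
      refine (grp_le_closure (fun b hb => ?_) hslp hcov).trans ((Subgroup.closure_le _).mpr ?_)
      · obtain ⟨i, hi, rfl⟩ := List.getElem_of_mem hb
        rw [← List.getD_eq_getElem _ 0 hi]
        exact (hgm i hi).1
      · rintro _ ⟨b, hb, rfl⟩
        obtain ⟨i, hi, rfl⟩ := List.getElem_of_mem hb
        refine ⟨τ (G i), ⟨G i, Subgroup.subset_closure ⟨i, hk ▸ hi, rfl⟩, rfl⟩, ?_⟩
        rw [hG]
        simp only [gi, dif_pos hi, Subgroup.coe_subtype, List.getD_eq_getElem _ 0 hi]
    have h1 : certOrder cS ∣ Nat.card (H.map τ) := by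
      rw [← card_grp hS, ← Subgroup.card_map_of_injective (Subgroup.subtype_injective (grp n c))]
      exact Subgroup.card_dvd_of_le hle
    obtain ⟨m, hm⟩ := h1
    have h := Subgroup.index_mul_card (H.map τ)
    rw [hm, card_grp hc, hd] at h
    have hne : 0 < certOrder cS := by rw [← card_grp hS]; exact Nat.card_pos
    exact hodd.coprime_dvd_right ⟨m, by nlinarith [hne]⟩
  have hzH : z ∈ H := by
    rw [Subgroup.comap_map_eq] at hS'
    refine (Subgroup.commutator_le.mpr ?_) hS'
    intro a ha b hb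
    haveI := Cfsg.Agent.Lib.SchurMultiplier.normal_of_le_center hcen
    rw [← SetLike.mem_coe, Subgroup.mul_normal] at ha hb
    obtain ⟨a, ha, k, hk', rfl⟩ := ha
    obtain ⟨b, hb, l, hl, rfl⟩ := hb
    have hk1 := Subgroup.mem_center_iff.mp (hcen hk')
    have hl1 := Subgroup.mem_center_iff.mp (hcen hl)
    have e : ⁅a * k, b * l⁆ = ⁅a, b⁆ := by
      simp only [commutatorElement_def, mul_inv_rev]
      calc a * k * (b * l) * (k⁻¹ * a⁻¹) * (l⁻¹ * b⁻¹)
          = a * (k * (b * l)) * k⁻¹ * (a⁻¹ * l⁻¹) * b⁻¹ := by simp only [mul_assoc]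
        _ = a * (b * l) * (a⁻¹ * l⁻¹) * b⁻¹ := by
            rw [← hk1 (b * l)]; simp only [mul_assoc, mul_inv_cancel_left]
        _ = a * b * (l * (a⁻¹ * l⁻¹)) * b⁻¹ := by simp only [mul_assoc]
        _ = a * b * a⁻¹ * b⁻¹ := by
            rw [← hl1 (a⁻¹ * l⁻¹)]; simp only [mul_assoc, inv_mul_cancel, mul_one]
    show ⁅a * k, b * l⁆ ∈ H
    rw [e]
    exact mul_mem (mul_mem (mul_mem ha hb) (inv_mem ha)) (inv_mem hb)
  obtain ⟨a, ha, he⟩ := hHs z hzH
  have ha0 : a = 0 := by
    rcases (htab a ha).1.1.2 with h | ⟨j, hj, h⟩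
    · exact h
    · exfalso
      have h1 := himg a ha
      rw [← he, MonoidHom.mem_ker.mp hz] at h1
      exact h (h1 ⟨j, hj⟩).symm
  exact hz1 (by rw [he, ha0, hs0])

end Cfsg.Agent.Lib.Compute
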